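import Cfsg.Agent.Lib.Components.Bender
import Cfsg.Agent.Lib.Coprime.Generation
import Cfsg.Agent.Lib.Solvable.FrattiniFitting

/-!
A membership criterion for `O_q(U)` in a solvable group: the preimage `RQ q U` of `F(U / O_q(U))`.
-/

set_option autoImplicit false
set_option linter.style.haveILetI false
set_option linter.unusedSectionVars false

namespace CfsgLib.Components.SFT

open Subgroup CfsgLib.Solvable CfsgLib.Components.Bender
open scoped commutatorElement

variable {G : Type*} [Group G] [Finite G]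

/-- The preimage of `F(U/O_q(U))`, inside `G`. -/
def RQ (q : ℕ) (U : Subgroup G) : Subgroup G :=
  ((Cfsg.fittingSubgroup (↥U ⧸ Cfsg.pCore q ↥U)).comap
    (QuotientGroup.mk' (Cfsg.pCore q ↥U))).map U.subtype

theorem RQ_le (q : ℕ) (U : Subgroup G) : RQ q U ≤ U := map_subtype_le _

theorem coreIn_le_RQ (q : ℕ) (U : Subgroup G) : coreIn q U ≤ RQ q U :=
  Subgroup.map_mono (QuotientGroup.le_comap_mk' _ _)

instance comap_fitting_characteristic (q : ℕ) (X : Type*) [Group X] [Finite X] :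
    ((Cfsg.fittingSubgroup (X ⧸ Cfsg.pCore q X)).comap
      (QuotientGroup.mk' (Cfsg.pCore q X))).Characteristic := by
  refine Subgroup.characteristic_iff_comap_eq.mpr fun φ => ?_
  have hφ : (Cfsg.pCore q X).map φ.toMonoidHom = Cfsg.pCore q X :=
    Subgroup.characteristic_iff_map_eq.mp inferInstance φ
  let ψ := QuotientGroup.congr (Cfsg.pCore q X) (Cfsg.pCore q X) φ hφ
  have hψ := Subgroup.characteristic_iff_comap_eq.mp
    (Cores.fittingSubgroup_characteristic (G := X ⧸ Cfsg.pCore q X)) ψ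
  rw [Subgroup.comap_comap]
  conv_rhs => rw [← hψ, Subgroup.comap_comap]
  congr 1

theorem le_normalizer_RQ {q : ℕ} {U : Subgroup G} {g : G} (hg : g ∈ normalizer (U : Set G)) :
    g ∈ normalizer (RQ q U : Set G) :=
  map_subtype_normal_of_characteristic hg

theorem pCore_quotient_eq_bot (q : ℕ) [hq : Fact q.Prime] (X : Type*) [Group X] [Finite X] :
    Cfsg.pCore q (X ⧸ Cfsg.pCore q X) = ⊥ := by
  set N := Cfsg.pCore q X
  set K := Cfsg.pCore q (X ⧸ N)
  haveI hK : K.Normal := Subgroup.sSup_normal _ fun _ h => h.1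
  have hKq : IsPGroup q K := Cores.isPGroup_pCore q
  have hker : IsPGroup q (QuotientGroup.mk' N).ker := by
    rw [QuotientGroup.ker_mk']; exact Cores.isPGroup_pCore q
  have h : K.comap (QuotientGroup.mk' N) ≤ N :=
    Cores.le_pCore (hKq.comap_of_ker_isPGroup _ hker)
  rw [← Subgroup.map_comap_eq_self_of_surjective (QuotientGroup.mk'_surjective N) K,
    eq_bot_iff]
  refine (Subgroup.map_mono h).trans ?_
  rw [QuotientGroup.map_mk'_self]

/-- A `q`-subgroup of `RQ q U` lies in `O_q(U)`. -/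
theorem le_coreIn_of_le_RQ {q : ℕ} [hq : Fact q.Prime] {U P : Subgroup G} (hP : IsPGroup q P)
    (hle : P ≤ RQ q U) : P ≤ coreIn q U := by
  set N := Cfsg.pCore q ↥U
  set F := Cfsg.fittingSubgroup (↥U ⧸ N)
  have hPU : P ≤ U := hle.trans (RQ_le q U)
  set Pb := (P.subgroupOf U).map (QuotientGroup.mk' N)
  have hPbq : IsPGroup q Pb := (hP.of_equiv (subgroupOfEquivOfLe hPU).symm).map _
  have hPbF : Pb ≤ F := by
    rintro _ ⟨x, hx, rfl⟩
    obtain ⟨y, hy, e⟩ := hle hx
    rwa [← U.subtype_injective e]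
  have hFc : (Nat.card F).Coprime q := by
    refine (Cores.coprime_card_pPrimeCore (G := ↥U ⧸ N) q).coprime_dvd_left (card_dvd_of_le ?_)
    rw [show F = _ from Cores.fittingSubgroup_eq_iSup_pCore]
    refine iSup_le fun s => ?_
    by_cases hs : (s : ℕ) = q
    · rw [hs, pCore_quotient_eq_bot]; exact bot_le
    · haveI := Fact.mk s.2
      exact Cores.pCore_le_pPrimeCore hq.out hs
  have hb : Pb = ⊥ := by
    obtain ⟨k, hk⟩ := hPbq.exists_card_eq
    have h1 : (Nat.card Pb).Coprime q := hFc.coprime_dvd_left (card_dvd_of_le hPbF)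
    refine card_eq_one.mp ?_
    rcases Nat.eq_zero_or_pos k with rfl | hk0
    · simpa using hk
    · rw [hk, Nat.coprime_pow_left_iff hk0, Nat.coprime_self] at h1
      exact absurd h1 hq.out.ne_one
  intro x hx
  have h1 := (Subgroup.map_eq_bot_iff _).mp hb (show (⟨x, hPU hx⟩ : U) ∈ P.subgroupOf U from hx)
  rw [QuotientGroup.ker_mk'] at h1
  exact ⟨_, h1, rfl⟩

/-- `C_U(RQ / O_q) ≤ RQ`. -/
theorem mem_RQ_of_commutator {q : ℕ} {U : Subgroup G} (hU : Group.IsSolvable U) {x : G}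
    (hx : x ∈ U) (h : ∀ r ∈ RQ q U, ⁅x, r⁆ ∈ coreIn q U) : x ∈ RQ q U := by
  haveI := hU
  set N := Cfsg.pCore q ↥U
  refine ⟨⟨x, hx⟩, ?_, rfl⟩
  show QuotientGroup.mk' N ⟨x, hx⟩ ∈ Cfsg.fittingSubgroup (↥U ⧸ N)
  refine Cores.centralizer_fittingSubgroup_le (mem_centralizer_iff.mpr fun y hy => ?_)
  obtain ⟨r, rfl⟩ := QuotientGroup.mk'_surjective N y
  obtain ⟨w, hw, e⟩ := h r ⟨r, hy, rfl⟩
  have hw' : ⁅(⟨x, hx⟩ : U), r⁆ ∈ N := by
    have : w = ⁅(⟨x, hx⟩ : U), r⁆ := U.subtype_injective (by rw [e, map_commutatorElement]; rfl)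
    rwa [← this]
  have := (QuotientGroup.eq_one_iff _).mpr hw'
  rw [← QuotientGroup.mk'_apply, map_commutatorElement, commutatorElement_eq_one_iff_mul_comm] at this
  exact this.symm

/-- A `q`-subgroup centralising `RQ` modulo `O_q(U)` lies in `O_q(U)`. -/
theorem le_coreIn_of_commutator {q : ℕ} [Fact q.Prime] {U P : Subgroup G} (hU : Group.IsSolvable U)
    (hP : IsPGroup q P) (hPU : P ≤ U) (h : ∀ x ∈ P, ∀ r ∈ RQ q U, ⁅x, r⁆ ∈ coreIn q U) :
    P ≤ coreIn q U :=
  le_coreIn_of_le_RQ hP fun x hx => mem_RQ_of_commutator hU (hPU hx) (h x hx)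

end CfsgLib.Components.SFT
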