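import Cfsg.Agent.Lib.Components.SFT.Cover

/-!
The covering lemma for `RQ q U` modulo `O_q(U)`.
-/

set_option autoImplicit false
set_option linter.style.haveILetI false
set_option linter.unusedSectionVars false

namespace CfsgLib.Components.SFT

open Subgroup CfsgLib.Solvable CfsgLib.Components.Bender
open scoped commutatorElement

variable {G : Type*} [Group G] [Finite G]

theorem mem_normalizer_coreIn {q : ℕ} {U : Subgroup G} {g : G}
    (hg : g ∈ normalizer (U : Set G)) : g ∈ normalizer (coreIn q U : Set G) :=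
  map_subtype_normal_of_characteristic hg

theorem le_normalizer_RQ' (q : ℕ) (U : Subgroup G) : U ≤ normalizer (RQ q U : Set G) :=
  fun _ h => le_normalizer_RQ (Subgroup.le_normalizer h)

/-- `RQ / O_q` is nilpotent of order prime to `q`. -/
theorem RQ_image {q : ℕ} [hq : Fact q.Prime] (U : Subgroup G) {X : Type*} [Group X] [Finite X]
    {H : Subgroup G} (f : H →* X) (hH : RQ q U ≤ H)
    (hker : ∀ a : H, f a = 1 ↔ (a : G) ∈ coreIn q U) :
    Group.IsNilpotent ↥(((RQ q U).subgroupOf H).map f) ∧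
      (Nat.card ↥(((RQ q U).subgroupOf H).map f)).Coprime q := by
  set N := Cfsg.pCore q ↥U
  set F := Cfsg.fittingSubgroup (↥U ⧸ N)
  set R0 : Subgroup U := F.comap (QuotientGroup.mk' N) with hR0
  have hmem : ∀ r : R0, ((r : U) : G) ∈ H := fun r => hH ⟨r, r.2, rfl⟩
  let φ : R0 →* X := f.comp
    { toFun := fun r => ⟨((r : U) : G), hmem r⟩
      map_one' := rfl
      map_mul' := fun _ _ => rfl }
  have hrange : φ.range = ((RQ q U).subgroupOf H).map f := by
    ext z
    constructor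
    · rintro ⟨r, rfl⟩
      exact ⟨⟨_, hmem r⟩, ⟨r, r.2, rfl⟩, rfl⟩
    · rintro ⟨a, ⟨r, hr, e⟩, rfl⟩
      refine ⟨⟨r, hr⟩, ?_⟩
      exact congrArg f (Subtype.ext e)
  let ψ : R0 →* F := (QuotientGroup.mk' N).subgroupComap F
  have hψ : Function.Surjective ψ :=
    MonoidHom.subgroupComap_surjective_of_surjective _ _ (QuotientGroup.mk'_surjective N)
  have hk : ψ.ker ≤ φ.ker := by
    intro r hr
    rw [MonoidHom.mem_ker] at hr
    have h1 := congrArg Subtype.val hr
    have h2 : (r : U) ∈ N := (QuotientGroup.eq_one_iff _).mp h1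
    rw [MonoidHom.mem_ker]
    exact (hker _).mpr ⟨_, h2, rfl⟩
  let χ : F →* X := ψ.liftOfSurjective hψ ⟨φ, hk⟩
  have hχ : χ.range = φ.range := by
    ext z
    constructor
    · rintro ⟨w, rfl⟩
      obtain ⟨r, rfl⟩ := hψ w
      exact ⟨r, (MonoidHom.liftOfRightInverse_comp_apply ψ _ _ ⟨φ, hk⟩ r).symm⟩
    · rintro ⟨r, rfl⟩
      exact ⟨ψ r, MonoidHom.liftOfRightInverse_comp_apply ψ _ _ ⟨φ, hk⟩ r⟩
  rw [← hrange, ← hχ]
  haveI : Group.IsNilpotent F := Cores.fittingSubgroup_isNilpotent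
  refine ⟨Group.nilpotent_of_surjective χ.rangeRestrict χ.rangeRestrict_surjective, ?_⟩
  refine Nat.Coprime.coprime_dvd_left (Subgroup.card_range_dvd χ) ?_
  refine (Cores.coprime_card_pPrimeCore (G := ↥U ⧸ N) q).coprime_dvd_left (card_dvd_of_le ?_)
  rw [show F = _ from Cores.fittingSubgroup_eq_iSup_pCore]
  refine iSup_le fun s => ?_
  by_cases hs : (s : ℕ) = q
  · rw [hs, pCore_quotient_eq_bot]; exact bot_le
  · haveI := Fact.mk s.2
    exact Cores.pCore_le_pPrimeCore hq.out hs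

/-- If `RQ q U` is generated by elements centralised by `P` modulo `O_q(U)` and by elements
centralised by `g`, then `[P, g]` centralises `RQ q U` modulo `O_q(U)`. -/
theorem commutator_mem_coreIn_of_cover {q : ℕ} [hq : Fact q.Prime] {U P : Subgroup G} {g : G}
    (hP : IsPGroup q P) (hPU : P ≤ U) (hgU : g ∈ normalizer (U : Set G))
    (hgP : g ∈ normalizer (P : Set G))
    (hgen : RQ q U ≤ closure {r | r ∈ RQ q U ∧
      ((∀ x ∈ P, ⁅x, r⁆ ∈ coreIn q U) ∨ g * r * g⁻¹ = r)})
    {x r : G} (hx : x ∈ P) (hr : r ∈ RQ q U) : ⁅⁅x, g⁆, r⁆ ∈ coreIn q U := by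
  set N := coreIn q U with hN
  set H := normalizer (N : Set G) with hHdef
  have hgH : g ∈ H := mem_normalizer_coreIn hgU
  have hPH : P ≤ H := hPU.trans (le_normalizer_coreIn q U)
  have hRH : RQ q U ≤ H := (RQ_le q U).trans (le_normalizer_coreIn q U)
  haveI : (N.subgroupOf H).Normal :=
    (normal_subgroupOf_iff_le_normalizer Subgroup.le_normalizer).mpr le_rfl
  set f := QuotientGroup.mk' (N.subgroupOf H)
  have hker : ∀ a : H, f a = 1 ↔ (a : G) ∈ N := fun a => QuotientGroup.eq_one_iff a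
  set Pb := (P.subgroupOf H).map f
  set Rb := ((RQ q U).subgroupOf H).map f
  obtain ⟨hnil, hcop⟩ := RQ_image (q := q) U f hRH hker
  have hPbR : Pb ≤ normalizer (Rb : Set _) := by
    rintro _ ⟨a, ha, rfl⟩
    refine le_normalizer_map f (mem_map_of_mem f ?_)
    rw [← subgroupOf_normalizer_eq hRH]
    exact le_normalizer_RQ (Subgroup.le_normalizer (hPU ha))
  have hgRb : f ⟨g, hgH⟩ ∈ normalizer (Rb : Set _) := le_normalizer_map f (mem_map_of_mem f (by
    rw [← subgroupOf_normalizer_eq hRH]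
    exact le_normalizer_RQ hgU))
  have hgPb : f ⟨g, hgH⟩ ∈ normalizer (Pb : Set _) := le_normalizer_map f (mem_map_of_mem f (by
    rw [← subgroupOf_normalizer_eq hPH]
    exact hgP))
  have hgenb : Rb ≤ (Rb ⊓ centralizer (Pb : Set _)) ⊔ (Rb ⊓ centralizer {f ⟨g, hgH⟩}) := by
    intro z hz
    obtain ⟨a, ha, rfl⟩ := hz
    set T := (Rb ⊓ centralizer (Pb : Set _)) ⊔ (Rb ⊓ centralizer {f ⟨g, hgH⟩})
    suffices h : RQ q U ≤ (T.comap f).map H.subtype by
      obtain ⟨b, hb, e⟩ := h ha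
      rwa [← H.subtype_injective e]
    refine hgen.trans ((closure_le _).mpr ?_)
    rintro w ⟨hw, hcase⟩
    refine ⟨⟨w, hRH hw⟩, ?_, rfl⟩
    rcases hcase with h | h
    · refine mem_sup_left ⟨⟨⟨w, hRH hw⟩, hw, rfl⟩, mem_centralizer_iff.mpr ?_⟩
      rintro _ ⟨b, hb, rfl⟩
      rw [← commutatorElement_eq_one_iff_mul_comm, ← map_commutatorElement]
      exact (hker _).mpr (h (b : G) hb)
    · refine mem_sup_right ⟨⟨⟨w, hRH hw⟩, hw, rfl⟩, mem_centralizer_singleton_iff.mpr ?_⟩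
      rw [← map_mul, ← map_mul]
      exact congrArg f (Subtype.ext (show w * g = g * w from (mul_inv_eq_iff_eq_mul.mp h).symm))
  have := commutator_le_centralizer_of_cover (R := Rb) (P := Pb) (g := f ⟨g, hgH⟩)
    (x := f ⟨x, hPH hx⟩) hnil
    ((hP.of_equiv (subgroupOfEquivOfLe hPH).symm).map f) hcop hPbR hgRb hgPb inf_le_right hgenb
    inf_le_left ⟨_, hx, rfl⟩
  have h2 := (mem_centralizer_iff.mp this _ ⟨⟨r, hRH hr⟩, hr, rfl⟩).symm
  rw [← map_commutatorElement, ← commutatorElement_eq_one_iff_mul_comm, ← map_commutatorElement,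
    hker] at h2
  exact h2

end CfsgLib.Components.SFT
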