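import Cfsg.Agent.Lib.Components.SFT.Tinv
import Cfsg.Agent.Lib.Components.SFT.CoverCore

/-!
`q`-subgroups covered by fixed points of lines lie in `O_q`; the universal group `Yinv q`.
-/

set_option autoImplicit false
set_option linter.style.haveILetI false
set_option linter.unusedSectionVars false

namespace CfsgLib.Components.SFT

open Subgroup CfsgLib.Components.Signalizer CfsgLib.Components.Bender
open scoped commutatorElement

variable {G : Type*} [Group G] [Finite G]
variable {p : ℕ} [hp : Fact p.Prime] {A : Subgroup G} {θ : G → Subgroup G}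

/-- The elements of `U` which commute with `P` modulo `O_q(U)`. -/
def centMod (q : ℕ) (U P : Subgroup G) : Subgroup G where
  carrier := {r | r ∈ U ∧ ∀ x ∈ P, ⁅x, r⁆ ∈ coreIn q U}
  one_mem' := ⟨one_mem _, fun x _ => by simp [one_mem]⟩
  mul_mem' := fun {a b} ha hb => ⟨mul_mem ha.1 hb.1, fun x hx => by
    have e : ⁅x, a * b⁆ = ⁅x, a⁆ * (a * ⁅x, b⁆ * a⁻¹) := by
      simp only [commutatorElement_def]; group
    rw [e]
    exact mul_mem (ha.2 x hx) (conj_mem_of_mem_normalizer (le_normalizer_coreIn q U ha.1) (hb.2 x hx))⟩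
  inv_mem' := fun {a} ha => ⟨inv_mem ha.1, fun x hx => by
    have e : ⁅x, a⁻¹⁆ = a⁻¹ * ⁅x, a⁆⁻¹ * a := by simp only [commutatorElement_def]; group
    rw [e]
    exact conj_inv_mem_of_mem_normalizer (le_normalizer_coreIn q U ha.1) (inv_mem (ha.2 x hx))⟩

/-- `⁅x, r⁆ ∈ O_q(U)` if a `q`-group contains `x` and is normalised by `r ∈ RQ q U`. -/
theorem commutator_mem_of_normalized {q : ℕ} [Fact q.Prime] {U T : Subgroup G} (hT : IsPGroup q T)
    {x r : G} (hx : x ∈ T) (hxU : x ∈ U) (hr : r ∈ RQ q U) (hrT : r ∈ normalizer (T : Set G)) :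
    ⁅x, r⁆ ∈ coreIn q U := by
  refine le_coreIn_of_le_RQ (P := T ⊓ RQ q U) (hT.to_le inf_le_left) inf_le_right ⟨?_, ?_⟩
  · show ⁅x, r⁆ ∈ T
    rw [commutatorElement_def, mul_assoc x, mul_assoc x]
    exact mul_mem hx (by simpa [mul_assoc] using conj_mem_of_mem_normalizer hrT (inv_mem hx))
  · show ⁅x, r⁆ ∈ RQ q U
    rw [commutatorElement_def]
    exact mul_mem (conj_mem_of_mem_normalizer (le_normalizer_RQ' q U hxU) hr) (inv_mem hr)

namespace Setting

variable (S : Setting p A θ)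
include S

theorem mem_RQ' {q : ℕ} {U : Subgroup G} (hU : Mem p A θ U) : Mem p A θ (RQ q U) :=
  member_of_le hU (RQ_le q U) fun _ ha => le_normalizer_RQ (member_le_normalizer hU ha)

/-- A `q`-subgroup of `U ≤ C(v)` covered on every line through `v` lies in `O_q(U)`. -/
theorem le_core_of_covered {q : ℕ} [Fact q.Prime] {U P : Subgroup G} {v : G} (hU : Mem p A θ U)
    (hv : v ∈ A) (hv1 : v ≠ 1) (hUv : U ≤ centralizer {v}) (hP : IsPGroup q P) (hPU : P ≤ U)
    (h : ∀ L, Line p A L → v ∈ L → ∀ x ∈ P, ∀ r ∈ RQ q U, r ∈ centralizer (L : Set G) →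
      ⁅x, r⁆ ∈ coreIn q U) : P ≤ coreIn q U := by
  refine le_coreIn_of_commutator hU.1 hP hPU fun x hx r hr => ?_
  have hle : RQ q U ≤ centMod q U P := by
    refine (S.le_iSup_lines_through (S.mem_RQ' hU) hv hv1 ((RQ_le q U).trans hUv)).trans
      (iSup_le fun L r hr => ?_)
    exact ⟨RQ_le q U hr.1, fun x hx => h L L.2.1 L.2.2 x hx r hr.1 hr.2⟩
  exact (hle hr).2 x hx

/-- As `le_core_of_covered`, except for lines through a second point `g`: then `[P, g] ≤ O_q(U)`. -/
theorem commutator_le_core_of_covered {q : ℕ} [Fact q.Prime] {U P : Subgroup G} {v g : G}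
    (hU : Mem p A θ U) (hv : v ∈ A) (hv1 : v ≠ 1) (hUv : U ≤ centralizer {v})
    (hP : IsPGroup q P) (hPU : P ≤ U) (hg : g ∈ A) (hgP : g ∈ normalizer (P : Set G))
    (h : ∀ L, Line p A L → v ∈ L → g ∉ L → ∀ x ∈ P, ∀ r ∈ RQ q U,
      r ∈ centralizer (L : Set G) → ⁅x, r⁆ ∈ coreIn q U) :
    ∀ x ∈ P, ⁅x, g⁆ ∈ coreIn q U := by
  have hgU : g ∈ normalizer (U : Set G) := member_le_normalizer hU hg
  have hgen : RQ q U ≤ closure {r | r ∈ RQ q U ∧
      ((∀ x ∈ P, ⁅x, r⁆ ∈ coreIn q U) ∨ g * r * g⁻¹ = r)} := by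
    refine (S.le_iSup_lines_through (S.mem_RQ' hU) hv hv1 ((RQ_le q U).trans hUv)).trans
      (iSup_le fun L r hr => subset_closure ⟨hr.1, ?_⟩)
    by_cases hgL : g ∈ (L : Subgroup G)
    · refine .inr ?_
      rw [mem_centralizer_iff.mp hr.2 g hgL, mul_inv_cancel_right]
    · exact .inl fun x hx => h L L.2.1 L.2.2 hgL x hx r hr.1 hr.2
  intro x hx
  set Q := closure ((fun y => ⁅y, g⁆) '' (P : Set G))
  have hQP : Q ≤ P := (closure_le _).mpr (by
    rintro _ ⟨y, hy, rfl⟩
    show ⁅y, g⁆ ∈ P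
    rw [commutatorElement_def, mul_assoc y, mul_assoc y]
    exact mul_mem hy (by simpa [mul_assoc] using conj_mem_of_mem_normalizer hgP (inv_mem hy)))
  refine le_coreIn_of_commutator hU.1 (hP.to_le hQP) (hQP.trans hPU) (fun y hy r hr => ?_)
    (subset_closure ⟨x, hx, rfl⟩)
  -- the elements commuting with `r` modulo `O_q(U)`
  induction hy using closure_induction generalizing r with
  | mem y hy =>
    obtain ⟨z, hz, rfl⟩ := hy
    exact commutator_mem_coreIn_of_cover hP hPU hgU hgP hgen hz hr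
  | one => simp [one_mem]
  | mul a b ha hb iha ihb =>
    have e : ⁅a * b, r⁆ = a * ⁅b, r⁆ * a⁻¹ * ⁅a, r⁆ := by
      simp only [commutatorElement_def]; group
    rw [e]
    exact mul_mem (conj_mem_of_mem_normalizer (le_normalizer_coreIn q U (hPU (hQP ha))) (ihb r hr))
      (iha r hr)
  | inv a ha iha =>
    have e : ⁅a⁻¹, r⁆ = a⁻¹ * ⁅a, r⁆⁻¹ * a := by simp only [commutatorElement_def]; group
    rw [e]
    exact conj_inv_mem_of_mem_normalizer (le_normalizer_coreIn q U (hPU (hQP ha))) (inv_mem (iha r hr))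

end Setting

end CfsgLib.Components.SFT
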