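import Cfsg.Agent.Lib.Components.SFT.TwoLemma
import Cfsg.Agent.Lib.Solvable.FPFOperators.ChiefFactor

/-!
Centralising a coprime section from centralising the fixed points of an operator.
-/

set_option autoImplicit false
set_option linter.style.haveILetI false
set_option maxHeartbeats 400000

universe u

namespace CfsgLib.Components.SFT

open Subgroup CfsgLib.Solvable.FPFOperators
open scoped commutatorElement

/-- Actions trivial on all elementary chief factors of a coprime section are trivial. -/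
theorem commutator_mem_of_chief_aux {X : Type u} [Group X] [Finite X] {P N₀ : Subgroup X}
    [N₀.Normal] (n : ℕ) :
    ∀ M₀ : Subgroup X, M₀.Normal → N₀ ≤ M₀ → Group.IsSolvable M₀ →
      (Nat.card P).Coprime (N₀.relIndex M₀) →
      (∀ N M : Subgroup X, IsChief N M → N₀ ≤ N → M ≤ M₀ → ∀ t : ℕ, t.Prime →
        t ∣ N₀.relIndex M₀ → (∀ a ∈ M, a ^ t ∈ N) → (∀ a ∈ M, ∀ b ∈ M, ⁅a, b⁆ ∈ N) →
        ∀ g ∈ P, ∀ m ∈ M, ⁅g, m⁆ ∈ N) →
      Nat.card M₀ = n → ∀ g ∈ P, ∀ m ∈ M₀, ⁅g, m⁆ ∈ N₀ := by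
  induction n using Nat.strong_induction_on with
  | _ n ih =>
  intro M₀ hM₀n hle hsol hcop hch hn g hg m hm
  by_cases heq : N₀ = M₀
  · subst heq
    rw [commutatorElement_def]
    exact mul_mem (hM₀n.conj_mem m hm g) (inv_mem hm)
  obtain ⟨N, hN₀N, ⟨hNn, hNM⟩, hmax⟩ := Finite.exists_le_maximal
    (p := fun L : Subgroup X => L.Normal ∧ L < M₀) ⟨inferInstance, lt_of_le_of_ne hle heq⟩
  have hchief : IsChief N M₀ := ⟨hNn, hM₀n, hNM, fun L hL h1 h2 => by
    rcases h2.lt_or_eq with h3 | h3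
    · exact Or.inl (le_antisymm (hmax ⟨hL, h3⟩ h1) h1)
    · exact Or.inr h3⟩
  haveI := hNn
  haveI := hsol
  obtain ⟨t, ht, hexp, hcomm⟩ := hchief.elementary (G := M₀) le_rfl
  have hmul := relIndex_mul_relIndex N₀ N M₀ hN₀N hNM.le
  have htd : t ∣ N₀.relIndex M₀ := by
    rw [← hmul]
    refine Dvd.dvd.mul_left ?_ _
    set mk := QuotientGroup.mk' N with hmk
    rw [← QuotientGroup.ker_mk' N, relIndex_ker]
    haveI : Fact t.Prime := ⟨ht⟩
    have hp : IsPGroup t (M₀.map mk) := by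
      rintro ⟨_, a, ha, rfl⟩
      exact ⟨1, Subtype.ext (by
        rw [SubmonoidClass.coe_pow, pow_one, ← map_pow, OneMemClass.coe_one]
        exact (QuotientGroup.eq_one_iff _).mpr (hexp a ha))⟩
    obtain ⟨k, hk⟩ := IsPGroup.iff_card.mp hp
    rw [hk]
    refine dvd_pow_self t fun h0 => hNM.not_ge ?_
    rw [h0, pow_zero, card_eq_one, Subgroup.map_eq_bot_iff, QuotientGroup.ker_mk'] at hk
    exact hk
  have h1 := hch N M₀ hchief hN₀N le_rfl t ht htd hexp hcomm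
  have hlt : Nat.card N < n := hn ▸ lt_of_le_of_ne (card_le_of_le hNM.le)
    fun he => hNM.ne (eq_of_le_of_card_ge hNM.le he.ge)
  have h2 := ih _ hlt N hNn hN₀N (Coprime.isSolvable_of_le hNM.le hsol)
    (hcop.coprime_dvd_right (Dvd.intro _ hmul))
    (fun N' M' hc h1' h2' t' ht' htd' => hch N' M' hc h1' (h2'.trans hNM.le) t' ht'
      (htd'.trans (Dvd.intro _ hmul))) rfl
  -- stability
  set mk₀ := QuotientGroup.mk' N₀ with hmk₀
  have hc : Commute (mk₀ g) (mk₀ m) := by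
    refine Coprime.commute_of_stabilizes (N := N.map mk₀) (Nat.Coprime.coprime_dvd_left
      ((orderOf_map_dvd mk₀ g).trans (by
        rw [← Nat.card_zpowers]; exact card_dvd_of_le (zpowers_le.2 hg)))
      (hcop.coprime_dvd_right ?_)) ?_ ?_
    · rw [← relIndex_ker, QuotientGroup.ker_mk']
      exact Dvd.intro _ hmul
    · refine mem_centralizer_iff.2 ?_
      rintro _ ⟨z, hz, rfl⟩
      exact (commutatorElement_eq_one_iff_mul_comm.1 ((map_commutatorElement mk₀ g z).symm.trans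
        ((QuotientGroup.eq_one_iff _).mpr (h2 g hg z hz)))).symm
    · rw [← map_commutatorElement]
      exact mem_map_of_mem mk₀ (h1 g hg m hm)
  rw [← QuotientGroup.eq_one_iff]
  show mk₀ ⁅g, m⁆ = 1
  rw [map_commutatorElement]
  exact commutatorElement_eq_one_iff_mul_comm.2 hc.eq

variable {G : Type u} [Group G] [Finite G]

/-- Reduction of a coprime section to linear representations. -/
theorem section_reduce {p : ℕ} (hp : p.Prime) {N₀ M₀ P Q : Subgroup G} {y : G} (hle : N₀ ≤ M₀)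
    (hM₀N : M₀ ≤ normalizer (N₀ : Set G)) (hsol : Group.IsSolvable M₀) (hpM : ¬ p ∣ Nat.card M₀)
    (hys : y ^ p = 1) (hyN : y ∈ normalizer (N₀ : Set G)) (hyM : y ∈ normalizer (M₀ : Set G))
    (hPN : P ≤ normalizer (N₀ : Set G)) (hPM : P ≤ normalizer (M₀ : Set G))
    (hQN : Q ≤ normalizer (N₀ : Set G)) (hQM : Q ≤ normalizer (M₀ : Set G))
    (hcop : (Nat.card P).Coprime (N₀.relIndex M₀))
    (hfix : ∀ m ∈ M₀, y * m = m * y → ∀ g ∈ Q, ⁅g, m⁆ ∈ N₀)
    (hlin : ∀ (X : Subgroup G) (hyX : y ∈ X), normalizer (N₀ : Set G) ⊓ normalizer (M₀ : Set G) ≤ X →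
      ∀ (t : ℕ), t.Prime →
      t ∣ N₀.relIndex M₀ → t ≠ p → ∀ (K : Type) [Field K] [IsAlgClosed K] [CharP K t] (d : ℕ)
      (ρ : X →* Module.End K (Fin d → K)),
      (∀ g ∈ Q.subgroupOf X, (ρ g - 1) * ∑ i ∈ Finset.range p, ρ ((⟨y, hyX⟩ : X) ^ i) = 0) →
      (∀ g : X, (∀ m ∈ M₀, ⁅(g : G), m⁆ ∈ N₀) → ρ g = 1) →
      ∀ g ∈ P.subgroupOf X, ρ g = 1) :
    ∀ g ∈ P, ∀ m ∈ M₀, ⁅g, m⁆ ∈ N₀ := by
  set X := normalizer (N₀ : Set G) ⊓ normalizer (M₀ : Set G) with hX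
  have hM₀X : M₀ ≤ X := le_inf hM₀N le_normalizer
  have hN₀X : N₀ ≤ X := hle.trans hM₀X
  have hPX : P ≤ X := le_inf hPN hPM
  haveI : (N₀.subgroupOf X).Normal :=
    (normal_subgroupOf_iff_le_normalizer hN₀X).2 inf_le_left
  haveI hMn : (M₀.subgroupOf X).Normal :=
    (normal_subgroupOf_iff_le_normalizer hM₀X).2 inf_le_right
  have hrel : (N₀.subgroupOf X).relIndex (M₀.subgroupOf X) = N₀.relIndex M₀ :=
    Subgroup.relIndex_subgroupOf hM₀X
  have hsolX : Group.IsSolvable (M₀.subgroupOf X) := by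
    haveI := hsol
    exact Group.isSolvable_of_isSolvable_injective
      (f := (subgroupOfEquivOfLe hM₀X).toMonoidHom) (subgroupOfEquivOfLe hM₀X).injective
  intro g hg m hm
  refine commutator_mem_of_chief_aux (P := P.subgroupOf X) (N₀ := N₀.subgroupOf X)
    (Nat.card (M₀.subgroupOf X)) (M₀.subgroupOf X) hMn (fun x hx => hle hx) hsolX ?_ ?_ rfl
    ⟨g, hPX hg⟩ hg ⟨m, hM₀X hm⟩ hm
  · rw [hrel, Nat.card_congr (subgroupOfEquivOfLe hPX).toEquiv]
    exact hcop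
  intro N M hch h1 h2 t ht htd hexp hcomm g' hg'
  haveI := hch.normalN
  haveI := hch.normalM
  haveI : Fact t.Prime := ⟨ht⟩
  let K := AlgebraicClosure (ZMod t)
  haveI : CharP K t := charP_of_injective_algebraMap (algebraMap (ZMod t) K).injective t
  obtain ⟨d, ρ, e1, e2, -⟩ := exists_section_rep (N := N) (M := M) t K hexp hcomm
  rw [hrel] at htd
  have htp : t ≠ p := by
    rintro rfl
    exact hpM (htd.trans (relIndex_dvd_card _ _))
  refine (e1 g').1 (hlin X ⟨hyN, hyM⟩ le_rfl t ht htd htp K d ρ (fun a ha => ?_)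
    (fun a ha => (e1 a).2 fun z hz => h1 (ha (z : G) (h2 hz))) g' hg')
  refine e2 ⟨y, ⟨hyN, hyM⟩⟩ p (Subtype.ext hys) a fun x hx hyx => ?_
  -- lift a fixed point
  set yX : X := ⟨y, ⟨hyN, hyM⟩⟩ with hyXdef
  have hcopN : (Nat.card (zpowers yX)).Coprime (Nat.card N) := by
    refine Nat.Coprime.coprime_dvd_left (Nat.card_zpowers yX ▸
      orderOf_dvd_of_pow_eq_one (show yX ^ p = 1 from Subtype.ext hys)) ((hp.coprime_iff_not_dvd).2
        fun h => hpM (h.trans ?_))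
    rw [← Nat.card_congr (subgroupOfEquivOfLe hM₀X).toEquiv]
    exact card_dvd_of_le (hch.lt.le.trans h2)
  obtain ⟨n, hn, hc⟩ := Coprime.exists_mul_mem_centralizer (A := zpowers yX) (N := N)
    (by rw [normalizer_eq_top]; exact le_top) hcopN (Or.inl (Coprime.isSolvable_zpowers yX)) (k := x)
    fun b hb => by
      have hker : zpowers (QuotientGroup.mk' N yX) ≤ centralizer {QuotientGroup.mk' N x} :=
        zpowers_le.2 (mem_centralizer_singleton_iff.2 (commutatorElement_eq_one_iff_mul_comm.1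
          ((map_commutatorElement _ _ _).symm.trans ((QuotientGroup.eq_one_iff _).mpr hyx))))
      rw [← QuotientGroup.eq_one_iff]
      show QuotientGroup.mk' N ⁅b, x⁆ = 1
      rw [map_commutatorElement, commutatorElement_eq_one_iff_mul_comm]
      exact mem_centralizer_singleton_iff.1 (hker (by
        rw [← MonoidHom.map_zpowers]; exact mem_map_of_mem _ hb))
  have h3 : ⁅a, n * x⁆ ∈ N := h1 (hfix ((n * x : X) : G) (mul_mem (h2 (hch.lt.le hn)) (h2 hx))
    (congrArg Subtype.val (mem_centralizer_iff.1 hc yX (mem_zpowers yX))) (a : G) ha)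
  rw [← QuotientGroup.eq_one_iff] at h3 ⊢
  have e : QuotientGroup.mk' N (n * x) = QuotientGroup.mk' N x := by
    rw [map_mul, show QuotientGroup.mk' N n = 1 from (QuotientGroup.eq_one_iff n).2 hn, one_mul]
  show QuotientGroup.mk' N ⁅a, x⁆ = 1
  rw [map_commutatorElement, ← e, ← map_commutatorElement]
  exact h3

theorem cast_ne_zero_of_prime {t q : ℕ} (ht : t.Prime) (hq : q.Prime) (h : q ≠ t) (K : Type)
    [Field K] [CharP K t] : (q : K) ≠ 0 := fun h0 =>
  h ((Nat.prime_dvd_prime_iff_eq ht hq).mp ((CharP.cast_eq_zero_iff K t q).mp h0)).symm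

theorem ne_of_coprime_card {q t : ℕ} [Fact q.Prime] {P : Subgroup G} (hP : IsPGroup q P) (hne : P ≠ ⊥)
    {k : ℕ} (hcop : (Nat.card P).Coprime k) (ht : t ∣ k) (htp : t.Prime) : q ≠ t := by
  rintro rfl
  obtain ⟨j, hj⟩ := IsPGroup.iff_card.mp hP
  rcases Nat.eq_zero_or_pos j with rfl | hjpos
  · exact hne (card_eq_one.mp (by simpa using hj))
  · rw [hj] at hcop
    exact htp.ne_one (Nat.eq_one_of_dvd_coprimes hcop (dvd_pow_self q hjpos.ne') ht)

/-- `P = [P, y]`, a `q`-group, `q` odd or `y` without fixed points on `P`, centralises a section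
whose fixed points under `y` it centralises. -/
theorem pGroup_centralises {p q : ℕ} [hq : Fact q.Prime] (hp : p.Prime) (hqp : q ≠ p)
    {N₀ M₀ P : Subgroup G} {y : G} (hle : N₀ ≤ M₀)
    (hM₀N : M₀ ≤ normalizer (N₀ : Set G)) (hsol : Group.IsSolvable M₀) (hpM : ¬ p ∣ Nat.card M₀)
    (hqM : (Nat.card P).Coprime (N₀.relIndex M₀)) (hys : y ^ p = 1)
    (hyN : y ∈ normalizer (N₀ : Set G)) (hyM : y ∈ normalizer (M₀ : Set G))
    (hyP : y ∈ normalizer (P : Set G)) (hPN : P ≤ normalizer (N₀ : Set G))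
    (hPM : P ≤ normalizer (M₀ : Set G)) (hPq : IsPGroup q P) (hPy : P ≤ ⁅P, zpowers y⁆)
    (hreg : q ≠ 2 ∨ ∀ x ∈ P, y * x = x * y → ∀ m ∈ M₀, ⁅x, m⁆ ∈ N₀)
    (hfix : ∀ m ∈ M₀, y * m = m * y → ∀ g ∈ P, ⁅g, m⁆ ∈ N₀) :
    ∀ g ∈ P, ∀ m ∈ M₀, ⁅g, m⁆ ∈ N₀ := by
  by_cases hne : P = ⊥
  · intro g hg m _
    rw [hne, mem_bot] at hg
    rw [hg, commutatorElement_one_left]
    exact one_mem _
  refine section_reduce hp hle hM₀N hsol hpM hys hyN hyM hPN hPM hPN hPM hqM hfix ?_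
  intro X hyX hX t ht htd htp K _ _ _ d ρ hρ hker
  have hPX : P ≤ X := (le_inf hPN hPM).trans hX
  have hqt : q ≠ t := ne_of_coprime_card hPq hne hqM htd ht
  have hyP' : (⟨y, hyX⟩ : X) ∈ normalizer ((P.subgroupOf X : Subgroup X) : Set X) :=
    mem_normalizer_iff.2 fun a => mem_normalizer_iff.1 hyP (a : G)
  rcases hreg with hq2 | hfpf
  · exact pGroup_trivial ρ hp hq2 hqp (cast_ne_zero_of_prime ht hq.out hqt K)
      (cast_ne_zero_of_prime ht hp htp.symm K) (Subtype.ext hys) hyP'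
      (hPq.of_equiv (subgroupOfEquivOfLe hPX).symm) (commutator_subgroupOf_ge hPX hPy) hρ
  · exact pGroup_trivial_fpf ρ hp hqp (cast_ne_zero_of_prime ht hq.out hqt K)
      (cast_ne_zero_of_prime ht hp htp.symm K) (Subtype.ext hys) hyP'
      (hPq.of_equiv (subgroupOfEquivOfLe hPX).symm) (commutator_subgroupOf_ge hPX hPy)
      (fun x hx hxy => hker x (hfpf _ hx (congrArg Subtype.val hxy))) hρ

/-- `⁅R, P⁆` centralises an odd section whose fixed points under `y` the `2`-group `R` centralises,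
`P = [P, y]` of odd order. -/
theorem twoGroup_centralises {p r : ℕ} [hr : Fact r.Prime] (hp : p.Prime) (hp2 : p ≠ 2) (hr2 : r ≠ 2)
    (hrp : r ≠ p) {N₀ M₀ R P : Subgroup G} {y : G} (hle : N₀ ≤ M₀)
    (hM₀N : M₀ ≤ normalizer (N₀ : Set G)) (hsol : Group.IsSolvable M₀) (hpM : ¬ p ∣ Nat.card M₀)
    (h2M : ¬ 2 ∣ N₀.relIndex M₀) (hys : y ^ p = 1)
    (hyN : y ∈ normalizer (N₀ : Set G)) (hyM : y ∈ normalizer (M₀ : Set G))
    (hyP : y ∈ normalizer (P : Set G)) (hyR : y ∈ normalizer (R : Set G))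
    (hPR : P ≤ normalizer (R : Set G)) (hR : IsPGroup 2 R) (hPr : IsPGroup r P)
    (hPy : P ≤ ⁅P, zpowers y⁆)
    (hPN : P ≤ normalizer (N₀ : Set G)) (hPM : P ≤ normalizer (M₀ : Set G))
    (hRN : R ≤ normalizer (N₀ : Set G)) (hRM : R ≤ normalizer (M₀ : Set G))
    (hfix : ∀ m ∈ M₀, y * m = m * y → ∀ g ∈ R, ⁅g, m⁆ ∈ N₀) :
    ∀ u ∈ ⁅R, P⁆, ∀ m ∈ M₀, ⁅u, m⁆ ∈ N₀ := by
  haveI : Fact (Nat.Prime 2) := ⟨Nat.prime_two⟩
  have hle' : ⁅R, P⁆ ≤ R := le_normalizer_iff_commutator_le_left.1 hPR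
  have hcop : (Nat.card ↥⁅R, P⁆).Coprime (N₀.relIndex M₀) := by
    obtain ⟨k, hk⟩ := IsPGroup.iff_card.mp (hR.to_le hle')
    rw [hk]
    exact ((Nat.prime_two.coprime_iff_not_dvd).2 h2M).pow_left k
  refine section_reduce hp hle hM₀N hsol hpM hys hyN hyM (hle'.trans hRN) (hle'.trans hRM) hRN hRM
    hcop hfix ?_
  intro X hyX hX t ht htd htp K _ _ _ d ρ hρ _ g hg
  have hPX : P ≤ X := (le_inf hPN hPM).trans hX
  have hRX : R ≤ X := (le_inf hRN hRM).trans hX
  have ht2 : 2 ≠ t := fun h => h2M (h ▸ htd)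
  have hnorm : ∀ {H : Subgroup G} (a : X), (a : G) ∈ normalizer (H : Set G) →
      a ∈ normalizer ((H.subgroupOf X : Subgroup X) : Set X) := fun {H} a ha =>
    mem_normalizer_iff.2 fun b => mem_normalizer_iff.1 ha (b : G)
  have hc := twoGroup_commute ρ (p := p) (r := r) hp hp2 hr2 hrp
    (by exact_mod_cast cast_ne_zero_of_prime ht Nat.prime_two ht2 K)
    (cast_ne_zero_of_prime ht hp htp.symm K) (R := R.subgroupOf X) (P := P.subgroupOf X)
    (s := (⟨y, hyX⟩ : X)) (Subtype.ext hys) (hR.of_equiv (subgroupOfEquivOfLe hRX).symm)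
    (hPr.of_equiv (subgroupOfEquivOfLe hPX).symm) (fun a ha => hnorm a (hPR ha)) (hnorm _ hyR)
    (hnorm _ hyP) (commutator_subgroupOf_ge hPX hPy) hρ
  have hker : ⁅R.subgroupOf X, P.subgroupOf X⁆ ≤ ρ.ker := commutator_le.2 fun a ha b hb => by
    refine MonoidHom.mem_ker.2 ?_
    rw [show ⁅a, b⁆ = a * b * (b * a)⁻¹ by rw [commutatorElement_def]; group, map_mul, ← hc a ha b hb,
      ← map_mul, mul_inv_cancel, map_one]
  refine MonoidHom.mem_ker.1 (hker ?_)
  have h1 : (g : G) ∈ (⁅R.subgroupOf X, P.subgroupOf X⁆).map X.subtype := by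
    rw [map_commutator, map_subgroupOf_eq_of_le hRX, map_subgroupOf_eq_of_le hPX]
    exact hg
  obtain ⟨g', hg', he⟩ := h1
  rwa [show g' = g from Subtype.ext he] at hg'

end CfsgLib.Components.SFT
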