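import Cfsg.Agent.Lib.Components.SFT.DTrick
import Cfsg.Agent.Lib.Components.SFT.Covered
import Cfsg.Agent.Lib.Components.SFT.Sections

/-!
The subgroups `Y_q` and their basic properties.
-/

set_option autoImplicit false
set_option linter.style.haveILetI false
set_option linter.unusedSectionVars false
set_option maxHeartbeats 400000

namespace CfsgLib.Components.SFT

open Subgroup CfsgLib.Solvable CfsgLib.Components.Signalizer CfsgLib.Components.Bender
open scoped commutatorElement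

variable {G : Type*} [Group G] [Finite G]
variable {p : ℕ} [hp : Fact p.Prime] {A : Subgroup G} {θ : G → Subgroup G}

section General

theorem commutator_mem_of_mem_normalizer {K : Subgroup G} {x g : G} (hg : g ∈ normalizer (K : Set G))
    (hx : x ∈ K) : ⁅g, x⁆ ∈ K ∧ ⁅x, g⁆ ∈ K := by
  constructor
  · rw [commutatorElement_def]
    exact mul_mem ((mem_normalizer_iff.1 hg x).1 hx) (inv_mem hx)
  · rw [commutatorElement_def, mul_assoc x, mul_assoc x]
    exact mul_mem hx ((mem_normalizer_iff.1 hg _).1 (inv_mem hx))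

theorem conj_mem_trivMod {K N : Subgroup G} {b g : G} (hb : b ∈ trivMod K N)
    (hK : g ∈ normalizer (K : Set G)) (hN : g ∈ normalizer (N : Set G)) :
    g * b * g⁻¹ ∈ trivMod K N :=
  ⟨mul_mem (mul_mem hK hb.1) (inv_mem hK), mul_mem (mul_mem hN hb.2.1) (inv_mem hN), fun k hk => by
    have e : ⁅g * b * g⁻¹, k⁆ = g * ⁅b, g⁻¹ * k * g⁆ * g⁻¹ := by
      simp only [commutatorElement_def]; group
    rw [e]
    exact conj_mem_of_mem_normalizer hN (hb.2.2 _ (conj_inv_mem_of_mem_normalizer hK hk))⟩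

theorem commutator_le_trivMod {K N X : Subgroup G} {b : G} (hb : b ∈ trivMod K N)
    (hK : X ≤ normalizer (K : Set G)) (hN : X ≤ normalizer (N : Set G)) :
    ⁅X, zpowers b⁆ ≤ trivMod K N :=
  commutator_le.2 fun x hx c hc => by
    have hc' : c ∈ trivMod K N := zpowers_le.2 hb hc
    rw [commutatorElement_def]
    exact mul_mem (conj_mem_trivMod hc' (hK hx) (hN hx)) (inv_mem hc')

theorem mem_trivMod_bot {K : Subgroup G} {b : G} (hb : b ∈ centralizer (K : Set G)) :
    b ∈ trivMod K (⊥ : Subgroup G) :=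
  ⟨centralizer_le_normalizer _ hb, mem_normalizer_iff.2 fun h => by simp, fun k hk => mem_bot.2
    (commutatorElement_eq_one_iff_mul_comm.2 (mem_centralizer_iff.1 hb k hk).symm)⟩

theorem trivMod_bot_le (K : Subgroup G) : trivMod K (⊥ : Subgroup G) ≤ centralizer (K : Set G) :=
  fun b hb => mem_centralizer_iff.2 fun k hk =>
    (commutatorElement_eq_one_iff_mul_comm.1 (mem_bot.1 (hb.2.2 k hk))).symm

/-- `⁅X, b⁆` centralises what `b` centralises and `X` normalises. -/
theorem commutator_le_centralizer_of {K X : Subgroup G} {b : G} (hb : b ∈ centralizer (K : Set G))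
    (hK : X ≤ normalizer (K : Set G)) : ⁅X, zpowers b⁆ ≤ centralizer (K : Set G) :=
  (commutator_le_trivMod (mem_trivMod_bot hb) hK fun _ _ => mem_normalizer_iff.2 fun h => by simp).trans
    (trivMod_bot_le K)

theorem mem_centralizer_of_le_centralizer_singleton {K : Subgroup G} {b : G}
    (h : K ≤ centralizer {b}) : b ∈ centralizer (K : Set G) :=
  mem_centralizer_iff.2 fun _ hk => mem_centralizer_singleton_iff.1 (h hk)

/-- An element of a `q`-group in `RQ` lies in `O_q`. -/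
theorem mem_coreIn_of_RQ {q : ℕ} [Fact q.Prime] {U P : Subgroup G} (hP : IsPGroup q P) {x : G}
    (hxP : x ∈ P) (hx : x ∈ RQ q U) : x ∈ coreIn q U :=
  le_coreIn_of_le_RQ (P := P ⊓ RQ q U) (hP.to_le inf_le_left) inf_le_right ⟨hxP, hx⟩

/-- The preimage of `O_s(U/O_r(U))`. -/
def RS (r s : ℕ) (U : Subgroup G) : Subgroup G :=
  ((Cfsg.pCore s (↥U ⧸ Cfsg.pCore r ↥U)).comap (QuotientGroup.mk' (Cfsg.pCore r ↥U))).map U.subtype

theorem RS_le (r s : ℕ) (U : Subgroup G) : RS r s U ≤ U := map_subtype_le _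

theorem coreIn_le_RS (r s : ℕ) (U : Subgroup G) : coreIn r U ≤ RS r s U :=
  Subgroup.map_mono (QuotientGroup.le_comap_mk' _ _)

instance comap_pCore_characteristic (r s : ℕ) (X : Type*) [Group X] :
    ((Cfsg.pCore s (X ⧸ Cfsg.pCore r X)).comap
      (QuotientGroup.mk' (Cfsg.pCore r X))).Characteristic := by
  refine Subgroup.characteristic_iff_comap_eq.mpr fun φ => ?_
  have hφ : (Cfsg.pCore r X).map φ.toMonoidHom = Cfsg.pCore r X :=
    Subgroup.characteristic_iff_map_eq.mp inferInstance φ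
  let ψ := QuotientGroup.congr (Cfsg.pCore r X) (Cfsg.pCore r X) φ hφ
  have hψ := Subgroup.characteristic_iff_comap_eq.mp
    (Cores.pCore_characteristic (G := X ⧸ Cfsg.pCore r X) s) ψ
  rw [Subgroup.comap_comap]
  conv_rhs => rw [← hψ, Subgroup.comap_comap]
  congr 1

theorem le_normalizer_RS {r s : ℕ} {U : Subgroup G} {g : G} (hg : g ∈ normalizer (U : Set G)) :
    g ∈ normalizer (RS r s U : Set G) :=
  map_subtype_normal_of_characteristic hg

theorem le_normalizer_RS' (r s : ℕ) (U : Subgroup G) : U ≤ normalizer (RS r s U : Set G) :=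
  fun _ hg => le_normalizer_RS (Subgroup.le_normalizer hg)

theorem RS_le_RQ (r : ℕ) {s : ℕ} [Fact s.Prime] (U : Subgroup G) : RS r s U ≤ RQ r U :=
  Subgroup.map_mono (Subgroup.comap_mono (Cores.pCore_le_fittingSubgroup s))

theorem exists_relIndex_RS (r s : ℕ) [Fact s.Prime] (U : Subgroup G) :
    ∃ k, (coreIn r U).relIndex (RS r s U) = s ^ k := by
  rw [coreIn, RS, relIndex_map_map_of_injective _ _ U.subtype_injective]
  set mk := QuotientGroup.mk' (Cfsg.pCore r ↥U) with hmk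
  have e : Cfsg.pCore r ↥U = (⊥ : Subgroup (↥U ⧸ Cfsg.pCore r ↥U)).comap mk := by
    rw [MonoidHom.comap_bot, QuotientGroup.ker_mk']
  conv => enter [1, k, 1, 1]; rw [e]
  rw [relIndex_comap, Subgroup.map_comap_eq_self_of_surjective (QuotientGroup.mk'_surjective _),
    relIndex_bot_left]
  exact Cores.card_pow_of_pCore s

theorem piGroup_RS (r s : ℕ) [hr : Fact r.Prime] [hs : Fact s.Prime] (U : Subgroup G) :
    PiGroup {r, s} (RS r s U) := by
  intro q hq hd
  have h1 := Coprime.card_mul_relIndex' (coreIn_le_RS r s U)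
  obtain ⟨k, hk⟩ := exists_relIndex_RS r s U
  obtain ⟨j, hj⟩ := IsPGroup.iff_card.mp (isPGroup_coreIn r U)
  rw [← h1, hk, hj] at hd
  rcases hq.dvd_mul.mp hd with h | h
  · exact Or.inl ((Nat.prime_dvd_prime_iff_eq hq hr.out).mp (hq.dvd_of_dvd_pow h))
  · exact Or.inr ((Nat.prime_dvd_prime_iff_eq hq hs.out).mp (hq.dvd_of_dvd_pow h))

theorem RQ_le_iSup_RS (r : ℕ) (U : Subgroup G) :
    RQ r U ≤ ⨆ s : Nat.Primes, RS r (s : ℕ) U := by
  simp only [RQ, RS]
  rw [← Subgroup.map_iSup]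
  refine Subgroup.map_mono ?_
  set mk := QuotientGroup.mk' (Cfsg.pCore r ↥U) with hmk
  intro x hx
  have h1 : mk x ∈ (⨆ s : Nat.Primes, (Cfsg.pCore (s : ℕ) (↥U ⧸ Cfsg.pCore r ↥U)).comap mk).map mk := by
    rw [Subgroup.map_iSup, iSup_congr fun s : Nat.Primes =>
      Subgroup.map_comap_eq_self_of_surjective (QuotientGroup.mk'_surjective (Cfsg.pCore r ↥U))
        (Cfsg.pCore (s : ℕ) (↥U ⧸ Cfsg.pCore r ↥U))]
    rw [← Cores.fittingSubgroup_eq_iSup_pCore]
    exact hx
  obtain ⟨y, hy, hxy⟩ := h1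
  have h2 : y⁻¹ * x ∈ Cfsg.pCore r ↥U := QuotientGroup.eq.mp hxy
  have := mul_mem hy ((QuotientGroup.le_comap_mk' _ _).trans
    (le_iSup (fun s : Nat.Primes => (Cfsg.pCore (s : ℕ) (↥U ⧸ Cfsg.pCore r ↥U)).comap mk)
      ⟨2, Nat.prime_two⟩) h2)
  rwa [mul_inv_cancel_left] at this

/-- A `q`-subgroup centralising every `RS` modulo `O_q(U)` lies in `O_q(U)`. -/
theorem le_coreIn_of_parts {r : ℕ} [Fact r.Prime] {U P : Subgroup G} (hU : Group.IsSolvable U)
    (hP : IsPGroup r P) (hPU : P ≤ U)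
    (h : ∀ s : ℕ, s.Prime → s ≠ r → ∀ x ∈ P, ∀ m ∈ RS r s U, ⁅x, m⁆ ∈ coreIn r U) :
    P ≤ coreIn r U := by
  refine le_coreIn_of_commutator hU hP hPU fun x hx m hm => ?_
  have hle : RQ r U ≤ centMod r U (zpowers x) := by
    refine (RQ_le_iSup_RS r U).trans (iSup_le fun s => ?_)
    intro m hm
    refine ⟨RS_le r s U hm, fun y hy => ?_⟩
    have hxt : y ∈ trivMod (RS r (s : ℕ) U) (coreIn r U) := by
      refine zpowers_le.2 (mem_trivMod.2 ⟨le_normalizer_RS' r s U (hPU hx), le_normalizer_coreIn r U (hPU hx), ?_⟩) hy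
      intro k hk
      by_cases hsr : (s : ℕ) = r
      · have hk' : k ∈ coreIn r U := by
          obtain ⟨z, hz, rfl⟩ := hk
          refine ⟨z, ?_, rfl⟩
          have hz' : QuotientGroup.mk' (Cfsg.pCore r ↥U) z ∈
              Cfsg.pCore r (↥U ⧸ Cfsg.pCore r ↥U) := hsr ▸ hz
          rw [pCore_quotient_eq_bot r, mem_bot] at hz'
          exact (QuotientGroup.eq_one_iff z).mp hz'
        exact (commutator_mem_of_mem_normalizer (le_normalizer_coreIn r U (hPU hx)) hk').1
      · exact h s s.2 hsr x hx k hk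
    exact hxt.2.2 m hm
  exact (hle hm).2 x (mem_zpowers x)

end General

theorem coprime_relIndex_RQ (q : ℕ) [hq : Fact q.Prime] (U : Subgroup G) :
    ((coreIn q U).relIndex (RQ q U)).Coprime q := by
  rw [coreIn, RQ, relIndex_map_map_of_injective _ _ U.subtype_injective]
  set mk := QuotientGroup.mk' (Cfsg.pCore q ↥U) with hmk
  have e : Cfsg.pCore q ↥U = (⊥ : Subgroup (↥U ⧸ Cfsg.pCore q ↥U)).comap mk := by
    rw [MonoidHom.comap_bot, QuotientGroup.ker_mk']
  conv => enter [1, 1]; rw [e]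
  rw [relIndex_comap, Subgroup.map_comap_eq_self_of_surjective (QuotientGroup.mk'_surjective _),
    relIndex_bot_left]
  refine (Cores.coprime_card_pPrimeCore (G := ↥U ⧸ Cfsg.pCore q ↥U) q).coprime_dvd_left
    (card_dvd_of_le ?_)
  rw [show Cfsg.fittingSubgroup (↥U ⧸ Cfsg.pCore q ↥U) = _ from Cores.fittingSubgroup_eq_iSup_pCore]
  refine iSup_le fun s => ?_
  by_cases hs : (s : ℕ) = q
  · rw [hs, pCore_quotient_eq_bot]; exact bot_le
  · haveI := Fact.mk s.2
    exact Cores.pCore_le_pPrimeCore hq.out hs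

/-- The intersection over all lines of the largest invariant `q`-members. -/
def Yq (p q : ℕ) (A : Subgroup G) (θ : G → Subgroup G) : Subgroup G :=
  ⨅ L : {L : Subgroup G // Line p A L}, Tinv p q A θ (Cfsg.signalizerInf (L : Subgroup G) θ)

namespace Setting

variable (S : Setting p A θ)
include S

variable {q : ℕ} [hq : Fact q.Prime]

theorem ne_p {P : Subgroup G} (hP : Mem p A θ P) (hPq : IsPGroup q P) (hne : P ≠ ⊥) : q ≠ p := by
  rintro rfl
  obtain ⟨k, hk⟩ := IsPGroup.iff_card.mp hPq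
  rcases Nat.eq_zero_or_pos k with rfl | hk0
  · exact hne (card_eq_one.mp (by simpa using hk))
  · exact hP.2.1 (hk ▸ dvd_pow_self q hk0.ne')

theorem mem_TL {L : Subgroup G} (hL : Line p A L) :
    Mem p A θ (Tinv p q A θ (Cfsg.signalizerInf L θ)) :=
  S.mem_Tinv (S.C_le_lineTheta hL)

theorem isPGroup_TL {L : Subgroup G} (hL : Line p A L) :
    IsPGroup q ↥(Tinv p q A θ (Cfsg.signalizerInf L θ)) :=
  S.isPGroup_Tinv (S.C_le_lineTheta hL)

theorem Y_le {L : Subgroup G} (hL : Line p A L) :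
    Yq p q A θ ≤ Tinv p q A θ (Cfsg.signalizerInf L θ) :=
  iInf_le (fun L : {L : Subgroup G // Line p A L} => Tinv p q A θ (Cfsg.signalizerInf (L : Subgroup G) θ))
    ⟨L, hL⟩

theorem isPGroup_Y : IsPGroup q ↥(Yq p q A θ) := by
  obtain ⟨L, hL⟩ := S.exists_line
  exact (S.isPGroup_TL hL).to_le (S.Y_le hL)

theorem mem_Y : Mem p A θ (Yq p q A θ) := by
  obtain ⟨L, hL⟩ := S.exists_line
  refine member_of_le (S.mem_TL (q := q) hL) (S.Y_le hL) fun a ha => ?_
  rw [Yq, iInf, mem_normalizer_iff]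
  intro x
  simp only [Subgroup.mem_sInf, Set.forall_mem_range]
  exact forall_congr' fun L => mem_normalizer_iff.1 (member_le_normalizer (S.mem_TL (q := q) L.2) ha) x

theorem C_le_normalizer_Y : Cfsg.signalizerInf A θ ≤ normalizer (Yq p q A θ : Set G) := fun c hc => by
  rw [Yq, iInf, mem_normalizer_iff]
  intro x
  simp only [Subgroup.mem_sInf, Set.forall_mem_range]
  exact forall_congr' fun L =>
    mem_normalizer_iff.1 (le_normalizer_Tinv q _ (S.C_le_lineTheta L.2 hc)) x

theorem Y_le_maximal {Q : Subgroup G} (hQ : Mem p A θ Q) (hQq : IsPGroup q Q)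
    (hQmax : ∀ R ∈ Cfsg.signalizerFamily p A θ, IsPGroup q R → Q ≤ R → R = Q) : Yq p q A θ ≤ Q :=
  S.le_of_maximal S.mem_Y S.isPGroup_Y S.C_le_normalizer_Y hQ hQq hQmax

/-- A `q`-subgroup of a member inside `Y_q` lies in its `O_q`. -/
theorem le_core_of_le_Y {U P : Subgroup G} (hU : Mem p A θ U) (hPY : P ≤ Yq p q A θ) (hPU : P ≤ U) :
    P ≤ coreIn q U := by
  refine le_coreIn_of_commutator hU.1 (S.isPGroup_Y.to_le hPY) hPU fun x hx r hr => ?_
  have hle : RQ q U ≤ centMod q U P := S.le_of_lines (S.mem_RQ' hU) fun L hL m hm =>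
    ⟨RQ_le q U hm.1, fun y hy => commutator_mem_of_normalized (S.isPGroup_TL hL) (S.Y_le hL (hPY hy))
      (hPU hy) hm.1 (le_normalizer_Tinv q _ (S.inf_centralizer_le_lineTheta hU hL
        ⟨RQ_le q U hm.1, hm.2⟩))⟩
  exact (hle hr).2 x hx

theorem Y_inf_le_core {U : Subgroup G} (hU : Mem p A θ U) : Yq p q A θ ⊓ U ≤ coreIn q U :=
  S.le_core_of_le_Y hU inf_le_left inf_le_right

theorem Y_inf_centralizer_le_core {v : G} (hv : v ∈ A) (hv1 : v ≠ 1) :
    Yq p q A θ ⊓ centralizer {v} ≤ coreIn q (θ v) :=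
  S.le_core_of_le_Y (S.mem_theta hv hv1) inf_le_left (S.mem_Y.2.2.2 v hv hv1)

theorem Y_le_centralizer {r : ℕ} [Fact r.Prime] (hne : q ≠ r) :
    Yq p q A θ ≤ centralizer (Yq p r A θ : Set G) :=
  S.le_of_lines S.mem_Y fun L hL x hx => by
    have hle : Yq p r A θ ≤ centralizer {x} := S.le_of_lines S.mem_Y fun M hM y hy => by
      obtain ⟨v, hv, hv1, hvL, hvM⟩ := S.exists_mem_inter hL hM
      have h1 := S.Y_inf_centralizer_le_core (q := q) hv hv1
        ⟨hx.1, centralizer_le (Set.singleton_subset_iff.2 hvL) hx.2⟩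
      have h2 := S.Y_inf_centralizer_le_core (q := r) hv hv1
        ⟨hy.1, centralizer_le (Set.singleton_subset_iff.2 hvM) hy.2⟩
      exact mem_centralizer_singleton_iff.2
        (mem_centralizer_iff.1 (coreIn_le_centralizer hne _ h1) y h2)
    exact mem_centralizer_iff.2 fun y hy => mem_centralizer_singleton_iff.1 (hle hy)

/-- A piece `X = ⁅X, c⁆` inside a `q`-group normalised by the fixed points of `c` lies in `O_q`. -/
theorem piece_le_core {X T : Subgroup G} {v c : G} (hv : v ∈ A) (hv1 : v ≠ 1) (hc : c ∈ A)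
    (hX : Mem p A θ X) (hXq : IsPGroup q X) (hXv : X ≤ θ v) (hXc : X ≤ ⁅X, zpowers c⁆)
    (hT : IsPGroup q T) (hXT : X ≤ T)
    (hTn : θ v ⊓ centralizer {c} ≤ normalizer (T : Set G))
    (hreg : q ≠ 2 ∨ X ⊓ centralizer {c} = ⊥) : X ≤ coreIn q (θ v) := by
  by_cases hne : X = ⊥
  · rw [hne]; exact bot_le
  have hθ := S.mem_theta hv hv1
  set U := θ v with hUdef
  have hcU : c ∈ normalizer (U : Set G) := member_le_normalizer hθ hc
  have hcop : (Nat.card X).Coprime ((coreIn q U).relIndex (RQ q U)) := by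
    obtain ⟨k, hk⟩ := IsPGroup.iff_card.mp hXq
    rw [hk]
    exact (coprime_relIndex_RQ q U).symm.pow_left k
  have hzero := pGroup_centralises (p := p) (q := q) hp.out (S.ne_p hX hXq hne) (N₀ := coreIn q U)
    (M₀ := RQ q U) (P := X) (y := c) (coreIn_le_RQ q U)
    ((RQ_le q U).trans (le_normalizer_coreIn q U)) (Coprime.isSolvable_of_le (RQ_le q U) hθ.1)
    (fun hd => hθ.2.1 (hd.trans (card_dvd_of_le (RQ_le q U)))) hcop (S.pow_eq_one hc)
    (map_subtype_normal_of_characteristic hcU) (le_normalizer_RQ hcU) (member_le_normalizer hX hc)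
    (hXv.trans (le_normalizer_coreIn q U)) (hXv.trans (le_normalizer_RQ' q U)) hXq hXc
    (hreg.imp_right fun h x hx hcx m hm => by
      have h1 : x ∈ X ⊓ centralizer {c} := ⟨hx, mem_centralizer_singleton_iff.2 hcx.symm⟩
      rw [h, mem_bot] at h1
      rw [h1, commutatorElement_one_left]
      exact one_mem _)
    (fun m hm hcm g hg => commutator_mem_of_normalized hT (hXT hg) (hXv hg) hm
      (hTn ⟨RQ_le q U hm, mem_centralizer_singleton_iff.2 hcm.symm⟩))
  exact le_coreIn_of_commutator hθ.1 hXq hXv hzero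

/-- U3: `P = ⁅P, h⁆` inside a `q`-group normalised by `θ h` lies in `Y_q`. -/
theorem le_Y_of_moved {P T : Subgroup G} {h : G} (hh : h ∈ A) (hh1 : h ≠ 1) (hT : IsPGroup q T)
    (hTn : θ h ≤ normalizer (T : Set G)) (hP : Mem p A θ P) (hPT : P ≤ T)
    (hPh : P ≤ ⁅P, zpowers h⁆) (hreg : q ≠ 2 ∨ P ⊓ centralizer {h} = ⊥) : P ≤ Yq p q A θ := by
  refine le_iInf fun L => ?_
  refine S.le_of_commutator hh hP hPh (member_le_normalizer (S.mem_TL (q := q) L.2) hh)
    (fun x : {x : G // x ∈ (L : Subgroup G) ∧ x ≠ 1} => ({(x : G)} : Set G))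
    (fun D hD _ => S.le_iSup_points hD L.2) fun v x hx => ?_
  have hvA : (v : G) ∈ A := L.2.1 v.2.1
  set P1 := P ⊓ centralizer {(v : G)} with hP1
  have hP1m : Mem p A θ P1 := member_of_le hP inf_le_left
    (le_normalizer_inf_centralizer_singleton S.elem (member_le_normalizer hP) hvA)
  have hle := S.commutator_le_self hP1m hh
  have hcore : ⁅P1, zpowers h⁆ ≤ coreIn q (θ (v : G)) :=
    S.piece_le_core (T := T) hvA v.2.2 hh (S.mem_commutator hP1m hh)
      (((hT.to_le hPT).to_le inf_le_left).to_le hle) (hle.trans (hP.2.2.2 v hvA v.2.2))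
      (S.commutator_commutator hP1m hh).ge hT (hle.trans (inf_le_left.trans hPT))
      (fun m hm => hTn (S.funct.1.2.2.2 v hvA v.2.2 h hh hh1 hm))
      (hreg.imp_right fun h0 => le_bot_iff.mp ((inf_le_inf_right _ (hle.trans inf_le_left)).trans h0.le))
  refine le_Tinv (member_of_le (S.mem_theta hvA v.2.2) (coreIn_le q _) fun a ha =>
      map_subtype_normal_of_characteristic (member_le_normalizer (S.mem_theta hvA v.2.2) ha))
    (isPGroup_coreIn q _) ((S.lineTheta_le v.2.1 v.2.2).trans (le_normalizer_coreIn q _))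
    (hcore (commutator_mem_commutator hx (mem_zpowers h)))

end Setting

end CfsgLib.Components.SFT
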