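import Cfsg.Agent.Lib.Components.SFT.YBasics
import Cfsg.Agent.Lib.Components.Constrained

/-!
The two-prime transfer: fixed points of `O_b(M)` lie in `O_{a'}(θ v)`.
-/

set_option autoImplicit false
set_option linter.style.haveILetI false
set_option linter.unusedSectionVars false
set_option maxHeartbeats 400000

namespace CfsgLib.Components.SFT

open Subgroup CfsgLib.Solvable CfsgLib.Components.Signalizer CfsgLib.Components.Bender
open scoped commutatorElement

section PQ

variable {X : Type*} [Group X] [Finite X]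

/-- An `a'`-element commuting with an `a`-subgroup `P` and having `a'`-commutators with `C(P)` lies
in `O_{a'}`. -/
theorem mem_pPrimeCore_of_commutator {a : ℕ} [ha : Fact a.Prime] (hX : Group.IsSolvable X)
    {P : Subgroup X} (hP : IsPGroup a P) {u : X} (hu : (orderOf u).Coprime a)
    (huP : u ∈ centralizer (P : Set X))
    (h : ∀ x ∈ centralizer (P : Set X), ¬ a ∣ orderOf ⁅u, x⁆) : u ∈ Cfsg.pPrimeCore a X := by
  haveI := hX
  set N := Cfsg.pPrimeCore a X
  set mk := QuotientGroup.mk' N with hmk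
  set R := Cfsg.pCore a (X ⧸ N)
  have hRq : IsPGroup a R := Cores.isPGroup_pCore a
  haveI hRn : R.Normal := by
    haveI := Cores.pCore_characteristic (G := X ⧸ N) a
    infer_instance
  have hcopu : (Nat.card (zpowers (mk u))).Coprime a := by
    rw [Nat.card_zpowers]; exact hu.coprime_dvd_left (orderOf_map_dvd mk u)
  have hPu : ⁅P.map mk, zpowers (mk u)⁆ = ⊥ := by
    rw [commutator_comm, commutator_eq_bot_iff_le_centralizer, zpowers_le, mem_centralizer_iff]
    rintro _ ⟨x, hx, rfl⟩
    rw [← map_mul, ← map_mul, mem_centralizer_iff.1 huP x hx]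
  have hC : R ⊓ centralizer ((P.map mk : Subgroup (X ⧸ N)) : Set (X ⧸ N)) ≤
      centralizer ((zpowers (mk u) : Subgroup (X ⧸ N)) : Set (X ⧸ N)) := by
    rintro r ⟨hr, hrP⟩
    obtain ⟨x, rfl⟩ := QuotientGroup.mk'_surjective N r
    obtain ⟨n, hn, hnx⟩ := Coprime.exists_mul_mem_centralizer (A := P) (N := N)
      (by rw [normalizer_eq_top]; exact le_top) (by
        obtain ⟨k, hk⟩ := hP.exists_card_eq
        rw [hk]
        exact (Cores.coprime_card_pPrimeCore a).symm.pow_left k)
      (Or.inr inferInstance) (k := x) fun y hy => by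
        rw [← QuotientGroup.eq_one_iff, ← QuotientGroup.mk'_apply, map_commutatorElement,
          commutatorElement_eq_one_iff_mul_comm]
        exact mem_centralizer_iff.1 hrP _ (mem_map_of_mem mk hy)
    have e : mk (n * x) = mk x := by
      rw [map_mul, show mk n = 1 from (QuotientGroup.eq_one_iff n).2 hn, one_mul]
    have h1 : ⁅mk u, mk x⁆ ∈ R := by
      rw [commutatorElement_def]; exact mul_mem (hRn.conj_mem _ hr _) (inv_mem hr)
    have h2 : ¬ a ∣ orderOf ⁅mk u, mk x⁆ := by
      rw [← e, ← map_commutatorElement]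
      exact fun hd => h _ hnx (hd.trans (orderOf_map_dvd mk _))
    obtain ⟨k, hk⟩ := hRq ⟨_, h1⟩
    have hk' : ⁅mk u, mk x⁆ ^ a ^ k = 1 := congrArg Subtype.val hk
    obtain ⟨j, -, hj⟩ := (Nat.dvd_prime_pow ha.out).mp (orderOf_dvd_of_pow_eq_one hk')
    rcases Nat.eq_zero_or_pos j with rfl | hj0
    · rw [pow_zero, orderOf_eq_one_iff, commutatorElement_eq_one_iff_mul_comm] at hj
      exact mem_centralizer_iff.2 fun y hy => by
        obtain ⟨i, rfl⟩ := mem_zpowers_iff.1 hy
        exact ((show Commute (mk u) (mk x) from hj).zpow_left i).eq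
    · exact absurd (hj ▸ dvd_pow_self a hj0.ne') h2
  have hcent := Coprime.le_centralizer_of_prod (hP.map mk) hcopu hPu hRq
    (by rw [normalizer_eq_top]; exact le_top) (by rw [normalizer_eq_top]; exact le_top) hC
  haveI : Group.IsSolvable (X ⧸ N) :=
    Group.isSolvable_of_surjective (f := mk) (QuotientGroup.mk'_surjective N)
  have hmem : mk u ∈ Cfsg.fittingSubgroup (X ⧸ N) := by
    refine Cores.centralizer_fittingSubgroup_le ?_
    rw [Cores.fittingSubgroup_eq_pCore a pPrimeCore_quotient_eq_bot]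
    exact hcent (mem_zpowers _)
  rw [Cores.fittingSubgroup_eq_pCore a pPrimeCore_quotient_eq_bot] at hmem
  obtain ⟨k, hk⟩ := hRq ⟨_, hmem⟩
  have hk' : mk u ^ a ^ k = 1 := congrArg Subtype.val hk
  have h1 : orderOf (mk u) = 1 := by
    refine Nat.eq_one_of_dvd_coprimes (Nat.Coprime.pow_right k ?_) dvd_rfl
      (orderOf_dvd_of_pow_eq_one hk')
    rwa [← Nat.card_zpowers]
  exact (QuotientGroup.eq_one_iff u).1 (orderOf_eq_one_iff.1 h1)

end PQ

variable {G : Type*} [Group G] [Finite G]
variable {p : ℕ} [hp : Fact p.Prime] {A : Subgroup G} {θ : G → Subgroup G}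

theorem mem_primeCoreIn_of_commutator {a : ℕ} [Fact a.Prime] {U P : Subgroup G}
    (hU : Group.IsSolvable U) (hPU : P ≤ U) (hP : IsPGroup a P) {u : G} (huU : u ∈ U)
    (hu : (orderOf u).Coprime a) (huP : u ∈ centralizer (P : Set G))
    (h : ∀ x ∈ U, x ∈ centralizer (P : Set G) → ¬ a ∣ orderOf ⁅u, x⁆) :
    u ∈ primeCoreIn a U := by
  refine ⟨⟨u, huU⟩, mem_pPrimeCore_of_commutator hU (P := P.subgroupOf U)
    (hP.of_equiv (subgroupOfEquivOfLe hPU).symm) ?_ ?_ ?_, rfl⟩
  · rwa [← Subgroup.orderOf_coe]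
  · exact mem_centralizer_iff.2 fun y hy => Subtype.ext (mem_centralizer_iff.1 huP y hy)
  · intro x hx hd
    refine h x x.2 (mem_centralizer_iff.2 fun y hy =>
      congrArg Subtype.val (mem_centralizer_iff.1 hx ⟨y, hPU hy⟩ hy)) ?_
    rw [← Subgroup.orderOf_coe] at hd
    exact hd

namespace Minimal

variable (H : Minimal p A θ)
include H

/-- Fixed points of `O_b(M)` lie in `O_{a'}(θ v)` if `v` fixes a point of `O_a(M)`. -/
theorem bender {a b : ℕ} [ha : Fact a.Prime] [hb : Fact b.Prime] (hab : a ≠ b) {M : Subgroup G}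
    (hM : IsMax p A θ M) {v : G} (hv : v ∈ A) (hv1 : v ≠ 1)
    (hne : coreIn a M ⊓ centralizer {v} ≠ ⊥) :
    coreIn b M ⊓ centralizer {v} ≤ primeCoreIn a (θ v) := by
  have S := H.toSetting
  have hPm : Mem p A θ (coreIn a M ⊓ centralizer {v}) :=
    member_of_le (S.coreIn_mem hM.1) inf_le_left
      (le_normalizer_inf_centralizer_singleton S.elem (member_le_normalizer (S.coreIn_mem hM.1)) hv)
  set P := coreIn a M ⊓ centralizer {v} with hPdef
  obtain ⟨K, hK, hKle⟩ := H.exists_overgroup hPm hne
  have hbP : coreIn b M ≤ centralizer (P : Set G) :=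
    (coreIn_le_centralizer hab.symm M).trans (centralizer_le (inf_le_left : P ≤ coreIn a M))
  have hbK : coreIn b M ≤ K := hKle _ (S.coreIn_mem hM.1) (hbP.trans (centralizer_le_normalizer _))
  set Z := coreIn a M ⊓ centralizer (coreIn a M : Set G) with hZdef
  have hMZ : M ≤ normalizer (Z : Set G) := (le_inf (le_normalizer_coreIn a M)
    ((le_normalizer_coreIn a M).trans normalizer_le_normalizer_centralizer)).trans
      inf_normalizer_le_normalizer_inf
  have hZm : Mem p A θ Z := member_of_le (S.coreIn_mem hM.1) inf_le_left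
    ((le_inf (member_le_normalizer (S.coreIn_mem hM.1))
      ((member_le_normalizer (S.coreIn_mem hM.1)).trans normalizer_le_normalizer_centralizer)).trans
        inf_normalizer_le_normalizer_inf)
  have hZne : Z ≠ ⊥ := center_ne_bot fun h0 => hne (le_bot_iff.mp (inf_le_left.trans h0.le))
  have hZK : Z ≤ K := hKle _ hZm
    ((inf_le_right.trans (centralizer_le (inf_le_left : P ≤ coreIn a M))).trans
      (centralizer_le_normalizer _))
  have hcop : ∀ x ∈ coreIn b M, (orderOf x).Coprime a := fun x hx => by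
    obtain ⟨k, hk⟩ := (isPGroup_coreIn b M).exists_card_eq
    exact (((Nat.coprime_primes hb.out ha.out).2 hab.symm).pow_left k).coprime_dvd_left
      (hk ▸ Subgroup.orderOf_dvd_natCard _ hx)
  have hnd : ∀ x ∈ coreIn b M, ¬ a ∣ orderOf x := fun x hx =>
    ha.out.coprime_iff_not_dvd.1 (hcop x hx).symm
  -- `O_b(M) ≤ O_{a'}(K)`
  have hbcore : coreIn b M ≤ primeCoreIn a K := by
    intro u hu
    refine mem_primeCoreIn_of_commutator hK.1.1 hZK ((isPGroup_coreIn a M).to_le inf_le_left)
      (hbK hu) (hcop u hu)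
      (centralizer_le (inf_le_left : Z ≤ coreIn a M) (coreIn_le_centralizer hab.symm M hu))
      fun x hxK hxZ => hnd _ ?_
    have hV : Mem p A θ (K ⊓ centralizer (Z : Set G)) := member_of_le hK.1 inf_le_left
      ((le_inf (member_le_normalizer hK.1)
        ((member_le_normalizer hZm).trans normalizer_le_normalizer_centralizer)).trans
          inf_normalizer_le_normalizer_inf)
    have hxM : x ∈ M := H.le_of_isMax hM hZm hZne hMZ hV
      (inf_le_right.trans (centralizer_le_normalizer _)) ⟨hxK, hxZ⟩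
    exact (commutator_mem_of_mem_normalizer (le_normalizer_coreIn b M hxM) hu).2
  intro u hu
  have hθ := S.mem_theta hv hv1
  refine mem_primeCoreIn_of_commutator hθ.1 ((le_inf le_rfl inf_le_right : P ≤ P ⊓ centralizer {v}).trans
      (hPm.2.2.2 v hv hv1))
    ((isPGroup_coreIn a M).to_le inf_le_left) ((S.coreIn_mem hM.1).2.2.2 v hv hv1 hu)
    (hcop u hu.1) (hbP hu.1) fun x hxU hxP hd => ?_
  have hV : Mem p A θ (θ v ⊓ centralizer (P : Set G)) := member_of_le hθ inf_le_left
    ((le_inf (member_le_normalizer hθ)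
      ((member_le_normalizer hPm).trans normalizer_le_normalizer_centralizer)).trans
        inf_normalizer_le_normalizer_inf)
  have hxK : x ∈ K := hKle _ hV (inf_le_right.trans (centralizer_le_normalizer _)) ⟨hxU, hxP⟩
  have hc : ⁅u, x⁆ ∈ primeCoreIn a K :=
    (commutator_mem_of_mem_normalizer (le_normalizer_primeCoreIn (Subgroup.le_normalizer hxK))
      (hbcore hu.1)).2
  exact not_dvd_card_primeCoreIn ha.out K (hd.trans (Subgroup.orderOf_dvd_natCard _ hc))

end Minimal

end CfsgLib.Components.SFT
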