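import Cfsg.Agent.Lib.Components.SFT.HallHigman
import Cfsg.Agent.Lib.OddOrder.ExtraspecialDim

/-!
Blocks of a group of class two over its centre: the index of the centre is a square.
-/

set_option autoImplicit false
set_option linter.style.haveILetI false

universe u v w

namespace CfsgLib.Components.SFT

open Subgroup CfsgLib.Solvable.FPFOperators
open scoped commutatorElement

variable {K : Type v} [Field K] [IsAlgClosed K] {W : Type w} [AddCommGroup W] [Module K W]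
  [FiniteDimensional K W] {Γ : Type u} [Group Γ]

/-- The elements of `R` central in `R` on a representation. -/
def blockCentral (θ : Γ →* Module.End K W) (R : Subgroup Γ) : Subgroup Γ :=
  wCentral R θ (1 : Module.End K W) (fun _ _ => Commute.one_right _)

omit [IsAlgClosed K] [FiniteDimensional K W] in
theorem mem_blockCentral {θ : Γ →* Module.End K W} {R : Subgroup Γ} {x : Γ} :
    x ∈ blockCentral θ R ↔ x ∈ R ∧ ∀ y ∈ R, θ (x * y) = θ (y * x) := by
  show (x ∈ R ∧ ∀ y ∈ R, θ (x * y) * 1 = θ (y * x) * 1) ↔ _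
  simp only [mul_one]

omit [IsAlgClosed K] [FiniteDimensional K W] in
theorem conj_mem_blockCentral {θ : Γ →* Module.End K W} {R : Subgroup Γ} [R.Normal] {x : Γ} (g : Γ)
    (hx : x ∈ blockCentral θ R) : g * x * g⁻¹ ∈ blockCentral θ R :=
  conj_mem_wCentral θ (Q := R) (e := (1 : Module.End K W)) (e' := (1 : Module.End K W))
    (he := fun _ _ => Commute.one_right _) (he' := fun _ _ => Commute.one_right _)
    (by rw [mul_one, one_mul]) hx

omit [IsAlgClosed K] in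
/-- The restriction to the block of a weight of a central subgroup. -/
theorem exists_block {Z : Subgroup Γ} [Fintype Z] [Z.Normal] (hZ : ∀ z ∈ Z, ∀ g : Γ, g * z = z * g)
    (ρ : Γ →* Module.End K W) {l : Z →* Kˣ} (hl : weightIdem Z ρ l ≠ 0) :
    ∃ θ : Γ →* Module.End K (LinearMap.range (weightIdem Z ρ l)),
      Nontrivial (LinearMap.range (weightIdem Z ρ l)) ∧
      (∀ g k : Γ, θ g = θ k ↔ ρ g * weightIdem Z ρ l = ρ k * weightIdem Z ρ l) ∧
      (∀ z : Z, θ (z : Γ) = (l z : K) • 1) ∧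
      ∀ (s : Γ) (n : ℕ), ∑ i ∈ Finset.range n, ρ (s ^ i) = 0 →
        ∑ i ∈ Finset.range n, θ (s ^ i) = 0 := by
  have hcm : ∀ g : Γ, ρ g * weightIdem Z ρ l = weightIdem Z ρ l * ρ g := fun g => by
    rw [map_mul_weightIdem_smul, dual_smul_eq_self_of_commute l fun z hz => hZ z hz g]
  obtain ⟨θ, -, hθeq, hθscal, hθsum⟩ := exists_range_rep ρ _ ⊤ fun g _ => hcm g
  refine ⟨θ.comp (topEquiv (G := Γ)).symm.toMonoidHom, Submodule.nontrivial_iff_ne_bot.mpr fun h0 =>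
    hl (LinearMap.range_eq_bot.mp h0), fun g k => hθeq _ _, fun z => ?_, fun s n h => ?_⟩
  · exact (hθscal _ _).2 (map_mem_mul_weightIdem ρ l z)
  · have h' := (hθsum (Finset.range n) (fun _ => 1) (fun i => ⟨s ^ i, mem_top _⟩)).2 (by
      simp only [one_smul]; rw [h, zero_mul])
    simp only [one_smul] at h'
    exact h'

omit [IsAlgClosed K] [FiniteDimensional K W] in
/-- On a noncommutative block the centre is no larger than the global one. -/
theorem blockCentral_le (θ : Γ →* Module.End K W) (R D : Subgroup Γ) [R.Normal] {O : Set Γ}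
    (hmax : ∀ R₀ : Subgroup Γ, R₀ ≤ R → R₀ ≠ R → (∀ o ∈ O, ∀ x ∈ R₀, o * x * o⁻¹ ∈ R₀) → R₀ ≤ D)
    (hnc : ¬ ∀ a ∈ R, ∀ b ∈ R, θ (a * b) = θ (b * a)) : blockCentral θ R ≤ D :=
  hmax _ (fun _ h => (mem_blockCentral.1 h).1)
    (fun h => hnc fun _ ha b hb => (mem_blockCentral.1 (h.ge ha)).2 b hb)
    fun o _ _ hx => conj_mem_blockCentral o hx

/-- A block on which commutators are scalars: the index of the central part is a square. -/
theorem square_relIndex [Nontrivial W] [Finite Γ]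
    (θ : Γ →* Module.End K W) (R Rl : Subgroup Γ) {t : ℕ} [Fact t.Prime] (hR : IsPGroup t R)
    (htK : (t : K) ≠ 0) (_hRlR : Rl ≤ R)
    (hscal : ∀ x ∈ Rl, ∃ c : K, θ x = c • 1)
    (hcomm : ∀ x ∈ R, ∀ y ∈ R, ⁅x, y⁆ ∈ Rl)
    (hmem : ∀ x ∈ R, (∀ y ∈ R, θ (x * y) = θ (y * x)) → x ∈ Rl) :
    ∃ n : ℕ, Rl.relIndex R = n ^ 2 ∧ n ≤ Module.finrank K W := by
  classical
  set Zs := Rl.subgroupOf R with hZs
  haveI : Zs.Normal := ⟨fun x hx g => by
    rw [show g * x * g⁻¹ = ⁅g, x⁆ * x by rw [commutatorElement_def]; group]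
    exact mul_mem (show ⁅(g : Γ), (x : Γ)⁆ ∈ Rl from hcomm _ g.2 _ x.2) hx⟩
  set ρQ := θ.comp R.subtype with hρQ
  have hd : OddOrder.ExtraspecialDim.Data Zs ρQ := by
    refine ⟨fun g k => show ⁅(g : Γ), (k : Γ)⁆ ∈ Rl from hcomm _ g.2 _ k.2,
      fun z hz => hscal _ hz, fun k hk => ?_⟩
    by_contra hno
    push Not at hno
    refine hk (hmem _ k.2 fun y hy => ?_)
    have h1 : θ ⁅y, (k : Γ)⁆ = 1 := hno ⟨y, hy⟩
    calc θ ((k : Γ) * y) = θ ⁅y, (k : Γ)⁆ * θ ((k : Γ) * y) := by rw [h1, one_mul]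
      _ = θ (y * k) := by rw [← map_mul]; congr 1; rw [commutatorElement_def]; group
  obtain ⟨a, ha⟩ := (hR.to_quotient Zs).exists_card_eq
  have hD : (Nat.card (R ⧸ Zs) : K) ≠ 0 := by rw [ha, Nat.cast_pow]; exact pow_ne_zero _ htK
  obtain ⟨n, hn⟩ := OddOrder.ExtraspecialDim.exists_card_eq_sq hd hD
  refine ⟨n, ?_, ?_⟩
  · rw [← hn, ← Subgroup.index_eq_card]; rfl
  have h2 := OddOrder.ExtraspecialDim.card_mul_finrank_le hd hD
  have hb : 0 < Module.finrank K (OddOrder.ExtraspecialDim.commutant ρQ) := by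
    haveI : Nontrivial (OddOrder.ExtraspecialDim.commutant ρQ) :=
      ⟨⟨⟨1, fun g => by rw [mul_one, one_mul]⟩, 0, fun h0 =>
        one_ne_zero (congrArg Subtype.val h0)⟩⟩
    exact Module.finrank_pos
  rw [show Module.finrank K (Module.End K W) = _ from Module.finrank_linearMap K K W W, hn] at h2
  refine (Nat.pow_le_pow_iff_left two_ne_zero).mp ?_
  calc n ^ 2 ≤ n ^ 2 * _ := Nat.le_mul_of_pos_right _ hb
    _ ≤ _ := h2
    _ = Module.finrank K W ^ 2 := (sq _).symm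

/-- A noncommutative group of class two with a minimality condition: the index of the centre. -/
theorem exists_square_block [Finite Γ] (ρ : Γ →* Module.End K W) (R D : Subgroup Γ) [R.Normal] {t : ℕ}
    [Fact t.Prime] (hR : IsPGroup t R) (htK : (t : K) ≠ 0) (hfaith : ∀ g ∈ R, ρ g = 1 → g = 1)
    (hDR : D ≤ R) (hcomm : ∀ x ∈ R, ∀ y ∈ R, ⁅x, y⁆ ∈ D) (hDZ : ∀ x ∈ D, ∀ g : Γ, g * x = x * g)
    {O : Set Γ}
    (hmax : ∀ R₀ : Subgroup Γ, R₀ ≤ R → R₀ ≠ R → (∀ o ∈ O, ∀ x ∈ R₀, o * x * o⁻¹ ∈ R₀) → R₀ ≤ D)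
    (hab : ¬ ∀ x ∈ R, ∀ y ∈ R, x * y = y * x) :
    ∃ k : ℕ, D.relIndex R = k ^ 2 ∧ k ≠ 1 ∧ k ≤ Module.finrank K W := by
  classical
  haveI : D.Normal := ⟨fun z hz g => by rw [hDZ z hz g, mul_inv_cancel_right]; exact hz⟩
  haveI : Fintype D := Fintype.ofFinite D
  have hDK : (Fintype.card D : K) ≠ 0 := by
    rw [← Nat.card_eq_fintype_card]; exact natCard_cast_ne_zero (hR.to_le hDR) htK
  have hDc : IsMulCommutative D := isMulCommutative_iff.2 fun a b => Subtype.ext (hDZ b b.2 a)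
  obtain ⟨l, hl, hnc⟩ : ∃ l : D →* Kˣ, weightIdem D ρ l ≠ 0 ∧
      ¬ ∀ a ∈ R, ∀ b ∈ R, ρ (a * b) * weightIdem D ρ l = ρ (b * a) * weightIdem D ρ l := by
    by_contra hno
    push Not at hno
    refine hab fun x hx y hy => ?_
    have h1 := eq_of_forall_mul_weightIdem ρ hDc hDK (x := ρ (x * y)) (y := ρ (y * x))
      fun l hl => hno l hl x hx y hy
    have h2 : ρ ((y * x)⁻¹ * (x * y)) = 1 := by rw [map_mul, h1, ← map_mul, inv_mul_cancel, map_one]
    exact (inv_mul_eq_one.mp (hfaith _ (mul_mem (inv_mem (mul_mem hy hx)) (mul_mem hx hy)) h2)).symm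
  obtain ⟨θ, hnt, hθeq, hθscal, -⟩ := exists_block (fun z hz g => hDZ z hz g) ρ hl
  have hle := blockCentral_le θ R D hmax fun h => hnc fun a ha b hb => (hθeq _ _).1 (h a ha b hb)
  obtain ⟨k, hk, hkd⟩ := square_relIndex θ R D hR htK hDR (fun z hz => ⟨l ⟨z, hz⟩, hθscal ⟨z, hz⟩⟩)
    hcomm fun x hx hxc => hle (mem_blockCentral.2 ⟨hx, hxc⟩)
  refine ⟨k, hk, fun h1 => ?_, hkd.trans (Submodule.finrank_le _)⟩
  rw [h1, one_pow, relIndex_eq_one] at hk
  exact hab fun x hx y hy => (hDZ y (hk hy) x)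

end CfsgLib.Components.SFT
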