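import Cfsg.Agent.Lib.Components.SFT.MinimalFalse

/-!
The solvable signalizer functor theorem.
-/

set_option autoImplicit false
set_option linter.style.haveILetI false
set_option linter.unusedSectionVars false
set_option maxHeartbeats 400000

universe u

namespace CfsgLib.Components.SFT

open Subgroup CfsgLib.Solvable CfsgLib.Components.Signalizer CfsgLib.Components.Bender
open scoped commutatorElement

section Quotient

variable {G : Type u} [Group G] [Finite G]
variable {p : ℕ} [hp : Fact p.Prime] {A : Subgroup G} {θ : G → Subgroup G}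

/-- The functor on `N_G(N)/N`. -/
def quotTheta (A : Subgroup G) (θ : G → Subgroup G) (N Y : Subgroup G) [(N.subgroupOf Y).Normal]
    (x : ↥Y ⧸ N.subgroupOf Y) : Subgroup (↥Y ⧸ N.subgroupOf Y) :=
  ⨆ a : {a : Y // (a : G) ∈ A ∧ (a : G) ≠ 1 ∧ QuotientGroup.mk' (N.subgroupOf Y) a = x},
    ((θ ((a : Y) : G)).subgroupOf Y).map (QuotientGroup.mk' (N.subgroupOf Y))

/-- Local completeness from completeness in smaller groups. -/
theorem exists_local (S : Setting p A θ)
    (hsmall : ∀ (X : Type u) [Group X] [Finite X], Nat.card X < Nat.card G →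
      ∀ (B : Subgroup X) (η : X → Subgroup X), Setting p B η → Complete p B η)
    {N : Subgroup G} (hN : Mem p A θ N) (hne : N ≠ ⊥) :
    ∃ W, Mem p A θ W ∧ ∀ a ∈ A, a ≠ 1 → θ a ⊓ normalizer (N : Set G) ≤ W := by
  set Y := normalizer (N : Set G) with hYdef
  have hNY : N ≤ Y := Subgroup.le_normalizer
  have hAY : A ≤ Y := member_le_normalizer hN
  haveI hn : (N.subgroupOf Y).Normal := (normal_subgroupOf_iff_le_normalizer hNY).2 le_rfl
  set mk := QuotientGroup.mk' (N.subgroupOf Y) with hmk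
  have hcard : Nat.card (↥Y ⧸ N.subgroupOf Y) < Nat.card G := by
    have h1 := (N.subgroupOf Y).card_eq_card_quotient_mul_card_subgroup
    rw [Nat.card_congr (subgroupOfEquivOfLe hNY).toEquiv] at h1
    have h2 : 1 < Nat.card N := (Subgroup.one_lt_card_iff_ne_bot N).2 hne
    have h3 : Nat.card Y ≤ Nat.card G := Nat.card_le_card_of_injective _ Y.subtype_injective
    have h4 : 0 < Nat.card (↥Y ⧸ N.subgroupOf Y) := Nat.card_pos
    nlinarith
  -- `A` embeds
  have hAN : ∀ a ∈ A, a ∈ N → a = 1 := fun a ha haN => orderOf_eq_one_iff.1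
    (Nat.eq_one_of_dvd_coprimes (coprime_card S.elem hN.2.1) (Subgroup.orderOf_dvd_natCard _ ha)
      (Subgroup.orderOf_dvd_natCard _ haN))
  have hinj : ∀ a b : Y, (a : G) ∈ A → (b : G) ∈ A → mk a = mk b → a = b := fun a b ha hb he => by
    have h1 : a⁻¹ * b ∈ N.subgroupOf Y := QuotientGroup.eq.mp he
    have h2 := hAN _ (mul_mem (inv_mem ha) hb) (mem_subgroupOf.mp h1)
    exact Subtype.ext (inv_mul_eq_one.mp h2)
  have hθbar : ∀ a : Y, (a : G) ∈ A → (a : G) ≠ 1 →
      quotTheta A θ N Y (mk a) = ((θ (a : G)).subgroupOf Y).map mk := fun a ha ha1 => by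
    refine le_antisymm (iSup_le fun b => ?_) ?_
    · obtain ⟨b, hbA, -, hbe⟩ := b
      obtain rfl := hinj b a hbA ha hbe
      exact le_rfl
    · exact le_iSup (fun b : {b : ↥Y // (b : G) ∈ A ∧ (b : G) ≠ 1 ∧ mk b = mk a} =>
        ((θ (((b : ↥Y) : G))).subgroupOf Y).map mk) ⟨a, ha, ha1, rfl⟩
  set B := (A.subgroupOf Y).map mk with hBdef
  have hB1 : ∀ a : Y, (a : G) ∈ A → mk a ≠ 1 → (a : G) ≠ 1 := fun a _ h h' => h (by
    rw [show a = 1 from Subtype.ext h', map_one])
  have hBmem : ∀ x ∈ B, x ≠ 1 → ∃ a : Y, (a : G) ∈ A ∧ (a : G) ≠ 1 ∧ mk a = x := by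
    rintro _ ⟨a, ha, rfl⟩ hx
    exact ⟨a, ha, hB1 a ha hx, rfl⟩
  -- the setting of the quotient
  have SB : Setting p B (quotTheta A θ N Y) := by
    refine ⟨⟨⟨⟨fun x y => Subtype.ext ?_⟩⟩, ?_⟩, ?_, ⟨?_, ?_, ?_, ?_⟩, ?_⟩
    · obtain ⟨a, ha, hax⟩ := x.2
      obtain ⟨b, hb, hby⟩ := y.2
      show (x : ↥Y ⧸ N.subgroupOf Y) * y = y * x
      rw [← hax, ← hby, ← map_mul, ← map_mul]
      exact congrArg mk (Subtype.ext (S.comm ha hb))
    · rintro _ ⟨a, ha, rfl⟩
      rw [← map_pow, show a ^ p = 1 from Subtype.ext (S.pow_eq_one ha), map_one]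
    · rw [hBdef, ← S.card_eq, ← Nat.card_congr (subgroupOfEquivOfLe hAY).toEquiv]
      refine (Nat.card_congr (Equiv.ofBijective
        (fun a : ↥(A.subgroupOf Y) => (⟨mk a.1, mem_map_of_mem mk a.2⟩ : ↥((A.subgroupOf Y).map mk)))
        ⟨fun a b he => Subtype.ext (hinj a b a.2 b.2 (congrArg Subtype.val he)), ?_⟩)).symm
      rintro ⟨_, a, ha, rfl⟩
      exact ⟨⟨a, ha⟩, rfl⟩
    · intro x hx hx1
      obtain ⟨a, ha, ha1, rfl⟩ := hBmem x hx hx1
      rw [hθbar a ha ha1]
      rintro _ ⟨z, hz, rfl⟩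
      rw [mem_centralizer_singleton_iff, ← map_mul, ← map_mul]
      exact congrArg mk (Subtype.ext
        (mem_centralizer_singleton_iff.1 (S.theta_le_centralizer ha ha1 hz)))
    · intro x hx hx1
      obtain ⟨a, ha, ha1, rfl⟩ := hBmem x hx hx1
      rw [hθbar a ha ha1]
      refine fun hd => S.funct.1.2.1 _ ha ha1 ((hd.trans (card_map_dvd _ _)).trans ?_)
      rw [← card_map_of_injective Y.subtype_injective, subgroupOf_map_subtype]
      exact card_dvd_of_le inf_le_left
    · intro x hx hx1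
      obtain ⟨a, ha, ha1, rfl⟩ := hBmem x hx hx1
      rintro _ ⟨b, hb, rfl⟩ z hz
      rw [hθbar a ha ha1] at hz ⊢
      obtain ⟨w, hw, rfl⟩ := hz
      exact ⟨b * w * b⁻¹, S.funct.1.2.2.1 _ ha ha1 _ hb _ hw, by simp⟩
    · intro x hx hx1 y hy hy1
      obtain ⟨a, ha, ha1, rfl⟩ := hBmem x hx hx1
      obtain ⟨b, hb, hb1, rfl⟩ := hBmem y hy hy1
      rw [hθbar a ha ha1, hθbar b hb hb1]
      rintro _ ⟨⟨z, hz, rfl⟩, hzb⟩
      have hT : Mem p A θ (θ (a : G) ⊓ Y) := member_of_le (S.mem_theta ha ha1) inf_le_left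
        ((le_inf (member_le_normalizer (S.mem_theta ha ha1)) (hAY.trans Subgroup.le_normalizer)).trans
          inf_normalizer_le_normalizer_inf)
      have hU : Mem p A θ (N ⊔ (θ (a : G) ⊓ Y)) := member_sup S.elem hN hT inf_le_right
      have hcomm : ∀ c ∈ zpowers (b : G), ⁅c, (z : G)⁆ ∈ N := by
        have h1 : (b : G) ∈ trivMod (zpowers (z : G) ⊔ N) N := by
          have hbN : (b : G) ∈ normalizer (N : Set G) := b.2
          have hbz : ⁅(b : G), (z : G)⁆ ∈ N := by
            have h0 : mk ⁅b, z⁆ = 1 := by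
              rw [map_commutatorElement, commutatorElement_eq_one_iff_mul_comm]
              exact (mem_centralizer_singleton_iff.1 hzb).symm
            exact mem_subgroupOf.mp ((QuotientGroup.eq_one_iff (N := N.subgroupOf Y) _).mp h0)
          let T : Subgroup G :=
            { carrier := {m | m ∈ normalizer (N : Set G) ∧ ⁅(b : G), m⁆ ∈ N}
              one_mem' := ⟨one_mem _, by simp [one_mem]⟩
              mul_mem' := fun {c d} hc hd => ⟨mul_mem hc.1 hd.1, by
                rw [show ⁅(b : G), c * d⁆ = ⁅(b : G), c⁆ * (c * ⁅(b : G), d⁆ * c⁻¹) by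
                  simp only [commutatorElement_def]; group]
                exact mul_mem hc.2 (conj_mem_of_mem_normalizer hc.1 hd.2)⟩
              inv_mem' := fun {c} hc => ⟨inv_mem hc.1, by
                rw [show ⁅(b : G), c⁻¹⁆ = c⁻¹ * ⁅(b : G), c⁆⁻¹ * c by
                  simp only [commutatorElement_def]; group]
                exact conj_inv_mem_of_mem_normalizer hc.1 (inv_mem hc.2)⟩ }
          have hle : zpowers (z : G) ⊔ N ≤ T := sup_le (zpowers_le.2 ⟨z.2, hbz⟩) fun m hm =>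
            ⟨hNY hm, (commutator_mem_of_mem_normalizer hbN hm).1⟩
          refine ⟨?_, hbN, fun m hm => (hle hm).2⟩
          have hone : ∀ c ∈ normalizer (N : Set G), ⁅c, (z : G)⁆ ∈ N →
              ∀ m ∈ zpowers (z : G) ⊔ N, c * m * c⁻¹ ∈ zpowers (z : G) ⊔ N := by
            intro c hc hcz m hm
            refine (sup_le (zpowers_le.2 ?_) (fun m hm => ?_) :
              zpowers (z : G) ⊔ N ≤ (zpowers (z : G) ⊔ N).comap (MulAut.conj c).toMonoidHom) hm
            · show c * (z : G) * c⁻¹ ∈ zpowers (z : G) ⊔ N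
              rw [show c * (z : G) * c⁻¹ = ⁅c, (z : G)⁆ * z by rw [commutatorElement_def]; group]
              exact mul_mem (mem_sup_right hcz) (mem_sup_left (mem_zpowers _))
            · show c * m * c⁻¹ ∈ zpowers (z : G) ⊔ N
              exact mem_sup_right (conj_mem_of_mem_normalizer hc hm)
          have hbz' : ⁅((b : G))⁻¹, (z : G)⁆ ∈ N := by
            rw [show ⁅((b : G))⁻¹, (z : G)⁆ = (b : G)⁻¹ * ⁅(b : G), (z : G)⁆⁻¹ * (b : G) by
              simp only [commutatorElement_def]; group]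
            exact conj_inv_mem_of_mem_normalizer hbN (inv_mem hbz)
          refine mem_normalizer_iff.2 fun m => ⟨hone _ hbN hbz m, fun h => ?_⟩
          have := hone _ (inv_mem hbN) hbz' _ h
          simpa [mul_assoc] using this
        intro c hc
        exact zpowers_triv h1 c hc z (mem_sup_left (mem_zpowers _))
      obtain ⟨n, hn', hnz⟩ := Coprime.exists_mul_mem_centralizer (A := zpowers (b : G)) (N := N)
        (zpowers_le.2 b.2) (coprime_zpowers S.elem hb hN.2.1) (Or.inl (Coprime.isSolvable_zpowers _))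
        (k := (z : G)) hcomm
      have h1 : n * (z : G) ∈ θ (b : G) := hU.2.2.2 _ hb hb1
        ⟨mul_mem (mem_sup_left hn') (mem_sup_right ⟨hz, z.2⟩), le_centralizer_singleton_of_zpowers hnz⟩
      refine ⟨⟨n * (z : G), mul_mem (hNY hn') z.2⟩, h1, ?_⟩
      refine QuotientGroup.eq.mpr ?_
      show (n * (z : G))⁻¹ * (z : G) ∈ N
      have := conj_inv_mem_of_mem_normalizer z.2 (inv_mem hn')
      simpa [mul_assoc] using this
    · intro x hx hx1
      obtain ⟨a, ha, ha1, rfl⟩ := hBmem x hx hx1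
      rw [hθbar a ha ha1]
      haveI := S.funct.2 _ ha ha1
      haveI : Group.IsSolvable ↥((θ (a : G)).subgroupOf Y) :=
        Group.isSolvable_of_isSolvable_injective
          (f := Y.subtype.subgroupComap (θ (a : G)))
          (fun u v h => Subtype.ext (Subtype.ext (congrArg Subtype.val h :)))
      exact Group.isSolvable_of_surjective (MonoidHom.subgroupMap_surjective mk _)
  obtain ⟨Wb, hWb, hWble⟩ := hsmall _ hcard B _ SB
  set W₀ := Wb.comap mk with hW₀
  refine ⟨W₀.map Y.subtype, member_mk ?_ ?_ ?_ ?_, ?_⟩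
  · haveI := hWb.1
    haveI : Group.IsSolvable ↥(N.subgroupOf Y) := by
      haveI := hN.1
      exact Group.isSolvable_of_isSolvable_injective
        (f := (subgroupOfEquivOfLe hNY).toMonoidHom) (subgroupOfEquivOfLe hNY).injective
    haveI : Group.IsSolvable ↥W₀ := by
      refine Group.isSolvable_of_ker_le_range
        (inclusion (show N.subgroupOf Y ≤ W₀ from fun u hu => by
          rw [hW₀, mem_comap, show mk u = 1 from (QuotientGroup.eq_one_iff u).2 hu]; exact one_mem _))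
        (mk.subgroupComap Wb) ?_
      intro u hu
      have h1 : mk (u : Y) = 1 := congrArg Subtype.val hu
      exact ⟨⟨(u : Y), (QuotientGroup.eq_one_iff _).1 h1⟩, rfl⟩
    exact Group.isSolvable_of_surjective (MonoidHom.subgroupMap_surjective Y.subtype W₀)
  · rw [card_map_of_injective Y.subtype_injective]
    intro hd
    have h1 := Coprime.card_mul_relIndex' (show N.subgroupOf Y ≤ W₀ from fun u hu => by
      rw [hW₀, mem_comap, show mk u = 1 from (QuotientGroup.eq_one_iff u).2 hu]; exact one_mem _)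
    rw [← h1] at hd
    rcases hp.out.dvd_mul.mp hd with h | h
    · rw [Nat.card_congr (subgroupOfEquivOfLe hNY).toEquiv] at h
      exact hN.2.1 h
    · refine hWb.2.1 (h.trans (dvd_of_eq ?_))
      conv_lhs => rw [← QuotientGroup.ker_mk' (N.subgroupOf Y)]
      rw [relIndex_ker, hW₀, Subgroup.map_comap_eq_self_of_surjective (QuotientGroup.mk'_surjective _)]
  · refine le_normalizer_iff.2 fun b hb => ?_
    rintro _ ⟨u, hu, rfl⟩
    refine ⟨⟨b, hAY hb⟩ * u * (⟨b, hAY hb⟩ : Y)⁻¹, ?_, rfl⟩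
    show mk _ ∈ Wb
    rw [map_mul, map_mul, map_inv]
    exact hWb.2.2.1 _ (mem_map_of_mem mk (show (⟨b, hAY hb⟩ : Y) ∈ A.subgroupOf Y from hb)) _ hu
  · intro a ha ha1
    rintro _ ⟨⟨u, hu, rfl⟩, hua⟩
    set a' : Y := ⟨a, hAY ha⟩
    have haB : mk a' ∈ B := mem_map_of_mem mk ha
    have ha'1 : mk a' ≠ 1 := fun h => ha1 (hAN a ha (mem_subgroupOf.mp ((QuotientGroup.eq_one_iff (N := N.subgroupOf Y) a').1 h)))
    have h1 := hWb.2.2.2 _ haB ha'1 ⟨hu, mem_centralizer_singleton_iff.2 (by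
      rw [← map_mul, ← map_mul]
      exact congrArg mk (Subtype.ext (mem_centralizer_singleton_iff.1 hua)))⟩
    rw [hθbar a' ha ha1] at h1
    obtain ⟨z, hz, hzu⟩ := h1
    have h2' : z⁻¹ * u ∈ N.subgroupOf Y := QuotientGroup.eq.mp hzu
    have h2 : ((z : G))⁻¹ * (u : G) ∈ N := mem_subgroupOf.mp h2'
    have h3 : ((z : G))⁻¹ * (u : G) ∈ θ a := hN.2.2.2 a ha ha1
      ⟨h2, (centralizer ({a} : Set G)).mul_mem ((centralizer ({a} : Set G)).inv_mem (S.theta_le_centralizer ha ha1 hz)) hua⟩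
    have := mul_mem (show (z : G) ∈ θ a from hz) h3
    rwa [mul_inv_cancel_left] at this
  · rintro a ha ha1 z ⟨hz, hzY⟩
    set a' : Y := ⟨a, hAY ha⟩
    have haB : mk a' ∈ B := mem_map_of_mem mk ha
    have ha'1 : mk a' ≠ 1 := fun h => ha1 (hAN a ha (mem_subgroupOf.mp ((QuotientGroup.eq_one_iff (N := N.subgroupOf Y) a').1 h)))
    refine ⟨⟨z, hzY⟩, hWble _ haB ha'1 ?_, rfl⟩
    rw [hθbar a' ha ha1]
    exact mem_map_of_mem mk hz

end Quotient

/-- The theorem for `|A| = p ^ 3`. -/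
theorem complete_of_setting {p : ℕ} [hp : Fact p.Prime] (n : ℕ) :
    ∀ (G : Type u) [Group G] [Finite G], Nat.card G = n →
      ∀ (A : Subgroup G) (θ : G → Subgroup G), Setting p A θ → Complete p A θ := by
  induction n using Nat.strong_induction_on with
  | _ n ih =>
  intro G _ _ hn A θ S
  classical
  haveI := Fintype.ofFinite G
  let μ : (G → Subgroup G) → ℕ := fun η =>
    ∑ a ∈ Finset.univ.filter (fun a => a ∈ A ∧ a ≠ 1), Nat.card (η a)
  have key : ∀ (m : ℕ) (η : G → Subgroup G), μ η = m → Setting p A η → Complete p A η := by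
    intro m
    induction m using Nat.strong_induction_on with
    | _ m ih' =>
    intro η hm Sη
    by_contra hc
    refine (Minimal.mk Sη (fun η' Sη' hle hlt => ?_) (fun N hN hne =>
      exists_local Sη (fun X _ _ hX B ζ hB => ih _ (hn ▸ hX) X rfl B ζ hB) hN hne) hc).false'
    refine ih' (μ η') (hm ▸ ?_) η' rfl Sη'
    obtain ⟨a, ha, ha1, hne⟩ := hlt
    refine Finset.sum_lt_sum (fun b hb => ?_) ⟨a, by simp [ha, ha1], ?_⟩
    · simp only [Finset.mem_filter] at hb
      exact card_le_of_le (hle b hb.2.1 hb.2.2)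
    · exact lt_of_le_of_ne (card_le_of_le (hle a ha ha1))
        fun he => hne (eq_of_le_of_card_ge (hle a ha ha1) he.ge)
  exact key _ θ rfl S

variable {G : Type u} [Group G] [Finite G] {p : ℕ} [hp : Fact p.Prime]

/-- The solvable signalizer functor theorem. -/
theorem solvable_complete {A : Subgroup G} {θ : G → Subgroup G}
    (hA : Cfsg.IsElementaryAbelian p A) (hA3 : p ^ 3 ≤ Nat.card A)
    (hθ : Cfsg.IsSolvableSignalizerFunctor p A θ) :
    Mem p A θ (⨆ a : {a : G // a ∈ A ∧ a ≠ 1}, θ (a : G)) ∧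
      ∀ a ∈ A, a ≠ 1 → (⨆ b : {b : G // b ∈ A ∧ b ≠ 1}, θ (b : G)) ⊓ centralizer {a} = θ a := by
  obtain ⟨k, hk⟩ := (isPGroup_of_elementary hA).exists_card_eq
  have hk3 : 3 ≤ k := (Nat.pow_le_pow_iff_right hp.out.one_lt).1 (hk ▸ hA3)
  obtain ⟨D, hD⟩ := Sylow.exists_subgroup_card_pow_prime (G := A) p (n := 3) (hk ▸ pow_dvd_pow p hk3)
  set A₀ := D.map A.subtype with hA₀
  have hA₀A : A₀ ≤ A := map_subtype_le D
  have S₀ : Setting p A₀ θ := ⟨elementary_of_le hA hA₀A, (Coprime.card_map_subtype (H := D)).trans hD,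
    ⟨fun a ha => hθ.1.1 a (hA₀A ha), fun a ha => hθ.1.2.1 a (hA₀A ha),
      fun a ha ha1 b hb => hθ.1.2.2.1 a (hA₀A ha) ha1 b (hA₀A hb),
      fun a ha ha1 b hb => hθ.1.2.2.2 a (hA₀A ha) ha1 b (hA₀A hb)⟩,
    fun a ha => hθ.2 a (hA₀A ha)⟩
  obtain ⟨W, hW, hWle⟩ := complete_of_setting (Nat.card G) G rfl A₀ θ S₀
  set U := ⨆ a : {a : G // a ∈ A ∧ a ≠ 1}, θ (a : G) with hU
  -- a member of the family on `A₀` lying in each `θ b` is generated by `A₀`-points
  have hgen : ∀ b ∈ A, b ≠ 1 → θ b ≤ W := fun b hb hb1 => by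
    have hm : Mem p A₀ θ (θ b) := member_mk (hθ.2 b hb hb1) (hθ.1.2.1 b hb hb1)
      (hA₀A.trans (le_normalizer_theta hθ.1 hb hb1))
      fun a ha ha1 => hθ.1.2.2.2 b hb hb1 a (hA₀A ha) ha1
    exact S₀.le_of_points hm fun a ha ha1 => (hm.2.2.2 a ha ha1).trans (hWle a ha ha1)
  have hUW : U ≤ W := iSup_le fun a => hgen a a.2.1 a.2.2
  have hAU : A ≤ normalizer (U : Set G) := fun b hb => by
    rw [mem_normalizer_iff_map_conj_eq, hU, Subgroup.map_iSup]
    exact iSup_congr fun a => mem_normalizer_iff_map_conj_eq.mp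
      (le_normalizer_theta hθ.1 a.2.1 a.2.2 hb)
  have hm₀ : Mem p A₀ θ U := member_of_le hW hUW (hA₀A.trans hAU)
  have hin : ∀ b ∈ A, b ≠ 1 → U ⊓ centralizer {b} ≤ θ b := fun b hb hb1 => by
    have hV : Mem p A₀ θ (U ⊓ centralizer {b}) := member_of_le hm₀ inf_le_left
      (hA₀A.trans (le_normalizer_inf_centralizer_singleton hA hAU hb))
    refine S₀.le_of_points hV fun a ha ha1 => le_trans ?_ (hθ.1.2.2.2 a (hA₀A ha) ha1 b hb hb1)
    exact le_inf ((inf_le_inf_right _ inf_le_left).trans (hm₀.2.2.2 a ha ha1))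
      (inf_le_left.trans inf_le_right)
  refine ⟨member_mk hm₀.1 hm₀.2.1 hAU hin, fun a ha ha1 => le_antisymm (hin a ha ha1) ?_⟩
  exact le_inf (le_iSup (fun c : {c : G // c ∈ A ∧ c ≠ 1} => θ (c : G)) ⟨a, ha, ha1⟩)
    (hθ.1.1 a ha ha1)

/-- A coprime action of an elementary group of order at least `p ^ 3` with solvable centralisers. -/
theorem isSolvable_of_centralizers {A K : Subgroup G} (hA : Cfsg.IsElementaryAbelian p A)
    (hA3 : p ^ 3 ≤ Nat.card A) (hK : ¬ p ∣ Nat.card K) (hAK : A ≤ normalizer (K : Set G))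
    (hC : ∀ a ∈ A, a ≠ 1 → Group.IsSolvable ↥(K ⊓ centralizer ({a} : Set G))) :
    Group.IsSolvable K := by
  have hθ : Cfsg.IsSolvableSignalizerFunctor p A (fun a => K ⊓ centralizer {a}) :=
    ⟨⟨fun _ _ _ => inf_le_right, fun _ _ _ => not_dvd_of_le inf_le_left hK,
      fun a ha _ b hb x hx =>
        le_normalizer_iff.1 (le_normalizer_inf_centralizer_singleton hA hAK ha) b hb x hx,
      fun _ _ _ b _ _ => inf_le_inf_right _ inf_le_left⟩, hC⟩
  refine Coprime.isSolvable_of_le ?_ (solvable_complete hA hA3 hθ).1.1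
  refine (le_iSup_centralizer_relIndex hA le_rfl (exists_ne_one_of_card hA3 (by norm_num)) hK hAK).trans
    (iSup_le fun D => ?_)
  have hDne : (D : Subgroup G) ≠ ⊥ := by
    intro hb
    have h1 := Coprime.card_mul_relIndex' D.2.1
    rw [D.2.2, hb, Subgroup.card_bot, one_mul] at h1
    have h2 : p ^ 1 < p ^ 3 := Nat.pow_lt_pow_right hp.out.one_lt (by norm_num)
    rw [pow_one] at h2
    omega
  obtain ⟨a, haD, ha1⟩ := (D : Subgroup G).bot_or_exists_ne_one.resolve_left hDne
  exact (inf_le_inf_left _ (centralizer_le (Set.singleton_subset_iff.2 haD))).trans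
    (le_iSup (fun c : {c : G // c ∈ A ∧ c ≠ 1} => K ⊓ centralizer {(c : G)}) ⟨a, D.2.1 haD, ha1⟩)

end CfsgLib.Components.SFT
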