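import Cfsg.Agent.Lib.Components.SFT.Criterion

/-!
The covering lemma: if `R` is generated by `C_R(P)` and `C_R(g)` then `[P, g]` centralises `R`.
-/

set_option autoImplicit false
set_option linter.style.haveILetI false
set_option linter.unusedSectionVars false

namespace CfsgLib.Components.SFT

open Subgroup
open scoped commutatorElement

variable {X : Type*} [Group X]

theorem conj_mem_of_mem_normalizer {K : Subgroup X} {b k : X} (hb : b ∈ normalizer (K : Set X))
    (hk : k ∈ K) : b * k * b⁻¹ ∈ K := (mem_normalizer_iff.mp hb k).mp hk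

theorem conj_inv_mem_of_mem_normalizer {K : Subgroup X} {b k : X}
    (hb : b ∈ normalizer (K : Set X)) (hk : k ∈ K) : b⁻¹ * k * b ∈ K := by
  have := conj_mem_of_mem_normalizer (inv_mem hb) hk
  simpa using this

/-- The elements normalising `K` and `N` and acting trivially on `K / N`. -/
def trivMod (K N : Subgroup X) : Subgroup X where
  carrier := {b | b ∈ normalizer (K : Set X) ∧ b ∈ normalizer (N : Set X) ∧ ∀ k ∈ K, ⁅b, k⁆ ∈ N}
  one_mem' := ⟨one_mem _, one_mem _, fun k _ => by simp [one_mem]⟩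
  mul_mem' := fun {a b} ha hb => ⟨mul_mem ha.1 hb.1, mul_mem ha.2.1 hb.2.1, fun k hk => by
    have e : ⁅a * b, k⁆ = a * ⁅b, k⁆ * a⁻¹ * ⁅a, k⁆ := by
      simp only [commutatorElement_def]; group
    rw [e]
    exact mul_mem (conj_mem_of_mem_normalizer ha.2.1 (hb.2.2 k hk)) (ha.2.2 k hk)⟩
  inv_mem' := fun {a} ha => ⟨inv_mem ha.1, inv_mem ha.2.1, fun k hk => by
    have e : ⁅a⁻¹, k⁆ = a⁻¹ * ⁅a, k⁆⁻¹ * a := by simp only [commutatorElement_def]; group
    rw [e]
    exact conj_inv_mem_of_mem_normalizer ha.2.1 (inv_mem (ha.2.2 k hk))⟩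

theorem mem_trivMod {K N : Subgroup X} {b : X} : b ∈ trivMod K N ↔
    b ∈ normalizer (K : Set X) ∧ b ∈ normalizer (N : Set X) ∧ ∀ k ∈ K, ⁅b, k⁆ ∈ N := Iff.rfl

theorem zpowers_triv {K N : Subgroup X} {y : X} (h : y ∈ trivMod K N) :
    ∀ b ∈ zpowers y, ∀ k ∈ K, ⁅b, k⁆ ∈ N := fun b hb =>
  ((zpowers_le (H := trivMod K N)).mpr h hb).2.2

/-- If `R` is nilpotent, generated by `R₀ ≤ C_R(P)` and `C_R(g)`, and `|R|` is prime to the
`q`-group `P`, then `[P, g]` centralises `R`. -/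
theorem commutator_le_centralizer_of_cover [Finite X] {q : ℕ} [hq : Fact q.Prime]
    {R P R₀ : Subgroup X} {g : X} (hR : Group.IsNilpotent R) (hP : IsPGroup q P)
    (hcop : (Nat.card R).Coprime q) (hPR : P ≤ normalizer (R : Set X))
    (hgR : g ∈ normalizer (R : Set X)) (hgP : g ∈ normalizer (P : Set X))
    (hR₀P : R₀ ≤ centralizer (P : Set X))
    (hgen : R ≤ R₀ ⊔ (R ⊓ centralizer {g})) (hR₀ : R₀ ≤ R) {x : X} (hx : x ∈ P) :
    ⁅x, g⁆ ∈ centralizer (R : Set X) := by
  set W := ⁅R, R⁆ with hW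
  set S := R ⊓ centralizer (P : Set X) with hS
  set R1 := W ⊔ S with hR1
  have hR₀S : R₀ ≤ S := le_inf hR₀ hR₀P
  have hWR : W ≤ R := le_normalizer_iff_commutator_le_left.1 Subgroup.le_normalizer
  have hR1R : R1 ≤ R := sup_le hWR inf_le_left
  have hRW : R ≤ normalizer (W : Set X) := normalizer_commutator_ge_right R R
  have hnW : ∀ b ∈ normalizer (R : Set X), b ∈ normalizer (W : Set X) := fun b hb => by
    rw [mem_normalizer_iff_map_conj_eq, hW, map_commutator,
      mem_normalizer_iff_map_conj_eq.mp hb]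
  have hSW : S ≤ normalizer (W : Set X) := inf_le_left.trans hRW
  have hxR : x ∈ normalizer (R : Set X) := hPR hx
  have hxc : ∀ s ∈ S, x * s * x⁻¹ = s := fun s hs => by
    rw [mem_centralizer_iff.mp hs.2 x hx, mul_inv_cancel_right]
  have hxS : x ∈ normalizer (S : Set X) := by
    refine inf_normalizer_le_normalizer_inf ⟨hxR, ?_⟩
    exact normalizer_le_normalizer_centralizer (Subgroup.le_normalizer hx)
  have hgS : g ∈ normalizer (S : Set X) :=
    inf_normalizer_le_normalizer_inf ⟨hgR, normalizer_le_normalizer_centralizer hgP⟩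
  have hn1 : ∀ b ∈ normalizer (R : Set X), b ∈ normalizer (S : Set X) →
      b ∈ normalizer (R1 : Set X) := fun b h1 h2 => by
    rw [mem_normalizer_iff_map_conj_eq, hR1, Subgroup.map_sup,
      mem_normalizer_iff_map_conj_eq.mp (hnW b h1), mem_normalizer_iff_map_conj_eq.mp h2]
  have hx1 := hn1 x hxR hxS
  have hg1 := hn1 g hgR hgS
  have hRR1 : R ≤ normalizer (R1 : Set X) := by
    refine le_normalizer_iff_commutator_le_left.2 ?_
    exact (commutator_mono hR1R le_rfl).trans le_sup_left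
  have hgen1 : R ≤ R1 ⊔ (R ⊓ centralizer {g}) :=
    hgen.trans (sup_le_sup_right (hR₀S.trans le_sup_right) _)
  have hdec : ∀ r ∈ R, ∃ r1 ∈ R1, ∃ c ∈ R, g * c * g⁻¹ = c ∧ r = r1 * c := fun r hr => by
    obtain ⟨r1, h1, c, hc, e⟩ :=
      (Coprime.mem_sup_of_le_normalizer (inf_le_left.trans hRR1)).mp (hgen1 hr)
    refine ⟨r1, h1, c, hc.1, ?_, e.symm⟩
    rw [(mem_centralizer_singleton_iff.mp hc.2).symm, mul_inv_cancel_right]
  set y := ⁅x, g⁆ with hy
  have hyP : y ∈ P := by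
    rw [hy, commutatorElement_def, mul_assoc x, mul_assoc x]
    exact mul_mem hx (by simpa [mul_assoc] using conj_mem_of_mem_normalizer hgP (inv_mem hx))
  have hyR : y ∈ normalizer (R : Set X) := hPR hyP
  have hy1 : y ∈ normalizer (R1 : Set X) := by
    rw [hy, commutatorElement_def]
    exact mul_mem (mul_mem (mul_mem hx1 hg1) (inv_mem hx1)) (inv_mem hg1)
  -- `y` is trivial on `R / R1`
  have h1 : ∀ r ∈ R, ⁅y, r⁆ ∈ R1 := by
    intro r hr
    obtain ⟨r1, hr1, c, hc, hgc, rfl⟩ := hdec r hr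
    obtain ⟨r2, hr2, c', hc', hgc', e'⟩ :=
      hdec (x⁻¹ * c * x) (conj_inv_mem_of_mem_normalizer hxR hc)
    have hr1' : y * r1 * y⁻¹ ∈ R1 := conj_mem_of_mem_normalizer hy1 hr1
    have hc1 : g⁻¹ * c * g = c := by
      calc g⁻¹ * c * g = g⁻¹ * (g * c * g⁻¹) * g := by rw [hgc]
        _ = c := by group
    have hyc : y * c * y⁻¹ = x * (g * r2 * g⁻¹ * r2⁻¹) * x⁻¹ * c := by
      calc y * c * y⁻¹ = x * (g * (x⁻¹ * (g⁻¹ * c * g) * x) * g⁻¹) * x⁻¹ := by
            rw [hy, commutatorElement_def]; group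
        _ = x * (g * (r2 * c') * g⁻¹) * x⁻¹ := by rw [hc1, e']
        _ = x * ((g * r2 * g⁻¹) * (g * c' * g⁻¹)) * x⁻¹ := by group
        _ = x * ((g * r2 * g⁻¹) * c') * x⁻¹ := by rw [hgc']
        _ = x * ((g * r2 * g⁻¹) * r2⁻¹ * (r2 * c')) * x⁻¹ := by group
        _ = x * ((g * r2 * g⁻¹) * r2⁻¹ * (x⁻¹ * c * x)) * x⁻¹ := by rw [e']
        _ = _ := by group
    have e : ⁅y, r1 * c⁆ = y * r1 * y⁻¹ * (x * (g * r2 * g⁻¹ * r2⁻¹) * x⁻¹) * r1⁻¹ := by
      calc ⁅y, r1 * c⁆ = y * r1 * y⁻¹ * (y * c * y⁻¹) * c⁻¹ * r1⁻¹ := by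
            rw [commutatorElement_def]; group
        _ = _ := by rw [hyc]; group
    rw [e]
    exact mul_mem (mul_mem hr1' (conj_mem_of_mem_normalizer hx1
      (mul_mem (conj_mem_of_mem_normalizer hg1 hr2) (inv_mem hr2)))) (inv_mem hr1)
  -- `y` is trivial on `R1 / W`
  have h2 : ∀ r ∈ R1, ⁅y, r⁆ ∈ W := by
    intro r hr
    obtain ⟨w, hw, s, hs, rfl⟩ := (Coprime.mem_sup_of_le_normalizer hSW).mp hr
    have hys : y * s * y⁻¹ = s := by
      rw [mem_centralizer_iff.mp hs.2 y hyP, mul_inv_cancel_right]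
    have e : ⁅y, w * s⁆ = y * w * y⁻¹ * w⁻¹ := by
      calc ⁅y, w * s⁆ = y * w * y⁻¹ * (y * s * y⁻¹) * s⁻¹ * w⁻¹ := by
            rw [commutatorElement_def]; group
        _ = _ := by rw [hys]; group
    rw [e]
    exact mul_mem (conj_mem_of_mem_normalizer (hnW y hyR) hw) (inv_mem hw)
  have hcy : (Nat.card (zpowers y)).Coprime (Nat.card R) := by
    obtain ⟨k, hk⟩ := hP.exists_card_eq
    exact ((hcop.symm.pow_left k).coprime_dvd_left (hk ▸ card_dvd_of_le (zpowers_le.mpr hyP)))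
  have hle1 := Coprime.le_sup_centralizer (zpowers_le.mpr hy1) hR1R
    (hcy.coprime_dvd_right (card_dvd_of_le hR1R)) (.inl (Coprime.isSolvable_zpowers y))
    (zpowers_triv ⟨hyR, hy1, h1⟩)
  have hle2 := Coprime.le_sup_centralizer (zpowers_le.mpr (hnW y hyR))
    (le_sup_left : W ≤ R1) (hcy.coprime_dvd_right (card_dvd_of_le hWR))
    (.inl (Coprime.isSolvable_zpowers y)) (zpowers_triv ⟨hy1, hnW y hyR, h2⟩)
  set C := R ⊓ centralizer ((zpowers y : Subgroup X) : Set X)
  have hRWC : R ≤ W ⊔ C := hle1.trans (sup_le (hle2.trans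
    (sup_le le_sup_left ((inf_le_inf_right _ hR1R).trans le_sup_right))) le_sup_right)
  haveI := hR
  have hC : C.subgroupOf R = ⊤ := by
    refine frattini_nongenerating (eq_top_iff.2 fun z _ => ?_)
    have h3 : (z : X) ∈ (C.subgroupOf R ⊔ frattini R).map R.subtype := by
      rw [Subgroup.map_sup, subgroupOf_map_subtype, inf_eq_left.2 inf_le_left, sup_comm]
      have hWF : W ≤ (frattini R).map R.subtype := by
        rw [hW, ← Coprime.map_commutator_subtype]
        exact Subgroup.map_mono Solvable.FrattiniFitting.commutator_le_frattini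
      exact (sup_le_sup_right hWF C) (hRWC z.2)
    obtain ⟨w, hw, e⟩ := h3
    rwa [← R.subtype_injective e]
  refine mem_centralizer_iff.2 fun r hr => ?_
  exact (mem_centralizer_iff.1 (subgroupOf_eq_top.1 hC hr).2 y (mem_zpowers y)).symm

end CfsgLib.Components.SFT
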