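import Cfsg.Agent.Lib.Components.SFT.SubFunctor
import Cfsg.Agent.Lib.Coprime.Sylow

/-!
Generation of `⁅H, b⁆` by pieces, and the two basic criteria for completeness.
-/

set_option autoImplicit false
set_option linter.style.haveILetI false
set_option linter.unusedSectionVars false
set_option maxHeartbeats 400000

namespace CfsgLib.Components.SFT

open Subgroup CfsgLib.Solvable CfsgLib.Components.Signalizer CfsgLib.Components.Bender
open scoped commutatorElement

variable {G : Type*} [Group G] [Finite G]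
variable {p : ℕ} [hp : Fact p.Prime] {A : Subgroup G} {θ : G → Subgroup G}

/-- `⁅x, b⁆ ∈ K` for all `x ∈ U` gives `⁅U, b⁆ ≤ K`, if `b` normalises `K`. -/
theorem commutator_zpowers_le_of_forall {U K : Subgroup G} {b : G}
    (hb : b ∈ normalizer (K : Set G)) (h : ∀ x ∈ U, ⁅x, b⁆ ∈ K) : ⁅U, zpowers b⁆ ≤ K :=
  commutator_le.2 fun x hx c hc => by
    obtain ⟨i, rfl⟩ := mem_powers_iff_mem_zpowers.mpr hc
    induction i with
    | zero => simp [one_mem]
    | succ i ih =>
      rw [show ⁅x, b ^ (i + 1)⁆ = ⁅x, b ^ i⁆ * (b ^ i * ⁅x, b⁆ * (b ^ i)⁻¹) by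
        simp only [commutatorElement_def, pow_succ]; group]
      exact mul_mem (ih (pow_mem (mem_zpowers b) i))
        ((mem_normalizer_iff.1 (pow_mem hb i) _).1 (h x hx))

namespace Setting

variable (S : Setting p A θ)
include S

theorem zpowers_le_normalizer {U : Subgroup G} (hU : Mem p A θ U) {b : G} (hb : b ∈ A) :
    zpowers b ≤ normalizer (U : Set G) :=
  zpowers_le.2 (member_le_normalizer hU hb)

theorem mem_commutator {U : Subgroup G} (hU : Mem p A θ U) {b : G} (hb : b ∈ A) :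
    Mem p A θ ⁅U, zpowers b⁆ :=
  member_of_le hU (le_normalizer_iff_commutator_le_left.1 (S.zpowers_le_normalizer hU hb)) fun a ha => by
    rw [mem_normalizer_iff_map_conj_eq, map_commutator,
      mem_normalizer_iff_map_conj_eq.mp (member_le_normalizer hU ha),
      mem_normalizer_iff_map_conj_eq.mp (S.le_normalizer_of_le (zpowers_le.2 hb) le_rfl ha)]

theorem commutator_le_self {U : Subgroup G} (hU : Mem p A θ U) {b : G} (hb : b ∈ A) :
    ⁅U, zpowers b⁆ ≤ U :=
  le_normalizer_iff_commutator_le_left.1 (S.zpowers_le_normalizer hU hb)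

theorem commutator_commutator {U : Subgroup G} (hU : Mem p A θ U) {b : G} (hb : b ∈ A) :
    ⁅⁅U, zpowers b⁆, zpowers b⁆ = ⁅U, zpowers b⁆ :=
  Coprime.commutator_commutator_self (S.zpowers_le_normalizer hU hb)
    (coprime_zpowers S.elem hb hU.2.1) (Or.inl (Coprime.isSolvable_zpowers b))

theorem le_centralizer_of_commutator_eq_bot {U : Subgroup G} {b : G} (h : ⁅U, zpowers b⁆ = ⊥) :
    U ≤ centralizer {b} := fun x hx => mem_centralizer_singleton_iff.2
  (commutatorElement_eq_one_iff_mul_comm.1 (mem_bot.1 (h ▸ commutator_mem_commutator hx (mem_zpowers b))))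

/-- A member `H = ⁅H, b⁆` is generated by the commutators of its pieces with `b`. -/
theorem le_of_commutator {H H₁ : Subgroup G} {b : G} (hb : b ∈ A) (hH : Mem p A θ H)
    (hHb : H ≤ ⁅H, zpowers b⁆) (hH₁ : b ∈ normalizer (H₁ : Set G)) {ι : Type*} (B : ι → Set G)
    (hgen : ∀ D : Subgroup G, Mem p A θ D → D ≤ H → D ≤ ⨆ i, D ⊓ centralizer (B i))
    (h : ∀ i, ∀ x ∈ H ⊓ centralizer (B i), ⁅x, b⁆ ∈ H₁) : H ≤ H₁ := by
  set H₂ := H₁ ⊓ H with hH₂def
  have hbH : b ∈ normalizer (H : Set G) := member_le_normalizer hH hb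
  have hbH₂ : b ∈ normalizer (H₂ : Set G) :=
    inf_normalizer_le_normalizer_inf ⟨hH₁, hbH⟩
  let D : ℕ → Subgroup G := fun i => (derivedSeries ↥H i).map H.subtype
  have hDH : ∀ i, D i ≤ H := fun i => map_subtype_le _
  have hDn : ∀ i, normalizer (H : Set G) ≤ normalizer (D i : Set G) :=
    fun i g hg => map_subtype_normal_of_characteristic hg
  have key : ∀ i, H ≤ H₂ ⊔ D i := by
    intro i
    induction i with
    | zero =>
      refine le_sup_of_le_right ?_
      show H ≤ (derivedSeries ↥H 0).map H.subtype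
      rw [derivedSeries_zero, ← MonoidHom.range_eq_map, Subgroup.range_subtype]
    | succ i ih =>
      set K := H₂ ⊔ D (i + 1) with hK
      have hKH : K ≤ H := sup_le inf_le_right (hDH _)
      have hbK : b ∈ normalizer (K : Set G) := by
        rw [mem_normalizer_iff_map_conj_eq, hK, Subgroup.map_sup,
          mem_normalizer_iff_map_conj_eq.mp hbH₂, mem_normalizer_iff_map_conj_eq.mp (hDn _ hbH)]
      set E := D i ⊓ K with hE
      have hD1 : ∀ d ∈ D i, ∀ e ∈ D i, ⁅d, e⁆ ∈ D (i + 1) := by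
        rintro _ ⟨d, hd, rfl⟩ _ ⟨e, he, rfl⟩
        exact ⟨⁅d, e⁆, by rw [derivedSeries_succ]; exact commutator_mem_commutator hd he,
          map_commutatorElement H.subtype d e⟩
      have hEn : H ≤ normalizer (E : Set G) := by
        refine ih.trans (sup_le ?_ fun d hd => ?_)
        · exact ((le_inf ((inf_le_right : H₂ ≤ H).trans (Subgroup.le_normalizer.trans (hDn i)))
            ((le_sup_left : H₂ ≤ K).trans Subgroup.le_normalizer))).trans
              inf_normalizer_le_normalizer_inf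
        · refine mem_normalizer_iff.2 fun e => ?_
          have hdi : ∀ d' ∈ D i, ∀ e' ∈ E, d' * e' * d'⁻¹ ∈ E := fun d' hd' e' he' => by
            refine ⟨(D i).mul_mem ((D i).mul_mem hd' he'.1) ((D i).inv_mem hd'), ?_⟩
            rw [show d' * e' * d'⁻¹ = ⁅d', e'⁆ * e' by rw [commutatorElement_def]; group]
            exact mul_mem (mem_sup_right (hD1 _ hd' _ he'.1)) he'.2
          refine ⟨hdi d hd e, fun he => ?_⟩
          have := hdi d⁻¹ (inv_mem hd) _ he
          simpa [mul_assoc] using this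
      have hbE : b ∈ normalizer (E : Set G) :=
        inf_normalizer_le_normalizer_inf ⟨hDn i hbH, hbK⟩
      let T : Subgroup G :=
        { carrier := {d | d ∈ D i ∧ ⁅d, b⁆ ∈ E}
          one_mem' := ⟨one_mem _, by simp [one_mem]⟩
          mul_mem' := fun {x y} hx hy => ⟨mul_mem hx.1 hy.1, by
            rw [show ⁅x * y, b⁆ = x * ⁅y, b⁆ * x⁻¹ * ⁅x, b⁆ by
              simp only [commutatorElement_def]; group]
            exact mul_mem ((mem_normalizer_iff.1 (hEn (hDH i hx.1)) _).1 hy.2) hx.2⟩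
          inv_mem' := fun {x} hx => ⟨inv_mem hx.1, by
            rw [show ⁅x⁻¹, b⁆ = x⁻¹ * ⁅x, b⁆⁻¹ * x⁻¹⁻¹ by
              simp only [commutatorElement_def]; group]
            exact (mem_normalizer_iff.1 (hEn (inv_mem (hDH i hx.1))) _).1 (inv_mem hx.2)⟩ }
      have hDT : D i ≤ T := by
        refine (hgen (D i) (member_of_le hH (hDH i) fun a ha =>
          hDn i (member_le_normalizer hH ha)) (hDH i)).trans (iSup_le fun j x hx => ⟨hx.1, ?_, ?_⟩)
        · rw [commutatorElement_def, mul_assoc x, mul_assoc x]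
          exact mul_mem hx.1 ((mem_normalizer_iff.1 (hDn i hbH) _).1 (inv_mem hx.1))
        · refine mem_sup_left ⟨h j x ⟨hDH i hx.1, hx.2⟩, ?_⟩
          rw [commutatorElement_def, mul_assoc x, mul_assoc x]
          exact mul_mem (hDH i hx.1) ((mem_normalizer_iff.1 hbH _).1 (inv_mem (hDH i hx.1)))
      refine hHb.trans (commutator_zpowers_le_of_forall hbK fun x hx => ?_)
      obtain ⟨k, hk, d, hd, rfl⟩ : ∃ k ∈ H₂, ∃ d ∈ D i, k * d = x := by
        have hx' := ih hx
        rw [← SetLike.mem_coe, coe_mul_of_left_le_normalizer_right H₂ (D i)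
          ((inf_le_right : H₂ ≤ H).trans (Subgroup.le_normalizer.trans (hDn i)))] at hx'
        obtain ⟨k, hk, d, hd, e⟩ := hx'
        exact ⟨k, hk, d, hd, e⟩
      rw [show ⁅k * d, b⁆ = k * ⁅d, b⁆ * k⁻¹ * ⁅k, b⁆ by simp only [commutatorElement_def]; group]
      refine mul_mem (mul_mem (mul_mem (mem_sup_left hk) (hDT hd).2.2) (inv_mem (mem_sup_left hk))) ?_
      rw [commutatorElement_def, mul_assoc k, mul_assoc k]
      exact mul_mem (mem_sup_left hk) (mem_sup_left ((mem_normalizer_iff.1 hbH₂ _).1 (inv_mem hk)))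
  obtain ⟨n, hn⟩ := hH.1.solvable
  have h1 := key n
  rw [show D n = ⊥ by show (derivedSeries ↥H n).map H.subtype = ⊥; rw [hn, Subgroup.map_bot],
    sup_bot_eq] at h1
  exact h1.trans inf_le_left

theorem le_iSup_lines' {H : Subgroup G} (D : Subgroup G) (hD : Mem p A θ D) (_ : D ≤ H) :
    D ≤ ⨆ L : {L : Subgroup G // Line p A L}, D ⊓ centralizer ((L : Subgroup G) : Set G) :=
  S.le_iSup_lines hD

/-- A `q`-group centralised by `h` above its fixed points is centralised. -/
theorem le_centralizer_of_growth {q : ℕ} [Fact q.Prime] {R : Subgroup G} (hR : IsPGroup q R)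
    {h : G} (hgrow : ∀ x ∈ R ⊓ normalizer ((R ⊓ centralizer {h} : Subgroup G) : Set G),
      x ∈ centralizer {h}) : R ≤ centralizer {h} := by
  rcases (inf_le_left : R ⊓ centralizer {h} ≤ R).lt_or_eq with hlt | heq
  · have h1 := Coprime.lt_normalizer_inf_of_lt hR hlt
    exact absurd (fun x hx => ⟨hx.1, hgrow x hx⟩ : R ⊓ normalizer _ ≤ R ⊓ centralizer {h}) h1.not_ge
  · exact heq ▸ inf_le_right

/-- `⁅x, h⁆` centralises what both `x` normalises and `h` centralises. -/
theorem commutator_mem_centralizer {W : Subgroup G} {x h : G} (hx : x ∈ normalizer (W : Set G))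
    (hh : h ∈ centralizer (W : Set G)) : ⁅x, h⁆ ∈ centralizer (W : Set G) := by
  rw [commutatorElement_def]
  refine mul_mem ?_ (inv_mem hh)
  refine mem_centralizer_iff.2 fun w hw => ?_
  have h1 := mem_centralizer_iff.1 hh _ ((mem_normalizer_iff.1 (inv_mem hx) w).1 hw)
  rw [inv_inv] at h1
  calc w * (x * h * x⁻¹) = x * ((x⁻¹ * w * x) * h) * x⁻¹ := by group
    _ = x * (h * (x⁻¹ * w * x)) * x⁻¹ := by rw [h1]
    _ = x * h * x⁻¹ * w := by group

end Setting

namespace Minimal

variable (H : Minimal p A θ)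
include H

/-- If `h` centralises a maximal `t`-member then the functor is complete. -/
theorem false_of_centralised {t : ℕ} [ht : Fact t.Prime] {R : Subgroup G} {h : G} (hh : h ∈ A)
    (hh1 : h ≠ 1) (hR : Mem p A θ R) (hRt : IsPGroup t R) (hRne : R ≠ ⊥)
    (hRmax : ∀ R' ∈ Cfsg.signalizerFamily p A θ, IsPGroup t R' → R ≤ R' → R' = R)
    (hRh : R ≤ centralizer {h}) : False := by
  have S := H.toSetting
  have hdiv : Divides A θ t := by
    by_contra hno
    refine hRne (le_bot_iff.mp (S.le_of_points hR fun a ha ha1 => ?_))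
    have hP : IsPGroup t ↥(R ⊓ centralizer {a}) := hRt.to_le inf_le_left
    obtain ⟨k, hk⟩ := IsPGroup.iff_card.mp hP
    rcases Nat.eq_zero_or_pos k with rfl | hk0
    · exact le_of_eq (card_eq_one.mp (by simpa using hk))
    · exact absurd ⟨a, ha, ha1, ((dvd_pow_self t hk0.ne').trans (hk ▸ dvd_rfl)).trans
        (card_dvd_of_le (hR.2.2.2 a ha ha1))⟩ hno
  obtain ⟨K, hK, -, -, hKle⟩ := H.exists_piMember {q | q ≠ t} ht.out (fun h => h rfl) hdiv
  -- `⁅θ a, h⁆` is a `t'`-group
  have hθK : ∀ a ∈ A, a ≠ 1 → ⁅θ a, zpowers h⁆ ≤ K := by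
    intro a ha ha1
    have hθ := S.mem_theta ha ha1
    obtain ⟨T, hT, hAT⟩ := Coprime.exists_invariant_hall {t} (member_le_normalizer hθ)
      (coprime_card S.elem hθ.2.1) hθ.1
    have hTt : IsPGroup t T := IsPGroup.of_card
      (Nat.eq_prime_pow_of_unique_prime_dvd Nat.card_pos.ne' fun {d} hd hdd => hT.2.1 d hd hdd)
    have hTm : Mem p A θ T := member_of_le hθ hT.1 hAT
    obtain ⟨T', hTT', hT', hT't, hT'max⟩ := exists_maximal_member hTm hTt
    obtain ⟨c, hc, e⟩ := exists_conj_maximal S.elem S.card_ge S.funct hR hRt hRmax hT' hT't hT'max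
    have hTh : T ≤ centralizer {h} := by
      refine hTT'.trans ?_
      rw [← e]
      rintro _ ⟨r, hr, rfl⟩
      have hc' := S.C_le_centralizer_singleton hh hc
      exact mul_mem (mul_mem hc' (hRh hr)) (inv_mem hc')
    have hnd : ¬ t ∣ Nat.card ↥⁅θ a, zpowers h⁆ := not_dvd_commutator hp.out hθ.1 hθ.2.1
      (member_le_normalizer hθ hh) (S.pow_eq_one hh) hT.1 hTt (hT.2.2 t ht.out rfl) hTh
    refine hKle _ (S.mem_commutator hθ hh) (fun c hc => ?_) fun q hq hd hqt => hnd (hqt ▸ hd)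
    exact (normalizer_commutator_ge_left (θ a) (zpowers h)) (S.C_le_theta ha ha1 hc)
  set D := closure {z | ∃ M, Line p A M ∧ ∃ y ∈ Cfsg.signalizerInf M θ, z = ⁅y, h⁆} with hD
  have hAD : A ≤ normalizer (D : Set G) := fun b hb => by
    refine mem_normalizer_iff_map_conj_eq.2 (eq_of_le_of_card_ge ?_
      (by rw [card_map_of_injective (MulAut.conj b).injective]))
    rw [hD, MonoidHom.map_closure, closure_le]
    rintro _ ⟨_, ⟨M, hM, y, hy, rfl⟩, rfl⟩
    refine subset_closure ⟨M, hM, b * y * b⁻¹,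
      (S.mem_lineTheta hM).2.2.1 b hb y hy, ?_⟩
    show b * ⁅y, h⁆ * b⁻¹ = ⁅b * y * b⁻¹, h⁆
    have hc : h = b⁻¹ * h * b := by rw [mul_assoc, ← S.comm hb hh, inv_mul_cancel_left]
    have hc' : b⁻¹ * h⁻¹ = h⁻¹ * b⁻¹ := by rw [← mul_inv_rev, ← mul_inv_rev, S.comm hb hh]
    calc b * ⁅y, h⁆ * b⁻¹ = b * y * h * y⁻¹ * (h⁻¹ * b⁻¹) := by rw [commutatorElement_def]; group
      _ = b * y * (b⁻¹ * h * b) * y⁻¹ * (b⁻¹ * h⁻¹) := by rw [← hc, hc']
      _ = _ := by rw [commutatorElement_def]; group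
  have hle : ∀ a ∈ A, a ≠ 1 → ⁅θ a, zpowers h⁆ ≤ D := fun a ha ha1 =>
    S.le_of_commutator hh (S.mem_commutator (S.mem_theta ha ha1) hh)
      (S.commutator_commutator (S.mem_theta ha ha1) hh).ge (hAD hh)
      (fun L : {L : Subgroup G // Line p A L} => ((L : Subgroup G) : Set G))
      (fun D hD _ => S.le_iSup_lines hD) fun L x hx => subset_closure ⟨L, L.2, x,
        S.inf_centralizer_le_lineTheta (S.mem_theta ha ha1) L.2
          ⟨S.commutator_le_self (S.mem_theta ha ha1) hh hx.1, hx.2⟩, rfl⟩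
  have hDK : D ≤ K := (closure_le _).2 (by
    rintro _ ⟨M, hM, y, hy, rfl⟩
    obtain ⟨a, haM, ha1⟩ := M.bot_or_exists_ne_one.resolve_left (S.line_ne_bot hM)
    exact hθK a (hM.1 haM) ha1
      (commutator_mem_commutator (S.lineTheta_le haM ha1 hy) (mem_zpowers h)))
  have hDm : Mem p A θ D := member_of_le hK hDK hAD
  have hDbot := H.exists_normalized_bot hDm fun L hL x hx => by
    refine mem_normalizer_iff_map_conj_eq.2 (eq_of_le_of_card_ge ?_
      (by rw [card_map_of_injective (MulAut.conj x).injective]))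
    rw [hD, MonoidHom.map_closure, closure_le]
    rintro _ ⟨_, ⟨M, hM, y, hy, rfl⟩, rfl⟩
    obtain ⟨c, hc, hc1, hcL, hcM⟩ := S.exists_mem_inter hL hM
    exact hle c hc hc1 ((mem_normalizer_iff.1 (normalizer_commutator_ge_left (θ c) (zpowers h)
      (S.lineTheta_le hcL hc1 hx)) _).1
      (commutator_mem_commutator (S.lineTheta_le hcM hc1 hy) (mem_zpowers h)))
  refine H.not_complete ⟨θ h, S.mem_theta hh hh1, fun a ha ha1 =>
    (le_inf le_rfl ?_).trans (S.funct.1.2.2.2 a ha ha1 h hh hh1)⟩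
  exact S.le_centralizer_of_commutator_eq_bot (le_bot_iff.mp (hDbot ▸ hle a ha ha1))

/-- No `θ h` is a maximal member. -/
theorem not_isMax_theta {h : G} (hh : h ∈ A) (hh1 : h ≠ 1) : ¬ IsMax p A θ (θ h) := by
  intro hM
  have S := H.toSetting
  have hθ := S.mem_theta hh hh1
  have hne : θ h ≠ ⊥ := by
    intro hb
    refine H.not_complete ⟨θ h, hθ, fun a ha ha1 => ?_⟩
    exact (hM.2 _ (S.mem_theta ha ha1) (by rw [hb]; exact bot_le)).le
  obtain ⟨t, ht, hN⟩ : ∃ t : ℕ, t.Prime ∧ coreIn t (θ h) ≠ ⊥ := by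
    by_contra hno
    push Not at hno
    haveI := hθ.1
    haveI : Nontrivial (θ h) := (Subgroup.nontrivial_iff_ne_bot _).2 hne
    have hF : Cfsg.fittingSubgroup ↥(θ h) = ⊥ := by
      rw [Cores.fittingSubgroup_eq_iSup_pCore, iSup_eq_bot]
      intro s
      exact Subgroup.map_injective (θ h).subtype_injective ((hno s s.2).trans (Subgroup.map_bot _).symm)
    have h1 := Cores.centralizer_fittingSubgroup_le (G := ↥(θ h))
    rw [hF] at h1
    obtain ⟨x, hx⟩ := exists_ne (1 : θ h)
    exact hx (mem_bot.1 (h1 (mem_centralizer_iff.2 fun y hy => by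
      rw [mem_bot.1 hy, one_mul, mul_one])))
  haveI := Fact.mk ht
  set N := coreIn t (θ h)
  have hAN : A ≤ normalizer (N : Set G) := fun b hb =>
    map_subtype_normal_of_characteristic (member_le_normalizer hθ hb)
  have hNm : Mem p A θ N := member_of_le hθ (coreIn_le t _) hAN
  obtain ⟨R, hNR, hR, hRt, hRmax⟩ := exists_maximal_member hNm (isPGroup_coreIn t _)
  refine H.false_of_centralised (R := R) hh hh1 hR hRt
    (fun hb => hN (le_bot_iff.mp (hb ▸ hNR))) hRmax ?_
  have hNS : N ≤ R ⊓ centralizer {h} :=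
    le_inf hNR ((coreIn_le t _).trans (S.theta_le_centralizer hh hh1))
  refine S.le_centralizer_of_growth hRt fun x hx => ?_
  have hNn : N ≠ ⊥ := hN
  set U := R ⊓ normalizer (N : Set G)
  have hU : Mem p A θ U := member_of_le hR inf_le_left
    ((le_inf (member_le_normalizer hR) (hAN.trans Subgroup.le_normalizer)).trans
      inf_normalizer_le_normalizer_inf)
  have hUh : U ≤ θ h := H.le_of_isMax hM hNm hNn (le_normalizer_coreIn t _) hU inf_le_right
  have hhR : h ∈ normalizer (R : Set G) := member_le_normalizer hR hh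
  have hxh : ⁅x, h⁆ ∈ R := by
    rw [commutatorElement_def, mul_assoc x, mul_assoc x]
    exact mul_mem hx.1 ((mem_normalizer_iff.1 hhR _).1 (inv_mem hx.1))
  have hxN : ⁅x, h⁆ ∈ normalizer (N : Set G) := centralizer_le_normalizer _
    (centralizer_le hNS (S.commutator_mem_centralizer hx.2
      (mem_centralizer_iff.2 fun w hw => mem_centralizer_singleton_iff.1 hw.2)))
  have hcomm := mem_centralizer_singleton_iff.1
    (S.theta_le_centralizer hh hh1 (hUh ⟨hxh, hxN⟩))
  have h1 : ⁅h, x⁆ = 1 := FPFOperators.eq_one_of_commute_commutator (S.pow_eq_one hh) (by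
    rw [← commutatorElement_inv]
    exact ((show Commute h ⁅x, h⁆ from hcomm.symm).inv_right).eq) (by
    rw [← commutatorElement_inv, orderOf_inv]
    exact Nat.Coprime.coprime_dvd_left (Subgroup.orderOf_dvd_natCard R hxh)
      ((hp.out.coprime_iff_not_dvd.2 hR.2.1).symm))
  exact mem_centralizer_singleton_iff.2 (commutatorElement_eq_one_iff_mul_comm.1 h1).symm

/-- A maximal member over `θ h` has a core moved by `h`. -/
theorem exists_moved_core {h : G} (hh : h ∈ A) (hh1 : h ≠ 1) {M : Subgroup G} (hM : IsMax p A θ M)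
    (hle : θ h ≤ M) : ∃ r : ℕ, r.Prime ∧ ¬ coreIn r M ≤ centralizer {h} := by
  by_contra hno
  push Not at hno
  have hMh : M ≤ θ h := (le_inf le_rfl (le_centralizer_of_cores hp.out hM.1.1 hM.1.2.1
    (member_le_normalizer hM.1 hh) (H.toSetting.pow_eq_one hh) hno)).trans (hM.1.2.2.2 h hh hh1)
  exact H.not_isMax_theta hh hh1 (le_antisymm hle hMh ▸ hM)

end Minimal

end CfsgLib.Components.SFT
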