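import Cfsg.Agent.Lib.Components.SFT.TheoremU

/-!
Exceptional points (`TH t e = ⊥`), bad lines, and the pair of primes they produce.
-/

set_option autoImplicit false
set_option linter.style.haveILetI false
set_option linter.unusedSectionVars false
set_option maxHeartbeats 400000

namespace CfsgLib.Components.SFT

open Subgroup CfsgLib.Solvable CfsgLib.Components.Signalizer CfsgLib.Components.Bender
open scoped commutatorElement

variable {G : Type*} [Group G] [Finite G]
variable {p : ℕ} [hp : Fact p.Prime] {A : Subgroup G} {θ : G → Subgroup G}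

namespace Setting

variable (S : Setting p A θ)
include S

theorem Y_inf_centralizer_le_TH {t : ℕ} [Fact t.Prime] {v : G} (hv : v ∈ A) (hv1 : v ≠ 1) :
    Yq p t A θ ⊓ centralizer {v} ≤ TH p t A θ v :=
  (S.Y_inf_centralizer_le_core hv hv1).trans (S.coreIn_le_TH (S.mem_theta hv hv1) le_rfl)

theorem Y_inf_centralizer_eq_bot {t : ℕ} [Fact t.Prime] {v : G} (hv : v ∈ A) (hv1 : v ≠ 1)
    (h : TH p t A θ v = ⊥) : Yq p t A θ ⊓ centralizer {v} = ⊥ :=
  le_bot_iff.mp ((S.Y_inf_centralizer_le_TH hv hv1).trans h.le)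

/-- A member without fixed points of `b` is its commutator with `b`. -/
theorem eq_commutator_of_fpf {U : Subgroup G} (hU : Mem p A θ U) {b : G} (hb : b ∈ A)
    (h : U ⊓ centralizer {b} = ⊥) : ⁅U, zpowers b⁆ = U := by
  refine le_antisymm (S.commutator_le_self hU hb) ?_
  conv_lhs => rw [← Coprime.commutator_sup_centralizer (S.zpowers_le_normalizer hU hb)
    (coprime_zpowers S.elem hb hU.2.1) (Or.inl (Coprime.isSolvable_zpowers b))]
  exact sup_le le_rfl ((le_inf inf_le_left (inf_le_right.trans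
    le_centralizer_singleton_of_zpowers)).trans (h.le.trans bot_le))

theorem commutator_eq_bot_of_le_centralizer {U : Subgroup G} {b : G} (h : U ≤ centralizer {b}) :
    ⁅U, zpowers b⁆ = ⊥ :=
  commutator_eq_bot_iff_le_centralizer.2 (le_centralizer_zpowers_of_singleton h)

/-- `θ h` normalises `⁅X, h⁆` if it normalises `X`. -/
theorem theta_le_normalizer_commutator {X : Subgroup G} {h : G} (hh : h ∈ A) (hh1 : h ≠ 1)
    (hX : θ h ≤ normalizer (X : Set G)) :
    θ h ≤ normalizer ((⁅X, zpowers h⁆ : Subgroup G) : Set G) := fun x hx => by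
  rw [mem_normalizer_iff_map_conj_eq, map_commutator, mem_normalizer_iff_map_conj_eq.mp (hX hx),
    mem_normalizer_iff_map_conj_eq.mp (centralizer_le_normalizer _
      (le_centralizer_zpowers_of_singleton (S.theta_le_centralizer hh hh1) hx))]

theorem moved_le_Y {r : ℕ} [Fact r.Prime] (hr2 : r ≠ 2) {h : G} (hh : h ∈ A) (hh1 : h ≠ 1)
    {M : Subgroup G} (hM : Mem p A θ M) (hle : θ h ≤ M) :
    ⁅coreIn r M, zpowers h⁆ ≤ Yq p r A θ :=
  S.le_Y_of_moved hh hh1 (isPGroup_coreIn r M) (hle.trans (le_normalizer_coreIn r M))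
    (S.mem_commutator (S.coreIn_mem hM) hh) (S.commutator_le_self (S.coreIn_mem hM) hh)
    (S.commutator_commutator (S.coreIn_mem hM) hh).ge (Or.inl hr2)

/-- A point of `A` outside two proper subgroups. -/
theorem exists_not_mem_two {B B' : Subgroup G} (hB : Line p A B) (hB' : Line p A B') :
    ∃ w ∈ A, w ∉ B ∧ w ∉ B' := by
  have hne : ∀ {C : Subgroup G}, Line p A C → ¬ A ≤ C := fun {C} hC h => by
    have := card_le_of_le h
    rw [hC.2, S.card_eq] at this
    exact absurd this (not_le.mpr (Nat.pow_lt_pow_right hp.out.one_lt (by norm_num)))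
  obtain ⟨x, hx, hxB⟩ := SetLike.not_le_iff_exists.mp (hne hB)
  obtain ⟨y, hy, hyB⟩ := SetLike.not_le_iff_exists.mp (hne hB')
  by_cases hxB' : x ∈ B'
  · by_cases hyB2 : y ∈ B
    · exact ⟨x * y, mul_mem hx hy, fun h => hxB (by simpa using mul_mem h (inv_mem hyB2)),
        fun h => hyB (by simpa using mul_mem (inv_mem hxB') h)⟩
    · exact ⟨y, hy, hyB2, hyB⟩
  · exact ⟨x, hx, hxB, hxB'⟩

/-- A third point on a line. -/
theorem exists_third {L : Subgroup G} (hL : Line p A L) {v w : G} (hv : v ∈ L) (hw : w ∈ L)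
    (hv1 : v ≠ 1) (hwv : w ∉ zpowers v) : ∃ u ∈ L, u ∉ zpowers v ∧ u ∉ zpowers w := by
  refine ⟨v * w, mul_mem hv hw, fun h => hwv (by simpa using mul_mem (inv_mem (mem_zpowers v)) h),
    fun h => ?_⟩
  have hvw : v ∈ zpowers w := by simpa using mul_mem h (inv_mem (mem_zpowers w))
  exact hwv (S.mem_zpowers_symm (hL.1 hw) hv1 hvw)

end Setting

namespace Minimal

variable (H : Minimal p A θ)
include H

variable {t : ℕ} [ht : Fact t.Prime]

/-- No member contains `θ e` and `Y t` together, for exceptional `e`. -/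
theorem false_of_common {e : G} (hYt : Yq p t A θ ≠ ⊥) (hTH : TH p t A θ e = ⊥) (he : e ∈ A)
    (he1 : e ≠ 1) {N : Subgroup G} (hN : Mem p A θ N) (hne : N ≠ ⊥)
    (hθN : θ e ≤ normalizer (N : Set G)) (hYN : Yq p t A θ ≤ normalizer (N : Set G)) : False := by
  have S := H.toSetting
  obtain ⟨M, hM, hMle⟩ := H.exists_overgroup hN hne
  exact hYt (le_bot_iff.mp ((S.le_core_of_le_Y hM.1 le_rfl (hMle _ S.mem_Y hYN)).trans
    ((S.coreIn_le_TH hM.1 (hMle _ (S.mem_theta he he1) hθN)).trans hTH.le)))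

/-- An exceptional point centralises the odd cores of its members. -/
theorem centralises_odd_cores {e : G} (hYt : Yq p t A θ ≠ ⊥) (hTH : TH p t A θ e = ⊥) (he : e ∈ A)
    (he1 : e ≠ 1) {M : Subgroup G} (hM : Mem p A θ M) (hle : θ e ≤ M) {r : ℕ} [Fact r.Prime]
    (hr2 : r ≠ 2) : coreIn r M ≤ centralizer {e} := by
  have S := H.toSetting
  by_cases hrt : r = t
  · subst hrt
    exact ((S.coreIn_le_TH hM hle).trans hTH.le).trans bot_le
  refine S.le_centralizer_of_commutator_eq_bot ?_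
  by_contra hne
  refine H.false_of_common hYt hTH he he1 (S.mem_commutator (S.coreIn_mem hM) he) hne
    (S.theta_le_normalizer_commutator he he1 (hle.trans (le_normalizer_coreIn r M))) ?_
  exact (S.Y_le_centralizer (fun h => hrt h.symm)).trans
    ((centralizer_le (S.moved_le_Y hr2 he he1 hM hle)).trans (centralizer_le_normalizer _))

/-- An exceptional point for `t` is central or exceptional for every other prime. -/
theorem central_or_exceptional {r : ℕ} [Fact r.Prime] {e : G} (hYt : Yq p t A θ ≠ ⊥)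
    (hTH : TH p t A θ e = ⊥) (he : e ∈ A) (he1 : e ≠ 1) (hrt : r ≠ t) :
    Yq p r A θ ≤ centralizer {e} ∨ TH p r A θ e = ⊥ := by
  have S := H.toSetting
  by_cases hr2 : r = 2
  · subst hr2
    exact Or.inl (H.Y_two_eq_bot.le.trans bot_le)
  by_contra hno
  push Not at hno
  have hne : ⁅Yq p r A θ, zpowers e⁆ ≠ ⊥ :=
    fun h0 => hno.1 (S.le_centralizer_of_commutator_eq_bot h0)
  refine H.false_of_common hYt hTH he he1 (S.mem_commutator S.mem_Y he) hne
    (H.theta_le_normalizer_commutator_Y hr2 he he1 hno.2) ?_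
  exact (S.Y_le_centralizer (fun h => hrt h.symm)).trans
    ((centralizer_le (S.commutator_le_self S.mem_Y he)).trans (centralizer_le_normalizer _))

omit ht

/-- An operator moving `O_2(M)` leaves a central fixed point in it. -/
theorem exists_fixed_two {h : G} (hh : h ∈ A) (hh1 : h ≠ 1) {M : Subgroup G} (hM : Mem p A θ M)
    (hle : θ h ≤ M) (hmov : ¬ coreIn 2 M ≤ centralizer {h}) :
    Cfsg.signalizerInf A θ ⊓ coreIn 2 M ≠ ⊥ := by
  haveI : Fact (Nat.Prime 2) := ⟨Nat.prime_two⟩
  have S := H.toSetting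
  intro h0
  have hN := S.coreIn_mem (q := 2) hM
  refine hmov (S.le_of_lines hN fun L hL => ?_)
  by_cases hhL : h ∈ L
  · exact inf_le_right.trans (centralizer_le (Set.singleton_subset_iff.2 hhL))
  set P := coreIn 2 M ⊓ centralizer (L : Set G) with hPdef
  have hP : Mem p A θ P := member_of_le hN inf_le_left
    (le_normalizer_inf_centralizer S.elem (member_le_normalizer hN) hL.1)
  have hfpf : P ⊓ centralizer {h} = ⊥ := by
    refine le_bot_iff.mp (le_trans ?_ h0.le)
    have hA : P ⊓ centralizer {h} ≤ centralizer (A : Set G) := by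
      rw [← S.line_sup_eq hL hh hhL]
      exact le_centralizer_iff.mpr (sup_le (le_centralizer_iff.mpr (inf_le_left.trans inf_le_right))
        (le_centralizer_iff.mpr (le_centralizer_zpowers_of_singleton inf_le_right)))
    exact le_inf ((le_inf (inf_le_left.trans inf_le_left) hA).trans (S.inf_centralizer_A_le hN))
      (inf_le_left.trans inf_le_left)
  have hPY : P ≤ Yq p 2 A θ := S.le_Y_of_moved hh hh1 (isPGroup_coreIn 2 M)
    (hle.trans (le_normalizer_coreIn 2 M)) hP inf_le_left (S.eq_commutator_of_fpf hP hh hfpf).ge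
    (Or.inr hfpf)
  exact hPY.trans (H.Y_two_eq_bot.le.trans bot_le)

/-- Some odd `Y r` is nontrivial. -/
theorem exists_odd_Y : ∃ r : ℕ, r.Prime ∧ r ≠ 2 ∧ Yq p r A θ ≠ ⊥ := by
  haveI : Fact (Nat.Prime 2) := ⟨Nat.prime_two⟩
  have S := H.toSetting
  by_contra hno
  push Not at hno
  have key : ∀ h ∈ A, h ≠ 1 → ∀ M, IsMax p A θ M → θ h ≤ M →
      Cfsg.signalizerInf A θ ⊓ coreIn 2 M ≠ ⊥ ∧
        ∀ r : ℕ, r.Prime → r ≠ 2 → coreIn r M = ⊥ := by
    intro h hh hh1 M hM hle
    obtain ⟨r, hr, hmov⟩ := H.exists_moved_core hh hh1 hM hle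
    haveI := Fact.mk hr
    by_cases hr2 : r = 2
    · subst hr2
      refine ⟨H.exists_fixed_two hh hh1 hM.1 hle hmov, fun t ht ht2 => ?_⟩
      haveI := Fact.mk ht
      by_contra hne
      exact H.exists_fixed_two hh hh1 hM.1 hle hmov
        (H.theoremU hM ((S.C_le_theta hh hh1).trans hle) ht2 hne
          fun s hs hs2 hY => absurd (hno s hs hs2) hY)
    · exact absurd (S.le_centralizer_of_commutator_eq_bot
        (le_bot_iff.mp ((S.moved_le_Y hr2 hh hh1 hM.1 hle).trans (hno r hr hr2).le))) hmov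
  obtain ⟨Q, hQ, hQ2, hQmax⟩ := S.exists_maximal 2
  set Z := Q ⊓ centralizer (Q : Set G) with hZdef
  have hZ : Mem p A θ Z := member_of_le hQ inf_le_left ((le_inf (member_le_normalizer hQ)
    ((member_le_normalizer hQ).trans normalizer_le_normalizer_centralizer)).trans
      inf_normalizer_le_normalizer_inf)
  have hN : ∀ h ∈ A, h ≠ 1 → ∀ M, IsMax p A θ M → θ h ≤ M → Z ≤ coreIn 2 M ∧ coreIn 2 M ≤ Q := by
    intro h hh hh1 M hM hle
    obtain ⟨hfix, hodd⟩ := key h hh hh1 M hM hle
    have hne : coreIn 2 M ≠ ⊥ := fun h0 => hfix (le_bot_iff.mp (inf_le_right.trans h0.le))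
    have hNQ : coreIn 2 M ≤ Q := S.le_of_maximal (S.coreIn_mem hM.1) (isPGroup_coreIn 2 M)
      (((S.C_le_theta hh hh1).trans hle).trans (le_normalizer_coreIn 2 M)) hQ hQ2 hQmax
    have hZc : Z ≤ centralizer (coreIn 2 M : Set G) := inf_le_right.trans (centralizer_le hNQ)
    have hZM : Z ≤ M := H.le_of_isMax hM (S.coreIn_mem hM.1) hne (le_normalizer_coreIn 2 M) hZ
      (hZc.trans (centralizer_le_normalizer _))
    refine ⟨fun z hz => mem_coreIn (mem_fitIn_of_solvable hM.1.1 (hZM hz) fun s hs => ?_)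
      (hQ2.to_le (zpowers_le.2 hz.1)), hNQ⟩
    by_cases hs2 : s = 2
    · subst hs2; exact hZc hz
    · rw [hodd s hs hs2]
      exact mem_centralizer_iff.2 fun y hy => by simp [(mem_bot (G := G)).1 hy]
  have hZA : Z ≤ centralizer (A : Set G) := by
    intro z hz
    refine mem_centralizer_iff.2 fun h hh => ?_
    by_cases hh1 : h = 1
    · simp [hh1]
    obtain ⟨M, hM, hle⟩ := S.exists_isMax (S.mem_theta hh hh1)
    have hfpf : ⁅Z, zpowers h⁆ ⊓ centralizer {h} = ⊥ := by
      refine le_bot_iff.mp fun x hx => ?_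
      have hc : (Nat.card (zpowers h)).Coprime (Nat.card Z) := coprime_zpowers S.elem hh hZ.2.1
      haveI : IsMulCommutative Z := ⟨⟨fun a b => Subtype.ext
        (mem_centralizer_iff.1 b.2.2 a a.2.1)⟩⟩
      exact (Coprime.centralizer_inf_commutator_eq_bot (S.zpowers_le_normalizer hZ hh) hc).le
        ⟨⟨S.commutator_le_self hZ hh hx.1,
          le_centralizer_zpowers_of_singleton (inf_le_right : _ ⊓ centralizer {h} ≤ _) hx⟩, hx.1⟩
    have hPY : ⁅Z, zpowers h⁆ ≤ Yq p 2 A θ := S.le_Y_of_moved hh hh1 (isPGroup_coreIn 2 M)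
      (hle.trans (le_normalizer_coreIn 2 M)) (S.mem_commutator hZ hh)
      ((S.commutator_le_self hZ hh).trans (hN h hh hh1 M hM hle).1)
      (S.commutator_commutator hZ hh).ge (Or.inr hfpf)
    exact (mem_centralizer_singleton_iff.1 (S.le_centralizer_of_commutator_eq_bot
      (le_bot_iff.mp (hPY.trans H.Y_two_eq_bot.le)) hz)).symm
  have hZY : Z ≤ Yq p 2 A θ := by
    refine le_iInf fun L => ?_
    obtain ⟨v, hvL, hv1⟩ := (L : Subgroup G).bot_or_exists_ne_one.resolve_left (S.line_ne_bot L.2)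
    have hv : v ∈ A := L.2.1 hvL
    obtain ⟨M, hM, hle⟩ := S.exists_isMax (S.mem_theta hv hv1)
    have hZv : Z ≤ θ v := ((le_inf le_rfl hZA).trans (S.inf_centralizer_A_le hZ)).trans
      (S.C_le_theta hv hv1)
    have hle2 : θ v ⊓ coreIn 2 M ≤ coreIn 2 (θ v) := ThompsonWielandt.le_coreIn
      ((isPGroup_coreIn 2 M).to_le inf_le_right) inf_le_left
      ((le_inf Subgroup.le_normalizer (hle.trans (le_normalizer_coreIn 2 M))).trans
        inf_normalizer_le_normalizer_inf)
    exact (le_inf hZv (hN v hv hv1 M hM hle).1).trans (hle2.trans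
      (le_Tinv (S.coreIn_mem (S.mem_theta hv hv1)) (isPGroup_coreIn 2 _)
        ((S.lineTheta_le hvL hv1).trans (le_normalizer_coreIn 2 _))))
  obtain ⟨a, ha, ha1⟩ := S.exists_point_ne_one
  obtain ⟨M, hM, hle⟩ := S.exists_isMax (S.mem_theta ha ha1)
  have hQne : Q ≠ ⊥ := fun h0 => (key a ha ha1 M hM hle).1
    (le_bot_iff.mp (inf_le_right.trans ((hN a ha ha1 M hM hle).2.trans h0.le)))
  haveI : Nontrivial Q := (Subgroup.nontrivial_iff_ne_bot _).2 hQne
  haveI := hQ2.center_nontrivial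
  obtain ⟨z, hz⟩ := exists_ne (1 : center Q)
  refine hz (Subtype.ext (Subtype.ext (mem_bot.mp ((hZY.trans H.Y_two_eq_bot.le)
    ⟨(z : Q).2, mem_centralizer_iff.2 fun y hy => ?_⟩))))
  exact congrArg Subtype.val (mem_center_iff.mp z.2 ⟨y, hy⟩)

/-- No point centralises every `Y r`. -/
theorem central_not_all {g : G} (hg : g ∈ A) (hg1 : g ≠ 1) :
    ∃ r : ℕ, r.Prime ∧ ¬ Yq p r A θ ≤ centralizer {g} := by
  haveI : Fact (Nat.Prime 2) := ⟨Nat.prime_two⟩
  have S := H.toSetting
  by_contra hno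
  push Not at hno
  obtain ⟨M, hM, hle⟩ := S.exists_isMax (S.mem_theta hg hg1)
  obtain ⟨r, hr, hmov⟩ := H.exists_moved_core hg hg1 hM hle
  haveI := Fact.mk hr
  by_cases hr2 : r = 2
  · subst hr2
    obtain ⟨t, ht, ht2, hYt⟩ := H.exists_odd_Y
    have hcore : ∀ s : ℕ, s.Prime → Yq p s A θ ≠ ⊥ → coreIn s M ≠ ⊥ := fun s hs hY h0 => by
      haveI := Fact.mk hs
      exact hY (le_bot_iff.mp ((S.le_core_of_le_Y hM.1 le_rfl
        ((le_inf le_rfl (hno s hs)).trans ((S.mem_Y.2.2.2 g hg hg1).trans hle))).trans h0.le))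
    haveI := Fact.mk ht
    exact H.exists_fixed_two hg hg1 hM.1 hle hmov
      (H.theoremU hM ((S.C_le_theta hg hg1).trans hle) ht2 (hcore t ht hYt)
        fun s hs _ => hcore s hs)
  · refine hmov (S.le_centralizer_of_commutator_eq_bot (le_bot_iff.mp ?_))
    have h1 := S.moved_le_Y hr2 hg hg1 hM.1 hle
    exact (S.commutator_commutator (S.coreIn_mem hM.1) hg).ge.trans
      ((commutator_mono h1 le_rfl).trans (S.commutator_eq_bot_of_le_centralizer (hno r hr)).le)

variable {t : ℕ} [ht : Fact t.Prime]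

/-- A bad line carries exactly one nonexceptional point, and it centralises `Y`. -/
theorem bad_line (hYt : Yq p t A θ ≠ ⊥) {l : Subgroup G} (hl : Line p A l)
    (hbad : ¬ Cfsg.signalizerInf l θ ≤ normalizer (Yq p t A θ : Set G)) :
    ∃ g ∈ l, g ≠ 1 ∧ Yq p t A θ ≤ centralizer {g} ∧
      ∀ v ∈ l, v ∉ zpowers g → TH p t A θ v = ⊥ := by
  have S := H.toSetting
  have ht2 : t ≠ 2 := by
    rintro rfl
    exact hYt H.Y_two_eq_bot
  obtain ⟨e, hel, he1, hTHe⟩ : ∃ e ∈ l, e ≠ 1 ∧ TH p t A θ e = ⊥ := by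
    by_contra hno
    push Not at hno
    exact hbad (H.lineTheta_le_normalizer_Y hl hno)
  have hYl : Yq p t A θ ⊓ centralizer (l : Set G) = ⊥ := le_bot_iff.mp
    ((inf_le_inf_left _ (centralizer_le (Set.singleton_subset_iff.2 hel))).trans
      (S.Y_inf_centralizer_eq_bot (hl.1 hel) he1 hTHe).le)
  obtain ⟨g, hgl, hg1, hTHg⟩ : ∃ g ∈ l, g ≠ 1 ∧ TH p t A θ g ≠ ⊥ := by
    by_contra hno
    push Not at hno
    exact hYt (le_bot_iff.mp ((S.le_iSup_points S.mem_Y hl).trans (iSup_le fun x =>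
      (S.Y_inf_centralizer_eq_bot (hl.1 x.2.1) x.2.2 (hno x x.2.1 x.2.2)).le)))
  have hgA := hl.1 hgl
  have huniq : ∀ v ∈ l, v ∉ zpowers g → TH p t A θ v = ⊥ := by
    intro v hvl hvg
    by_contra hne
    have hvA := hl.1 hvl
    have hv1 : v ≠ 1 := fun h => hvg (h ▸ one_mem _)
    refine hbad fun x hx => ?_
    have hYm : Mem p A θ (Yq p t A θ) := S.mem_Y
    set W := Yq p t A θ ⊓ centralizer {g} with hWdef
    have hW : Mem p A θ W := member_of_le hYm inf_le_left
      (le_normalizer_inf_centralizer_singleton S.elem (member_le_normalizer hYm) hgA)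
    have hfp : W ⊓ centralizer {v} = ⊥ := by
      refine le_bot_iff.mp (le_trans (le_inf (inf_le_left.trans inf_le_left) ?_) hYl.le)
      rw [← S.line_eq_span hl hgl hvl hg1 hvg]
      exact le_centralizer_iff.mpr (sup_le
        (le_centralizer_iff.mpr (le_centralizer_zpowers_of_singleton (inf_le_left.trans inf_le_right)))
        (le_centralizer_iff.mpr (le_centralizer_zpowers_of_singleton inf_le_right)))
    have e1 : Yq p t A θ = ⁅Yq p t A θ, zpowers g⁆ ⊔ ⁅Yq p t A θ, zpowers v⁆ := by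
      refine le_antisymm ?_ (sup_le (S.commutator_le_self hYm hgA) (S.commutator_le_self hYm hvA))
      conv_lhs => rw [← Coprime.commutator_sup_centralizer (S.zpowers_le_normalizer hYm hgA)
        (coprime_zpowers S.elem hgA hYm.2.1) (Or.inl (Coprime.isSolvable_zpowers g))]
      refine sup_le le_sup_left (le_sup_of_le_right (le_trans
        (le_inf inf_le_left (inf_le_right.trans le_centralizer_singleton_of_zpowers)) ?_))
      exact (S.eq_commutator_of_fpf hW hvA hfp).ge.trans (commutator_mono inf_le_left le_rfl)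
    rw [e1, mem_normalizer_iff_map_conj_eq, Subgroup.map_sup,
      mem_normalizer_iff_map_conj_eq.mp (H.theta_le_normalizer_commutator_Y ht2 hgA hg1 hTHg
        (S.lineTheta_le hgl hg1 hx)),
      mem_normalizer_iff_map_conj_eq.mp (H.theta_le_normalizer_commutator_Y ht2 hvA hv1 hne
        (S.lineTheta_le hvl hv1 hx))]
  refine ⟨g, hgl, hg1, (S.le_iSup_points S.mem_Y hl).trans (iSup_le fun x => ?_), huniq⟩
  by_cases hxg : (x : G) ∈ zpowers g
  · intro y hy
    have hgx : g ∈ zpowers (x : G) := S.mem_zpowers_symm hgA x.2.2 hxg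
    have hy' : y ∈ centralizer ((zpowers (x : G) : Subgroup G) : Set G) :=
      le_centralizer_zpowers_of_singleton (inf_le_right : _ ⊓ centralizer {(x : G)} ≤ _) hy
    exact mem_centralizer_singleton_iff.2 (mem_centralizer_iff.1 hy' g hgx).symm
  · exact (S.Y_inf_centralizer_eq_bot (hl.1 x.2.1) x.2.2 (huniq x x.2.1 hxg)).le.trans bot_le

omit ht

/-- Two odd primes `t`, `s` with a point central on `Y t` and fixed point free on `Y s`, and one
central on `Y s` and exceptional for `t`. -/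
theorem exists_pair : ∃ t s : ℕ, ∃ g a : G, t.Prime ∧ s.Prime ∧ Yq p t A θ ≠ ⊥ ∧ Yq p s A θ ≠ ⊥ ∧
    g ∈ A ∧ g ≠ 1 ∧ a ∈ A ∧ a ≠ 1 ∧ Yq p t A θ ≤ centralizer {g} ∧
    Yq p s A θ ⊓ centralizer {g} = ⊥ ∧ Yq p s A θ ≤ centralizer {a} ∧ TH p t A θ a = ⊥ := by
  have S := H.toSetting
  obtain ⟨t, ht, -, hYt⟩ := H.exists_odd_Y
  haveI := Fact.mk ht
  obtain ⟨l, hl, hbad⟩ : ∃ l, Line p A l ∧
      ¬ Cfsg.signalizerInf l θ ≤ normalizer (Yq p t A θ : Set G) := by
    by_contra hno
    push Not at hno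
    exact hYt (H.exists_normalized_bot S.mem_Y hno)
  obtain ⟨g, hgl, hg1, hgc, huniq⟩ := H.bad_line hYt hl hbad
  have hgA := hl.1 hgl
  obtain ⟨s, hs, hgs⟩ := H.central_not_all hgA hg1
  haveI := Fact.mk hs
  have hst : s ≠ t := fun h => hgs (h ▸ hgc)
  have hYs : Yq p s A θ ≠ ⊥ := fun h => hgs (h.le.trans bot_le)
  have hcase : ∀ v ∈ l, v ∉ zpowers g → Yq p s A θ ≤ centralizer {v} ∨
      Yq p s A θ ⊓ centralizer {v} = ⊥ := fun v hv hvg => by
    have hv1 : v ≠ 1 := fun h => hvg (h ▸ one_mem _)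
    exact (H.central_or_exceptional hYt (huniq v hv hvg) (hl.1 hv) hv1 hst).imp_right
      (S.Y_inf_centralizer_eq_bot (hl.1 hv) hv1)
  obtain ⟨a, hal, hag, hac⟩ : ∃ a ∈ l, a ∉ zpowers g ∧ Yq p s A θ ≤ centralizer {a} := by
    by_contra hno
    push Not at hno
    refine hgs ((S.le_iSup_points S.mem_Y hl).trans (iSup_le fun x => ?_))
    by_cases hxg : (x : G) ∈ zpowers g
    · intro y hy
      have hgx : g ∈ zpowers (x : G) := S.mem_zpowers_symm hgA x.2.2 hxg
      have hy' : y ∈ centralizer ((zpowers (x : G) : Subgroup G) : Set G) :=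
        le_centralizer_zpowers_of_singleton (inf_le_right : _ ⊓ centralizer {(x : G)} ≤ _) hy
      exact mem_centralizer_singleton_iff.2 (mem_centralizer_iff.1 hy' g hgx).symm
    · exact ((hcase x x.2.1 hxg).resolve_left (hno x x.2.1 hxg)).le.trans bot_le
  have haA := hl.1 hal
  have ha1 : a ≠ 1 := fun h => hag (h ▸ one_mem _)
  obtain ⟨u, hul, hug, hua⟩ := S.exists_third hl hgl hal hg1 hag
  have hucases : Yq p s A θ ⊓ centralizer {u} = ⊥ := by
    refine (hcase u hul hug).resolve_left fun hc => hgs ?_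
    have hle : l ≤ centralizer (Yq p s A θ : Set G) := by
      rw [← S.line_eq_span hl hal hul ha1 hua]
      exact sup_le (zpowers_le.2 (mem_centralizer_of_le_centralizer_singleton hac))
        (zpowers_le.2 (mem_centralizer_of_le_centralizer_singleton hc))
    exact (le_centralizer_iff.mp hle).trans (centralizer_le (Set.singleton_subset_iff.2 hgl))
  refine ⟨t, s, g, a, ht, hs, hYt, hYs, hgA, hg1, haA, ha1, hgc, ?_, hac, huniq a hal hag⟩
  refine le_bot_iff.mp (le_trans (le_inf inf_le_left fun y hy => ?_) hucases.le)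
  have hyl : y ∈ centralizer (l : Set G) := by
    rw [← S.line_eq_span hl hgl hal hg1 hag]
    exact le_centralizer_iff.mpr (sup_le
      (le_centralizer_iff.mpr (le_centralizer_zpowers_of_singleton inf_le_right))
      (le_centralizer_iff.mpr (le_centralizer_zpowers_of_singleton (inf_le_left.trans hac)))) hy
  exact centralizer_le (Set.singleton_subset_iff.2 hul) hyl

end Minimal

end CfsgLib.Components.SFT
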