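import Cfsg.Agent.Lib.Solvable.FPFOperators.PQTools
import Cfsg.Agent.Lib.Solvable.FPFOperators.TwoLayers
import Cfsg.Agent.Lib.Solvable.FPFOperators.Cyclic

/-!
A `q`-group `P = [P, s]`, `q` odd, with `s` of prime order, centralises a coprime module as soon as it
centralises the fixed points of `s` there.
-/

set_option autoImplicit false
set_option linter.style.haveILetI false
set_option maxHeartbeats 400000

universe u v w

namespace CfsgLib.Components.SFT

open Subgroup CfsgLib.Solvable.FPFOperators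
open scoped commutatorElement

section Generic

variable {Γ : Type u} [Group Γ] {p : ℕ}

/-- `⁅R₀, s⁆` for an invariant `R₀`. -/
theorem commutator_zpowers_le {R₀ : Subgroup Γ} {s : Γ} (hs : s ∈ normalizer (R₀ : Set Γ)) :
    ⁅R₀, zpowers s⁆ ≤ R₀ :=
  le_normalizer_iff_commutator_le_left.1 (zpowers_le.2 hs)

theorem mem_normalizer_of_forall [Finite Γ] {R₀ : Subgroup Γ} {s : Γ}
    (h : ∀ x ∈ R₀, s * x * s⁻¹ ∈ R₀) : s ∈ normalizer (R₀ : Set Γ) := by
  refine mem_normalizer_iff_map_conj_eq.2 (eq_of_le_of_card_ge ?_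
    (by rw [card_map_of_injective (MulAut.conj s).injective]))
  rintro _ ⟨x, hx, rfl⟩
  exact h x hx

theorem coprime_zpowers_card [Finite Γ] (hp : p.Prime) {q : ℕ} [hq : Fact q.Prime] (hqp : q ≠ p)
    {s : Γ} (hs : s ^ p = 1) {R₀ : Subgroup Γ} (hR : IsPGroup q R₀) :
    (Nat.card (zpowers s)).Coprime (Nat.card R₀) := by
  obtain ⟨k, hk⟩ := IsPGroup.iff_card.mp hR
  rw [Nat.card_zpowers, hk]
  exact (((Nat.coprime_primes hp hq.out).2 hqp.symm).pow_right k).coprime_dvd_left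
    (orderOf_dvd_of_pow_eq_one hs)

/-- `⁅R₀, s⁆ = ⁅⁅R₀, s⁆, s⁆`. -/
theorem commutator_zpowers_self [Finite Γ] (hp : p.Prime) {q : ℕ} [hq : Fact q.Prime] (hqp : q ≠ p)
    {s : Γ} (hs : s ^ p = 1) {R₀ : Subgroup Γ} (hR : IsPGroup q R₀)
    (hsR : s ∈ normalizer (R₀ : Set Γ)) : ⁅⁅R₀, zpowers s⁆, zpowers s⁆ = ⁅R₀, zpowers s⁆ :=
  Coprime.commutator_commutator_self (zpowers_le.2 hsR) (coprime_zpowers_card hp hqp hs hR)
    (Or.inl (Coprime.isSolvable_zpowers s))

theorem eq_bot_of_commute {P : Subgroup Γ} {s : Γ} (hP : P ≤ ⁅P, zpowers s⁆)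
    (h : ∀ x ∈ P, s * x = x * s) : P = ⊥ := by
  refine eq_bot_iff.2 (hP.trans (commutator_le.2 fun x hx b hb => mem_bot.2 ?_))
  obtain ⟨i, rfl⟩ := mem_zpowers_iff.mp hb
  exact commutatorElement_eq_one_iff_mul_comm.2 ((show Commute s x from h x hx).zpow_left i).eq.symm

theorem commutator_subgroupOf_ge {X : Subgroup Γ} {T : Subgroup Γ} {s : X}
    (hTX : T ≤ X) (h : T ≤ ⁅T, zpowers (s : Γ)⁆) : T.subgroupOf X ≤ ⁅T.subgroupOf X, zpowers s⁆ := by
  rw [← Subgroup.map_le_map_iff_of_injective X.subtype_injective, map_commutator,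
    MonoidHom.map_zpowers, map_subgroupOf_eq_of_le hTX]
  exact h

end Generic

variable {K : Type v} [Field K] [IsAlgClosed K]

theorem pGroup_trivial_aux (n : ℕ) : ∀ {Γ : Type u} [Group Γ] [Finite Γ] {W : Type w}
    [AddCommGroup W] [Module K W] [FiniteDimensional K W] (ρ : Γ →* Module.End K W) {p q : ℕ}
    [Fact q.Prime] (P : Subgroup Γ) [P.Normal] (s : Γ), p.Prime → q ≠ 2 → q ≠ p → (q : K) ≠ 0 →
    (p : K) ≠ 0 → s ^ p = 1 → IsPGroup q P → P ≤ ⁅P, zpowers s⁆ →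
    ∑ i ∈ Finset.range p, ρ (s ^ i) = 0 → Nat.card P = n → ∀ g ∈ P, ρ g = 1 := by
  induction n using Nat.strong_induction_on with
  | _ n ih =>
  intro Γ _ _ W _ _ _ ρ p q _ P hPn s hp hq2 hqp hqK hpK hs hPq hPs hsum hn
  classical
  by_cases hker : P ⊓ ρ.ker = ⊥
  swap
  · intro g hg
    set mk := QuotientGroup.mk' (P ⊓ ρ.ker) with hmk
    set ρ' : Γ ⧸ (P ⊓ ρ.ker) →* Module.End K W := QuotientGroup.lift _ ρ inf_le_right with hρ'
    haveI : (P.map mk).Normal := hPn.map mk (QuotientGroup.mk'_surjective _)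
    have hlt : Nat.card (P.map mk) < n := hn ▸ card_map_mk_lt (by
      rwa [inf_assoc, inf_comm ρ.ker P, ← inf_assoc, inf_idem])
    exact ih _ hlt ρ' (P.map mk) (mk s) hp hq2 hqp hqK hpK (by rw [← map_pow, hs, map_one])
      (hPq.map mk) (by
        rw [← MonoidHom.map_zpowers, ← map_commutator]; exact Subgroup.map_mono hPs)
      (by simp only [← map_pow]; exact hsum) rfl (mk g) (mem_map_of_mem _ hg)
  have hsP : s ∈ normalizer (P : Set Γ) := by rw [normalizer_eq_top]; trivial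
  have hinj : ∀ c x : Γ, x ∈ P → ρ (c * x) = ρ (x * c) → c * x = x * c := fun c x hx h => by
    have h1 : (x * c)⁻¹ * (c * x) ∈ P ⊓ ρ.ker := by
      refine ⟨?_, MonoidHom.mem_ker.mpr ?_⟩
      · rw [show (x * c)⁻¹ * (c * x) = c⁻¹ * x⁻¹ * c * x by group]
        exact mul_mem (hPn.conj_mem' _ (inv_mem hx) c) hx
      · rw [map_mul, h, ← map_mul, inv_mul_cancel, map_one]
    rw [hker, mem_bot, inv_mul_eq_one] at h1
    exact h1.symm
  suffices hcomm : ∀ x ∈ P, s * x = x * s by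
    intro g hg
    rw [eq_bot_of_commute hPs hcomm, mem_bot] at hg
    rw [hg, map_one]
  have hprop : ∀ R₀ : Subgroup Γ, R₀ ≤ P → R₀ ≠ P → (∀ o ∈ ({s} : Set Γ), ∀ x ∈ R₀, o * x * o⁻¹ ∈ R₀) →
      ∀ c ∈ ({s} : Set Γ), ∀ x ∈ R₀, c * x = x * c := by
    rintro R₀ hR₀ hne hinv c rfl x hx
    have hsR : c ∈ normalizer (R₀ : Set Γ) := mem_normalizer_of_forall (hinv c rfl)
    set T := ⁅R₀, zpowers c⁆ with hT
    have hTR : T ≤ R₀ := commutator_zpowers_le hsR
    have hcT : c ∈ normalizer (T : Set Γ) :=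
      (normalizer_commutator_ge_right R₀ (zpowers c)) (mem_zpowers c)
    set X := normalizer (T : Set Γ)
    haveI : (T.subgroupOf X).Normal :=
      (normal_subgroupOf_iff_le_normalizer le_normalizer).2 le_rfl
    have hTT : T ≤ ⁅T, zpowers c⁆ := (commutator_zpowers_self hp hqp hs (hPq.to_le hR₀) hsR).ge
    have hcard : Nat.card (T.subgroupOf X) < n := by
      rw [Nat.card_congr (subgroupOfEquivOfLe le_normalizer).toEquiv, ← hn]
      exact lt_of_le_of_lt (card_le_of_le hTR) (lt_of_le_of_ne (card_le_of_le hR₀)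
        fun he => hne (eq_of_le_of_card_ge hR₀ he.ge))
    have htriv := ih _ hcard (ρ.comp X.subtype) (T.subgroupOf X) ⟨c, hcT⟩ hp hq2 hqp hqK hpK
      (Subtype.ext hs) ((hPq.to_le (hTR.trans hR₀)).of_equiv
        (subgroupOfEquivOfLe le_normalizer).symm)
      (commutator_subgroupOf_ge le_normalizer hTT) (by simpa using hsum) rfl
    have hx1 : ⁅x, c⁆ ∈ T := commutator_mem_commutator hx (mem_zpowers c)
    have h1 : ⁅x, c⁆ ∈ P ⊓ ρ.ker :=
      ⟨hR₀ (hTR hx1), MonoidHom.mem_ker.2 (htriv ⟨_, le_normalizer hx1⟩ hx1)⟩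
    rw [hker, mem_bot] at h1
    exact (commutatorElement_eq_one_iff_mul_comm.1 h1).symm
  have hord : ∀ c ∈ ({s} : Set Γ), (orderOf c).Coprime q := by
    rintro c rfl
    exact ((Nat.coprime_primes hp Fact.out).2 hqp.symm).coprime_dvd_left
      (orderOf_dvd_of_pow_eq_one hs)
  rcases special_dichotomy P hPq {s} {s} (by
      rintro o rfl c rfl
      rw [inv_mul_cancel, one_mul]
      exact subset_closure rfl) hord hprop with h | h | ⟨hcD, -, hDc, -⟩
  · exact h s rfl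
  · intro x hx
    refine hinj s x hx ?_
    have := commute_of_abelian ρ hp (n := 0) (s := s) (Q := P) (by rw [zero_add, pow_one]; exact hs)
      (by rw [zero_add, pow_one]; exact hsum) (natCard_cast_ne_zero hPq hqK)
      (fun a ha b hb => by rw [h a ha b hb]) hx
    simpa using this
  set D := P ⊓ centralizer ({s} : Set Γ) with hD
  set Γ₁ := centralizer (D : Set Γ) with hΓ₁
  have hPΓ : P ≤ Γ₁ := fun y hy => mem_centralizer_iff.2 fun d hd => (hDc d hd y hy).symm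
  have hsΓ : s ∈ Γ₁ := mem_centralizer_iff.2 fun d hd =>
    (mem_centralizer_singleton_iff.1 hd.2)
  set Z := D.subgroupOf Γ₁ with hZ
  haveI : Fintype Z := Fintype.ofFinite Z
  have hZc : ∀ z ∈ Z, ∀ g : Γ₁, g * z = z * g := fun z hz g =>
    Subtype.ext (mem_centralizer_iff.1 g.2 (z : Γ) hz).symm
  haveI : Z.Normal := ⟨fun z hz g => by rw [hZc z hz g, mul_inv_cancel_right]; exact hz⟩
  have hDΓ : D ≤ Γ₁ := inf_le_left.trans hPΓ
  have hZK : (Fintype.card Z : K) ≠ 0 := by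
    rw [← Nat.card_eq_fintype_card, Nat.card_congr (subgroupOfEquivOfLe hDΓ).toEquiv]
    exact natCard_cast_ne_zero (hPq.to_le inf_le_left) hqK
  have hZcomm : IsMulCommutative Z :=
    isMulCommutative_iff.2 fun a b => Subtype.ext (hZc b b.2 a)
  set ρ₁ := ρ.comp Γ₁.subtype with hρ₁
  intro x hx
  refine hinj s x hx ?_
  show ρ₁ (⟨s, hsΓ⟩ * ⟨x, hPΓ hx⟩) = ρ₁ (⟨x, hPΓ hx⟩ * ⟨s, hsΓ⟩)
  refine eq_of_forall_mul_weightIdem ρ₁ hZcomm hZK fun l hl => ?_
  set e := weightIdem Z ρ₁ l with he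
  have hcm : ∀ g : Γ₁, ρ₁ g * e = e * ρ₁ g := fun g => by
    rw [he, map_mul_weightIdem_smul, dual_smul_eq_self_of_commute l fun z hz => hZc z hz g]
  obtain ⟨θ, -, hθeq, hθscal, hθsum⟩ := exists_range_rep ρ₁ e ⊤ fun g _ => hcm g
  set θ' := θ.comp (topEquiv (G := Γ₁)).symm.toMonoidHom with hθ'
  haveI : Nontrivial (LinearMap.range e) := Submodule.nontrivial_iff_ne_bot.mpr fun h0 =>
    hl (LinearMap.range_eq_bot.mp h0)
  haveI : (P.subgroupOf Γ₁).Normal := hPn.subgroupOf Γ₁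
  have hsum' : ∑ i ∈ Finset.range p, θ' ((⟨s, hsΓ⟩ : Γ₁) ^ i) = 0 := by
    have h := (hθsum (Finset.range p) (fun _ => 1)
      (fun i => ⟨(⟨s, hsΓ⟩ : Γ₁) ^ i, mem_top _⟩)).2 (by
        simp only [one_smul]
        rw [show ∑ i ∈ Finset.range p, ρ₁ ((⟨s, hsΓ⟩ : Γ₁) ^ i) = 0 by
          simpa [hρ₁] using hsum, zero_mul])
    simp only [one_smul] at h
    exact h
  rcases commute_or_exceptional θ' (P.subgroupOf Γ₁) hp hqp
    (hPq.of_equiv (subgroupOfEquivOfLe hPΓ).symm) hqK hpK (s := (⟨s, hsΓ⟩ : Γ₁)) (Subtype.ext hs)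
    hsum' (fun a ha b hb => by
      have hab : ⁅a, b⁆ ∈ Z := hcD _ ha _ hb
      exact ⟨l ⟨_, hab⟩, (hθscal _ _).2 (map_mem_mul_weightIdem ρ₁ l ⟨_, hab⟩)⟩) with h | ⟨m, hm, hpm, -⟩
  · exact (hθeq _ _).1 (h _ hx)
  · exfalso
    have hodd : Odd (p - 1) := hpm ▸ ((Fact.out : q.Prime).odd_of_ne_two hq2).pow
    rcases hp.eq_two_or_odd' with rfl | hpo
    · have := Nat.one_lt_pow (by omega : m ≠ 0) (Fact.out : q.Prime).one_lt
      omega
    · obtain ⟨a, ha⟩ := hodd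
      obtain ⟨b, hb⟩ := hpo
      omega

/-- Fixed vectors of `s` fixed by `P`: it suffices to treat the case without fixed vectors. -/
theorem trivial_of_fixed {Γ : Type u} [Group Γ] [Finite Γ] {W : Type w} [AddCommGroup W] [Module K W]
    [FiniteDimensional K W] (ρ : Γ →* Module.End K W) {p q : ℕ} [hq : Fact q.Prime]
    (hqK : (q : K) ≠ 0) {P : Subgroup Γ} {s : Γ}
    (hsP : s ∈ normalizer (P : Set Γ)) (hPq : IsPGroup q P)
    (hfix : ∀ g ∈ P, (ρ g - 1) * ∑ i ∈ Finset.range p, ρ (s ^ i) = 0)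
    (haux : ∀ (W' : Type w) [AddCommGroup W'] [Module K W'] [FiniteDimensional K W']
      (θ : normalizer (P : Set Γ) →* Module.End K W'),
      (∀ g : normalizer (P : Set Γ), ρ (g : Γ) = 1 → θ g = 1) → ∑ i ∈ Finset.range p, θ ((⟨s, hsP⟩ : normalizer (P : Set Γ)) ^ i) = 0 →
      ∀ g ∈ P.subgroupOf (normalizer (P : Set Γ)), θ g = 1) : ∀ g ∈ P, ρ g = 1 := by
  classical
  set X := normalizer (P : Set Γ) with hX
  set Q := P.subgroupOf X with hQ
  haveI : Q.Normal := (normal_subgroupOf_iff_le_normalizer le_normalizer).2 le_rfl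
  haveI : Fintype Q := Fintype.ofFinite Q
  have hQq : IsPGroup q Q := hPq.of_equiv (subgroupOfEquivOfLe le_normalizer).symm
  set ρ₁ := ρ.comp X.subtype with hρ₁
  have hQK : (Fintype.card Q : K) ≠ 0 := by
    rw [← Nat.card_eq_fintype_card]; exact natCard_cast_ne_zero hQq hqK
  set e := weightIdem Q ρ₁ (1 : Q →* Kˣ) with he
  have hcm : ∀ g : X, ρ₁ g * e = e * ρ₁ g := fun g => by
    rw [he, map_mul_weightIdem_smul, dual_smul_one]
  set T := ∑ i ∈ Finset.range p, ρ₁ ((⟨s, hsP⟩ : X) ^ i) with hT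
  have heT : e * T = T := by
    rw [he, weightIdem, smul_mul_assoc, Finset.sum_mul]
    have hz : ∀ z : Q, ((1 : Q →* Kˣ) z⁻¹ : K) • ρ₁ (z : X) * T = T := fun z => by
      have h := hfix ((z : X) : Γ) z.2
      rw [sub_mul, one_mul, sub_eq_zero] at h
      rw [MonoidHom.one_apply, Units.val_one, one_smul]
      simpa [hT, hρ₁] using h
    rw [Finset.sum_congr rfl fun z _ => hz z, Finset.sum_const, Finset.card_univ,
      ← Nat.cast_smul_eq_nsmul K, smul_smul, inv_mul_cancel₀ hQK, one_smul]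
  set E := 1 - e with hE
  have hcE : ∀ g : X, ρ₁ g * E = E * ρ₁ g := fun g => by
    rw [hE, mul_sub, sub_mul, one_mul, mul_one, hcm g]
  have hTE : T * E = 0 := by
    have : T * e = e * T := by
      rw [hT, Finset.sum_mul, Finset.mul_sum]
      exact Finset.sum_congr rfl fun i _ => hcm _
    rw [hE, mul_sub, mul_one, this, heT, sub_self]
  obtain ⟨θ, -, hθeq, -, hθsum⟩ := exists_range_rep ρ₁ E ⊤ fun g _ => hcE g
  set θ' := θ.comp (topEquiv (G := X)).symm.toMonoidHom with hθ'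
  have htriv := haux (LinearMap.range E) θ' (fun g hg1 => by
      rw [← map_one θ']
      exact (hθeq _ _).2 (by
        show ρ₁ g * E = ρ₁ 1 * E
        rw [map_one, show ρ₁ g = 1 from hg1])) (by
      have h := (hθsum (Finset.range p) (fun _ => 1)
        (fun i => ⟨(⟨s, hsP⟩ : X) ^ i, mem_top _⟩)).2 (by simp only [one_smul]; exact hTE)
      simp only [one_smul] at h
      exact h)
  intro g hg
  set gX : X := ⟨g, le_normalizer hg⟩ with hgX
  have h1 : ρ₁ gX * E = E := by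
    have h := (hθeq ⟨gX, mem_top _⟩ 1).1 (by rw [map_one]; exact htriv gX hg)
    rwa [OneMemClass.coe_one, map_one, one_mul] at h
  have h2 : ρ₁ gX * e = e := by
    refine (map_mem_mul_weightIdem ρ₁ (1 : Q →* Kˣ) ⟨gX, hg⟩).trans ?_
    rw [MonoidHom.one_apply, Units.val_one, one_smul]
  calc ρ g = ρ₁ gX * (E + e) := by rw [hE, sub_add_cancel, mul_one]; rfl
    _ = 1 := by rw [mul_add, h1, h2, hE, sub_add_cancel]

/-- A `q`-group `P = [P, s]`, `q` odd, which fixes the fixed vectors of `s` acts trivially. -/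
theorem pGroup_trivial {Γ : Type u} [Group Γ] [Finite Γ] {W : Type w} [AddCommGroup W] [Module K W]
    [FiniteDimensional K W] (ρ : Γ →* Module.End K W) {p q : ℕ} [hq : Fact q.Prime] (hp : p.Prime)
    (hq2 : q ≠ 2) (hqp : q ≠ p) (hqK : (q : K) ≠ 0) (hpK : (p : K) ≠ 0) {P : Subgroup Γ} {s : Γ}
    (hs : s ^ p = 1) (hsP : s ∈ normalizer (P : Set Γ)) (hPq : IsPGroup q P)
    (hPs : P ≤ ⁅P, zpowers s⁆)
    (hfix : ∀ g ∈ P, (ρ g - 1) * ∑ i ∈ Finset.range p, ρ (s ^ i) = 0) : ∀ g ∈ P, ρ g = 1 :=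
  trivial_of_fixed ρ hqK hsP hPq hfix fun W' _ _ _ θ _ hsum =>
    haveI : (P.subgroupOf (normalizer (P : Set Γ))).Normal :=
      (normal_subgroupOf_iff_le_normalizer le_normalizer).2 le_rfl
    pGroup_trivial_aux (K := K) _ θ (P.subgroupOf (normalizer (P : Set Γ))) ⟨s, hsP⟩ hp hq2 hqp hqK hpK
      (Subtype.ext hs) (hPq.of_equiv (subgroupOfEquivOfLe le_normalizer).symm)
      (commutator_subgroupOf_ge le_normalizer hPs) hsum rfl

theorem pGroup_trivial_fpf_aux {Γ : Type u} [Group Γ] [Finite Γ] {W : Type w} [AddCommGroup W]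
    [Module K W] [FiniteDimensional K W] (θ : Γ →* Module.End K W) {p q : ℕ} [Fact q.Prime]
    (hp : p.Prime) (hqp : q ≠ p) (hqK : (q : K) ≠ 0) (hpK : (p : K) ≠ 0) (Q : Subgroup Γ) [Q.Normal]
    {s : Γ} (hs : s ^ p = 1) (hQ : IsPGroup q Q) (hQs : Q ≤ ⁅Q, zpowers s⁆)
    (hfpf : ∀ x ∈ Q, s * x = x * s → θ x = 1) (hsum : ∑ i ∈ Finset.range p, θ (s ^ i) = 0) :
    ∀ g ∈ Q, θ g = 1 := by
  set K₀ := Q ⊓ θ.ker with hK₀
  set mk := QuotientGroup.mk' K₀ with hmk
  set θ' : Γ ⧸ K₀ →* Module.End K W := QuotientGroup.lift K₀ θ inf_le_right with hθ'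
  haveI : (Q.map mk).Normal := (inferInstance : Q.Normal).map mk (QuotientGroup.mk'_surjective _)
  have hs' : mk s ^ p ^ (0 + 1) = 1 := by rw [zero_add, pow_one, ← map_pow, hs, map_one]
  have hsum' : ∑ i ∈ Finset.range (p ^ (0 + 1)), θ' (mk s ^ i) = 0 := by
    rw [zero_add, pow_one]; simp only [← map_pow]; exact hsum
  have hfpf' : ∀ x ∈ Q.map mk, mk s * x = x * mk s → x = 1 := by
    rintro _ ⟨y, hy, rfl⟩ hxy
    obtain ⟨y', hy', hc', he'⟩ := exists_fixed_of_map (A := zpowers s) (K₀ := K₀) (Q := Q)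
      (by rw [normalizer_eq_top]; exact le_top) (coprime_zpowers_card hp hqp hs hQ)
      (Coprime.isSolvable_zpowers s) hy fun b hb => by
        obtain ⟨i, rfl⟩ := mem_zpowers_iff.mp hb
        rw [map_zpow]
        exact ((show Commute (mk s) (mk y) from hxy).zpow_left i).eq
    rw [← he']
    exact (QuotientGroup.eq_one_iff y').2
      ⟨hy', MonoidHom.mem_ker.2 (hfpf y' hy' (hc' s (mem_zpowers s)))⟩
  have hc : ∀ y ∈ Q, θ (s * y) = θ (y * s) := fun y hy => by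
    have h := cyclic_linear (K := K) (W := W) (n := 0) hp (Q.map mk) θ' (s := mk s) (Or.inr zero_le_one)
      hs' (hQ.map mk) hqp hqK hpK hfpf' hsum' (y := mk y) (mem_map_of_mem _ hy)
    rw [pow_zero, pow_one, ← map_mul, ← map_mul] at h
    exact h
  have hle : ⁅Q, zpowers s⁆ ≤ θ.ker := commutator_le.2 fun a ha b hb => by
    obtain ⟨i, rfl⟩ := mem_zpowers_iff.mp hb
    have h1 : Commute (θ.toHomUnits a) (θ.toHomUnits s) := Units.ext (by
      show θ a * θ s = θ s * θ a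
      rw [← map_mul, ← map_mul, hc a ha])
    have h2 : θ.toHomUnits ⁅a, s ^ i⁆ = 1 := by
      rw [map_commutatorElement, map_zpow, commutatorElement_eq_one_iff_mul_comm]
      exact (h1.zpow_right i).eq
    exact MonoidHom.mem_ker.2 (congrArg Units.val h2)
  intro g hg
  exact MonoidHom.mem_ker.1 (hle (hQs hg))

/-- A `q`-group without fixed points under `s` which fixes the fixed vectors of `s` acts trivially. -/
theorem pGroup_trivial_fpf {Γ : Type u} [Group Γ] [Finite Γ] {W : Type w} [AddCommGroup W]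
    [Module K W] [FiniteDimensional K W] (ρ : Γ →* Module.End K W) {p q : ℕ} [hq : Fact q.Prime]
    (hp : p.Prime) (hqp : q ≠ p) (hqK : (q : K) ≠ 0) (hpK : (p : K) ≠ 0) {P : Subgroup Γ} {s : Γ}
    (hs : s ^ p = 1) (hsP : s ∈ normalizer (P : Set Γ)) (hPq : IsPGroup q P)
    (hPs : P ≤ ⁅P, zpowers s⁆) (hfpf : ∀ x ∈ P, s * x = x * s → ρ x = 1)
    (hfix : ∀ g ∈ P, (ρ g - 1) * ∑ i ∈ Finset.range p, ρ (s ^ i) = 0) : ∀ g ∈ P, ρ g = 1 := by
  refine trivial_of_fixed ρ hqK hsP hPq hfix ?_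
  intro W' i1 i2 i3 θ hθ hsum
  haveI : (P.subgroupOf (normalizer (P : Set Γ))).Normal :=
    (normal_subgroupOf_iff_le_normalizer le_normalizer).2 le_rfl
  exact pGroup_trivial_fpf_aux θ hp hqp hqK hpK (P.subgroupOf (normalizer (P : Set Γ)))
    (s := (⟨s, hsP⟩ : normalizer (P : Set Γ))) (Subtype.ext hs)
    (hPq.of_equiv (subgroupOfEquivOfLe (le_normalizer (H := P))).symm)
    (commutator_subgroupOf_ge (le_normalizer (H := P)) hPs)
    (fun x hx hxc => hθ x (hfpf _ hx (congrArg Subtype.val hxc))) hsum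

end CfsgLib.Components.SFT
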