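import Cfsg.Agent.Lib.Components.SFT.RouteThree

/-!
There is no minimal counterexample.
-/

set_option autoImplicit false
set_option linter.style.haveILetI false
set_option linter.unusedSectionVars false
set_option maxHeartbeats 400000

namespace CfsgLib.Components.SFT

open Subgroup CfsgLib.Solvable CfsgLib.Components.Signalizer CfsgLib.Components.Bender
open scoped commutatorElement

variable {G : Type*} [Group G] [Finite G]
variable {p : ℕ} [hp : Fact p.Prime] {A : Subgroup G} {θ : G → Subgroup G}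

theorem Minimal.false' (H : Minimal p A θ) : False := by
  have S := H.toSetting
  obtain ⟨t, s, g, a, ht, hs, hYt, hYs, hg, hg1, ha, ha1, hgt, hgs, hac, hTH⟩ := H.exists_pair
  haveI := Fact.mk ht
  haveI := Fact.mk hs
  by_cases hfour : ∃ d : ℕ, d.Prime ∧ Divides A θ d ∧ d ≠ 2 ∧ d ≠ t ∧ d ≠ s
  · obtain ⟨d, hd, hdiv, hd2, hdt, hds⟩ := hfour
    exact H.routeFour hd hd2 hdt hds hdiv ha ha1 hYt hYs hac hTH
  push Not at hfour
  have hdiv : ∀ r : ℕ, r.Prime → Divides A θ r → r = 2 ∨ r = t ∨ r = s := fun r hr hd => by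
    by_cases h2 : r = 2
    · exact Or.inl h2
    by_cases hrt : r = t
    · exact Or.inr (Or.inl hrt)
    exact Or.inr (Or.inr (hfour r hr hd h2 hrt))
  by_cases hZt : ∀ v ∈ A, Yq p t A θ ≤ centralizer {v} → v ∈ zpowers g
  · exact H.routeThree hg hg1 hYt hYs hgt hgs hZt hdiv
  by_cases hZs : ∀ v ∈ A, Yq p s A θ ≤ centralizer {v} → v ∈ zpowers a
  · exact H.routeThree (t := s) (s := t) ha ha1 hYs hYt hac (S.Y_inf_centralizer_eq_bot ha ha1 hTH)
      hZs fun r hr hd => (hdiv r hr hd).imp_right Or.symm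
  push Not at hZt hZs
  obtain ⟨v, hv, hvc, hvg⟩ := hZt
  obtain ⟨w, hw, hwc, hwa⟩ := hZs
  obtain ⟨c, hc, hc1, hct, hcs⟩ :=
    S.exists_mem_inter (S.isLine_span hg hv hg1 hvg) (S.isLine_span ha hw ha1 hwa)
  obtain ⟨r, hr, hno⟩ := H.central_not_all hc hc1
  haveI := Fact.mk hr
  have hline : ∀ {q : ℕ} {x y : G}, Yq p q A θ ≤ centralizer {x} → Yq p q A θ ≤ centralizer {y} →
      ∀ z ∈ zpowers x ⊔ zpowers y, Yq p q A θ ≤ centralizer {z} := fun {q x y} hx hy z hz m hm =>
    mem_centralizer_singleton_iff.2 (mem_centralizer_iff.1 (sup_le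
      (zpowers_le.2 (mem_centralizer_of_le_centralizer_singleton hx))
      (zpowers_le.2 (mem_centralizer_of_le_centralizer_singleton hy)) hz) m hm)
  by_cases hb : Yq p r A θ = ⊥
  · exact hno (hb.le.trans bot_le)
  rcases hdiv r hr (divides_of_dvd S S.mem_Y hb S.isPGroup_Y) with rfl | rfl | rfl
  · exact hno (H.Y_two_eq_bot.le.trans bot_le)
  · exact hno (hline hgt hvc c hct)
  · exact hno (hline hac hwc c hcs)

end CfsgLib.Components.SFT
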