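import Cfsg.Agent.Lib.Components.Signalizer.Basic
import Cfsg.Agent.Lib.Components.Bender
import Cfsg.Agent.Lib.Components.PComponents
import Cfsg.Agent.Lib.Solvable.FPFOperators.Height

/-!
Coprime operators of prime order on solvable groups.
-/

set_option autoImplicit false
set_option linter.style.haveILetI false
set_option maxHeartbeats 400000

universe u

namespace CfsgLib.Components.SFT

open Subgroup CfsgLib.Solvable CfsgLib.Components.Bender CfsgLib.Components.Signalizer
open scoped commutatorElement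

section Aut

variable {X : Type u} [Group X] [Finite X] [Group.IsSolvable X] {p : ℕ} (φ : MulAut X)

/-- An automorphism of coprime prime order fixing the Fitting subgroup is trivial. -/
theorem eq_one_of_fix_fitting (hp : p.Prime) (hφ : φ ^ p = 1) (hcop : ¬ p ∣ Nat.card X)
    (hfix : ∀ f ∈ Cfsg.fittingSubgroup X, φ f = f) (x : X) : φ x = x := by
  set z := x⁻¹ * φ x with hz
  have hzC : z ∈ centralizer (Cfsg.fittingSubgroup X : Set X) := by
    refine mem_centralizer_iff.2 fun f hf => ?_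
    have h1 : φ (x * f * x⁻¹) = x * f * x⁻¹ :=
      hfix _ (Cores.fittingSubgroup_normal.conj_mem f hf x)
    rw [map_mul, map_mul, map_inv, hfix f hf] at h1
    calc f * z = x⁻¹ * (x * f * x⁻¹) * φ x := by rw [hz]; group
      _ = x⁻¹ * (φ x * f * (φ x)⁻¹) * φ x := by rw [h1]
      _ = z * f := by rw [hz]; group
  have hφz : φ z = z := hfix z (Cores.centralizer_fittingSubgroup_le hzC)
  have hpow : ∀ i : ℕ, (φ ^ i) x = x * z ^ i := by
    intro i
    induction i with
    | zero => simp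
    | succ i ih =>
      rw [pow_succ' φ, MulAut.mul_apply, ih, map_mul, map_pow, hφz, pow_succ' z,
        show φ x = x * z by rw [hz]; group, mul_assoc]
  have h1 := hpow p
  rw [hφ, MulAut.one_apply, left_eq_mul] at h1
  have h2 : z = 1 := by
    have h3 : z ^ Nat.gcd p (Nat.card X) = 1 := pow_gcd_eq_one.mpr ⟨h1, pow_card_eq_one'⟩
    rwa [(hp.coprime_iff_not_dvd.2 hcop).gcd_eq_one, pow_one] at h3
  rw [hz, inv_mul_eq_one] at h2
  exact h2.symm

/-- An automorphism of coprime prime order fixing a Sylow `t`-subgroup is trivial modulo `O_{t'}`. -/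
theorem inv_mul_mem_pPrimeCore (hp : p.Prime) (hφ : φ ^ p = 1) (hcop : ¬ p ∣ Nat.card X) {t : ℕ}
    [Fact t.Prime] (T : Sylow t X) (hfix : ∀ r ∈ (T : Subgroup X), φ r = r) (x : X) :
    x⁻¹ * φ x ∈ Cfsg.pPrimeCore t X := by
  set N := Cfsg.pPrimeCore t X
  have hN : N.map φ.toMonoidHom = N := Subgroup.characteristic_iff_map_eq.mp inferInstance φ
  let ψ : MulAut (X ⧸ N) := QuotientGroup.congr N N φ hN
  have hψ : ∀ y : X, ψ (y : X ⧸ N) = ((φ y : X) : X ⧸ N) := fun y => rfl
  have hψi : ∀ (i : ℕ) (y : X), (ψ ^ i) (y : X ⧸ N) = (((φ ^ i) y : X) : X ⧸ N) := by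
    intro i
    induction i with
    | zero => intro y; rfl
    | succ i ih =>
      intro y
      rw [pow_succ' ψ, MulAut.mul_apply, ih, hψ, pow_succ' φ, MulAut.mul_apply]
  have hψp : ψ ^ p = 1 := by
    refine MulEquiv.ext fun y => ?_
    obtain ⟨y, rfl⟩ := QuotientGroup.mk_surjective y
    rw [hψi, hφ]; rfl
  haveI : Group.IsSolvable (X ⧸ N) :=
    Group.isSolvable_of_surjective (f := QuotientGroup.mk' N) (QuotientGroup.mk'_surjective N)
  have hcop' : ¬ p ∣ Nat.card (X ⧸ N) := fun h => hcop (h.trans (Subgroup.card_quotient_dvd_card N))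
  have hF : Cfsg.fittingSubgroup (X ⧸ N) ≤ (T : Subgroup X).map (QuotientGroup.mk' N) := by
    rw [Cores.fittingSubgroup_eq_iSup_pCore]
    refine iSup_le fun s => ?_
    haveI := Fact.mk s.2
    by_cases hst : (s : ℕ) = t
    · rw [hst]
      exact Cores.pCore_le_sylow (T.mapSurjective (QuotientGroup.mk'_surjective N))
    · refine le_trans ?_ bot_le
      exact (Cores.pCore_le_pPrimeCore (Fact.out : t.Prime) hst).trans
        (le_of_eq pPrimeCore_quotient_eq_bot)
  have hfix' : ∀ f ∈ Cfsg.fittingSubgroup (X ⧸ N), ψ f = f := by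
    intro f hf
    obtain ⟨r, hr, rfl⟩ := hF hf
    show ψ (r : X ⧸ N) = (r : X ⧸ N)
    rw [hψ, hfix r hr]
  exact QuotientGroup.eq.mp ((hψ x).symm.trans (eq_one_of_fix_fitting ψ hp hψp hcop' hfix' (x : X ⧸ N))).symm

end Aut

variable {G : Type u} [Group G] [Finite G]

/-- `O_{t'}(U)` inside `G`. -/
def primeCoreIn (t : ℕ) (U : Subgroup G) : Subgroup G := (Cfsg.pPrimeCore t ↥U).map U.subtype

theorem primeCoreIn_le (t : ℕ) (U : Subgroup G) : primeCoreIn t U ≤ U := map_subtype_le _

theorem not_dvd_card_primeCoreIn {t : ℕ} (ht : t.Prime) (U : Subgroup G) :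
    ¬ t ∣ Nat.card (primeCoreIn t U) := by
  rw [primeCoreIn, card_map_of_injective U.subtype_injective]
  exact ht.coprime_iff_not_dvd.1 (Cores.coprime_card_pPrimeCore t).symm

theorem le_normalizer_primeCoreIn {t : ℕ} {U : Subgroup G} {g : G}
    (hg : g ∈ normalizer (U : Set G)) : g ∈ normalizer (primeCoreIn t U : Set G) :=
  map_subtype_normal_of_characteristic hg

theorem normalizerMonoidHom_pow {U : Subgroup G} {b : G} (hb : b ∈ normalizer (U : Set G)) {p : ℕ}
    (hbp : b ^ p = 1) : (U.normalizerMonoidHom ⟨b, hb⟩) ^ p = 1 := by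
  rw [← map_pow, show (⟨b, hb⟩ : normalizer (U : Set G)) ^ p = 1 from Subtype.ext hbp, map_one]

/-- An operator centralising all `O_r(U)` centralises `U`. -/
theorem le_centralizer_of_cores {p : ℕ} (hp : p.Prime) {U : Subgroup G} (hU : Group.IsSolvable U)
    (hpU : ¬ p ∣ Nat.card U) {b : G} (hb : b ∈ normalizer (U : Set G)) (hbp : b ^ p = 1)
    (h : ∀ r : ℕ, r.Prime → coreIn r U ≤ centralizer {b}) : U ≤ centralizer {b} := by
  haveI := hU
  set φ := U.normalizerMonoidHom ⟨b, hb⟩ with hφdef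
  have hφ : ∀ x : U, ((φ x : U) : G) = b * x * b⁻¹ := fun x => rfl
  have hle : Cfsg.fittingSubgroup ↥U ≤ φ.toMonoidHom.eqLocus (MonoidHom.id U) := by
    rw [Cores.fittingSubgroup_eq_iSup_pCore]
    refine iSup_le fun s f hf => ?_
    refine Subtype.ext ((hφ f).trans ?_)
    have hc : (f : G) * b = b * f := mem_centralizer_singleton_iff.1 (h s s.2 ⟨f, hf, rfl⟩)
    rw [← hc, mul_inv_cancel_right]
    rfl
  intro x hx
  have h2 : b * x * b⁻¹ = x := congrArg Subtype.val
    (eq_one_of_fix_fitting φ hp (normalizerMonoidHom_pow hb hbp) hpU (fun f hf => hle hf) ⟨x, hx⟩)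
  exact mem_centralizer_singleton_iff.2 (mul_inv_eq_iff_eq_mul.1 h2).symm

/-- An operator centralising a Sylow `t`-subgroup: `⁅U, b⁆` is a `t'`-group. -/
theorem not_dvd_commutator {p t : ℕ} (hp : p.Prime) [Fact t.Prime] {U R : Subgroup G}
    (hU : Group.IsSolvable U) (hpU : ¬ p ∣ Nat.card U) {b : G} (hb : b ∈ normalizer (U : Set G))
    (hbp : b ^ p = 1) (hRU : R ≤ U) (hR : IsPGroup t R) (hidx : ¬ t ∣ R.relIndex U)
    (hRb : R ≤ centralizer {b}) : ¬ t ∣ Nat.card ↥⁅U, zpowers b⁆ := by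
  haveI := hU
  set φ := U.normalizerMonoidHom ⟨b, hb⟩ with hφdef
  have hφ : ∀ x : U, ((φ x : U) : G) = b * x * b⁻¹ := fun x => rfl
  let T : Sylow t U := (hR.of_equiv (subgroupOfEquivOfLe hRU).symm).toSylow hidx
  have hmem := inv_mul_mem_pPrimeCore φ hp (normalizerMonoidHom_pow hb hbp) hpU T (fun r hr =>
    Subtype.ext ((hφ r).trans (by
      have hc : (r : G) * b = b * r := mem_centralizer_singleton_iff.1 (hRb hr)
      rw [← hc, mul_inv_cancel_right])))
  set N := primeCoreIn t U with hN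
  have hbN : b ∈ normalizer (N : Set G) := le_normalizer_primeCoreIn hb
  have h1 : ∀ x ∈ U, ⁅b, x⁆ ∈ N := by
    intro x hx
    have h3 : ⁅x, b⁆ ∈ N := by
      refine ⟨_, hmem ⟨x⁻¹, inv_mem hx⟩, ?_⟩
      show ((⟨x⁻¹, inv_mem hx⟩ : U) : G)⁻¹ * (b * x⁻¹ * b⁻¹) = _
      rw [commutatorElement_def, inv_inv]; group
    rw [← commutatorElement_inv]
    exact inv_mem h3
  have hUN : U ≤ normalizer (N : Set G) := fun x hx => le_normalizer_primeCoreIn (le_normalizer hx)
  have hle : ⁅U, zpowers b⁆ ≤ N := commutator_le.2 fun x hx c hc => by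
    obtain ⟨i, rfl⟩ := mem_powers_iff_mem_zpowers.mpr hc
    induction i with
    | zero => simp [one_mem]
    | succ i ih =>
      have ih' := ih (pow_mem (mem_zpowers b) i)
      rw [show ⁅x, b ^ (i + 1)⁆ = ⁅x, b ^ i⁆ * (b ^ i * ⁅x, b⁆ * (b ^ i)⁻¹) by
        simp only [commutatorElement_def, pow_succ]; group]
      refine mul_mem ih' ((mem_normalizer_iff.1 (pow_mem hbN i) _).1 ?_)
      rw [← commutatorElement_inv]
      exact inv_mem (h1 x hx)
  exact fun h => not_dvd_card_primeCoreIn (Fact.out : t.Prime) U (h.trans (card_dvd_of_le hle))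

end CfsgLib.Components.SFT
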