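import Cfsg.Agent.Lib.Components.SFT.Exceptional

/-!
A fourth prime divisor makes an exceptional point the owner of a maximal member.
-/

set_option autoImplicit false
set_option linter.style.haveILetI false
set_option linter.unusedSectionVars false
set_option maxHeartbeats 400000

namespace CfsgLib.Components.SFT

open Subgroup CfsgLib.Solvable CfsgLib.Components.Signalizer CfsgLib.Components.Bender
open scoped commutatorElement

variable {G : Type*} [Group G] [Finite G]

theorem RS_self_le (r : ℕ) [Fact r.Prime] (U : Subgroup G) : RS r r U ≤ coreIn r U := by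
  rintro _ ⟨z, hz, rfl⟩
  refine ⟨z, ?_, rfl⟩
  have hz' : QuotientGroup.mk' (Cfsg.pCore r ↥U) z ∈ Cfsg.pCore r (↥U ⧸ Cfsg.pCore r ↥U) := hz
  rw [pCore_quotient_eq_bot r, mem_bot] at hz'
  exact (QuotientGroup.eq_one_iff z).mp hz'

/-- An operator trivial on every `RS q r M / O_q(M)` is trivial on `RQ q M / O_q(M)`. -/
theorem RQ_le_centMod {q : ℕ} [Fact q.Prime] {M : Subgroup G} {b : G}
    (hbM : b ∈ normalizer (M : Set G))
    (hb : ∀ r : ℕ, r.Prime → r ≠ q → b ∈ trivMod (RS q r M) (coreIn q M)) :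
    RQ q M ≤ centMod q M (zpowers b) := by
  refine (RQ_le_iSup_RS q M).trans (iSup_le fun r k hk => ⟨RS_le q r M hk, fun y hy => ?_⟩)
  refine zpowers_triv (y := b) ?_ y hy k hk
  by_cases hr : (r : ℕ) = q
  · refine ⟨le_normalizer_RS hbM, mem_normalizer_coreIn hbM, fun k' hk' => ?_⟩
    have hk'' : k' ∈ coreIn q M := by
      rw [hr] at hk'
      exact RS_self_le q M hk'
    exact (commutator_mem_of_mem_normalizer (mem_normalizer_coreIn hbM) hk'').1
  · exact hb r r.2 hr

variable {p : ℕ} [hp : Fact p.Prime] {A : Subgroup G} {θ : G → Subgroup G}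

/-- `x` is fixed by `a` as soon as `⁅x, a⁆` is. -/
theorem mem_centralizer_of_commute_commutator (S : Setting p A θ) {R : Subgroup G}
    (hR : Mem p A θ R) {a x : G} (ha : a ∈ A) (hx : x ∈ R) (hc : Commute a ⁅x, a⁆) :
    x ∈ centralizer {a} := by
  have hxa : ⁅x, a⁆ ∈ R :=
    (commutator_mem_of_mem_normalizer (member_le_normalizer hR ha) hx).2
  have h1 : ⁅a, x⁆ = 1 := FPFOperators.eq_one_of_commute_commutator (S.pow_eq_one ha) (by
    rw [← commutatorElement_inv]
    exact hc.inv_right.eq) (by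
    rw [← commutatorElement_inv, orderOf_inv]
    exact Nat.Coprime.coprime_dvd_left (Subgroup.orderOf_dvd_natCard R hxa)
      ((hp.out.coprime_iff_not_dvd.2 hR.2.1).symm))
  exact mem_centralizer_singleton_iff.2 (commutatorElement_eq_one_iff_mul_comm.1 h1).symm

namespace Setting

variable (S : Setting p A θ)
include S

theorem mem_RS {U : Subgroup G} (hU : Mem p A θ U) (r s : ℕ) : Mem p A θ (RS r s U) :=
  member_of_le hU (RS_le r s U) fun _ ha => le_normalizer_RS (member_le_normalizer hU ha)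

end Setting

namespace Minimal

variable (H : Minimal p A θ)
include H

/-- A prime divisor outside `{2, t, s}` is impossible. -/
theorem routeFour {t s d : ℕ} [ht : Fact t.Prime] [hs : Fact s.Prime] (hd : d.Prime)
    (hd2 : d ≠ 2) (hdt : d ≠ t) (hds : d ≠ s) (hdiv : Divides A θ d) {a : G} (ha : a ∈ A)
    (ha1 : a ≠ 1) (hYt : Yq p t A θ ≠ ⊥) (hYs : Yq p s A θ ≠ ⊥)
    (hac : Yq p s A θ ≤ centralizer {a}) (hTH : TH p t A θ a = ⊥) : False := by
  haveI : Fact (Nat.Prime 2) := ⟨Nat.prime_two⟩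
  have S := H.toSetting
  have ht2 : t ≠ 2 := by rintro rfl; exact hYt H.Y_two_eq_bot
  have hs2 : s ≠ 2 := by rintro rfl; exact hYs H.Y_two_eq_bot
  have hts : t ≠ s := by
    rintro rfl
    exact hYs (le_bot_iff.mp ((le_inf le_rfl hac).trans (S.Y_inf_centralizer_eq_bot ha ha1 hTH).le))
  have hθ := S.mem_theta ha ha1
  set O := coreIn s (θ a) with hOdef
  have hYO : Yq p s A θ ≤ O :=
    S.le_core_of_le_Y hθ le_rfl ((le_inf le_rfl hac).trans (S.mem_Y.2.2.2 a ha ha1))
  have hO : Mem p A θ O := S.coreIn_mem hθ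
  have hOne : O ≠ ⊥ := fun h0 => hYs (le_bot_iff.mp (hYO.trans h0.le))
  obtain ⟨M, hM, hMle⟩ := H.exists_overgroup hO hOne
  have hθM : θ a ≤ M := hMle _ hθ (le_normalizer_coreIn s _)
  have hCM : Cfsg.signalizerInf A θ ≤ M := (S.C_le_theta ha ha1).trans hθM
  have hodd : ∀ q : ℕ, q.Prime → q ≠ 2 → coreIn q M ≤ centralizer {a} := fun q hq hq2 => by
    haveI := Fact.mk hq
    exact H.centralises_odd_cores hYt hTH ha ha1 hM.1 hθM hq2
  obtain ⟨q₀, hq₀, hmov⟩ := H.exists_moved_core ha ha1 hM hθM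
  have hq₀2 : q₀ = 2 := by_contra fun h => hmov (hodd q₀ hq₀ h)
  subst hq₀2
  set N := coreIn 2 M with hNdef
  have hNm : Mem p A θ N := S.coreIn_mem hM.1
  have hNne : N ≠ ⊥ := fun h0 => hmov (h0.le.trans bot_le)
  have hp2 : p ≠ 2 := (S.ne_p hNm (isPGroup_coreIn 2 M) hNne).symm
  have hdivs : ∀ x y : ℕ, ∃ q : ℕ, q.Prime ∧ q ∉ ({2, x, y} : Set ℕ) ∧ Divides A θ q := by
    intro x y
    have hdt' := divides_of_dvd S S.mem_Y hYt (S.isPGroup_Y (q := t))
    have hds' := divides_of_dvd S S.mem_Y hYs (S.isPGroup_Y (q := s))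
    by_cases h1 : t ∈ ({2, x, y} : Set ℕ)
    · by_cases h2 : s ∈ ({2, x, y} : Set ℕ)
      · refine ⟨d, hd, fun h3 => ?_, hdiv⟩
        simp only [Set.mem_insert_iff, Set.mem_singleton_iff] at h1 h2 h3
        omega
      · exact ⟨s, hs.out, h2, hds'⟩
    · exact ⟨t, ht.out, h1, hdt'⟩
  -- `a` is trivial on every `RS 2 r M` modulo `N`
  have key : ∀ r : ℕ, r.Prime → r ≠ 2 → a ∈ trivMod (RS 2 r M) N := by
    intro r hr hr2
    haveI := Fact.mk hr
    have hRm := S.mem_RS hM.1 2 r
    obtain ⟨S₀, hS₀, hAS₀⟩ := Coprime.exists_invariant_hall {r} (member_le_normalizer hRm)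
      (coprime_card S.elem hRm.2.1) hRm.1
    have hS₀m : Mem p A θ S₀ := member_of_le hRm hS₀.1 hAS₀
    have hS₀r : IsPGroup r S₀ := IsPGroup.of_card
      (Nat.eq_prime_pow_of_unique_prime_dvd Nat.card_pos.ne' fun {q} hq hqd => hS₀.2.1 q hq hqd)
    have hS₀M : S₀ ≤ M := hS₀.1.trans (RS_le 2 r M)
    have hS₀a : S₀ ≤ centralizer {a} := by
      refine S.le_centralizer_of_commutator_eq_bot ?_
      set P := ⁅S₀, zpowers a⁆ with hPdef
      have hPS : P ≤ S₀ := S.commutator_le_self hS₀m ha
      have hPm : Mem p A θ P := S.mem_commutator hS₀m ha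
      have hPP : P ≤ ⁅P, zpowers a⁆ := (S.commutator_commutator hS₀m ha).ge
      by_contra hPne
      have hrp : r ≠ p := S.ne_p hPm (hS₀r.to_le hPS) hPne
      have hPN : P ≤ normalizer (N : Set G) := (hPS.trans hS₀M).trans (le_normalizer_coreIn 2 M)
      set D := ⁅N, P⁆ with hDdef
      have hDN : D ≤ N := le_normalizer_iff_commutator_le_left.1 hPN
      have hDm : Mem p A θ D := member_of_le hNm hDN fun b hb => by
        rw [mem_normalizer_iff_map_conj_eq, map_commutator,
          mem_normalizer_iff_map_conj_eq.mp (member_le_normalizer hNm hb),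
          mem_normalizer_iff_map_conj_eq.mp (member_le_normalizer hPm hb)]
      have hDcore : ∀ v ∈ A, v ≠ 1 → D ⊓ centralizer {v} ≤ coreIn 2 (θ v) := by
        intro v hv hv1
        have hθv := S.mem_theta hv hv1
        refine le_coreIn_of_parts hθv.1 ((isPGroup_coreIn 2 M).to_le (inf_le_left.trans hDN))
          (hDm.2.2.2 v hv hv1) fun x hx hx2 y hy m hm => ?_
        haveI := Fact.mk hx
        obtain ⟨q, hq, hqπ, hqdiv⟩ := hdivs r x
        obtain ⟨K, hK, -, -, hKle⟩ := H.exists_piMember {2, r, x} hq hqπ hqdiv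
        have hNK : N ≤ K := hKle _ hNm (hCM.trans (le_normalizer_coreIn 2 M))
          (piGroup_of_isPGroup (show (2 : ℕ) ∈ ({2, r, x} : Set ℕ) by simp) (isPGroup_coreIn 2 M))
        have hRSK : RS 2 r M ≤ K := hKle _ hRm (hCM.trans (le_normalizer_RS' 2 r M))
          fun z hz hzd => by
            rcases piGroup_RS 2 r M z hz hzd with rfl | rfl <;> simp
        have hRvK : RS 2 x (θ v) ≤ K := hKle _ (S.mem_RS hθv 2 x)
          ((S.C_le_theta hv hv1).trans (le_normalizer_RS' 2 x _)) fun z hz hzd => by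
            rcases piGroup_RS 2 x (θ v) z hz hzd with rfl | rfl <;> simp
        have hPK : P ≤ K := (hPS.trans hS₀.1).trans hRSK
        have hDK : D ≤ coreIn 2 K := by
          refine le_coreIn_of_parts hK.1 ((isPGroup_coreIn 2 M).to_le hDN) (hDN.trans hNK)
            fun z hz hz2 u hu k hk => ?_
          haveI := Fact.mk hz
          have h2M : ¬ 2 ∣ (coreIn 2 K).relIndex (RS 2 z K) := by
            obtain ⟨i, hi⟩ := exists_relIndex_RS 2 z K
            rw [hi]
            exact fun h => hz2 ((Nat.prime_dvd_prime_iff_eq Nat.prime_two hz).mp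
              (Nat.prime_two.dvd_of_dvd_pow h)).symm
          have haK : a ∈ normalizer (K : Set G) := member_le_normalizer hK ha
          exact twoGroup_centralises (p := p) (r := r) hp.out hp2 hr2 hrp (N₀ := coreIn 2 K)
            (M₀ := RS 2 z K) (R := N) (P := P) (y := a) (coreIn_le_RS 2 z K)
            ((RS_le 2 z K).trans (le_normalizer_coreIn 2 K)) (S.mem_RS hK 2 z).1 (S.mem_RS hK 2 z).2.1
            h2M (S.pow_eq_one ha) (mem_normalizer_coreIn haK) (le_normalizer_RS haK)
            (member_le_normalizer hPm ha) (member_le_normalizer hNm ha) hPN (isPGroup_coreIn 2 M)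
            (hS₀r.to_le hPS) hPP (hPK.trans (le_normalizer_coreIn 2 K))
            (hPK.trans (le_normalizer_RS' 2 z K)) (hNK.trans (le_normalizer_coreIn 2 K))
            (hNK.trans (le_normalizer_RS' 2 z K))
            (fun k' hk' hak g hg => by
              have hk'M : k' ∈ M := hθM (hK.2.2.2 a ha ha1
                ⟨RS_le 2 z K hk', mem_centralizer_singleton_iff.2 hak.symm⟩)
              exact mem_coreIn_of_RQ (isPGroup_coreIn 2 M)
                (commutator_mem_of_mem_normalizer (le_normalizer_coreIn 2 M hk'M) hg).2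
                (commutator_mem_of_mem_normalizer (le_normalizer_RQ' 2 K (hNK hg))
                  (RS_le_RQ 2 K hk')).1) u hu k hk
        exact mem_coreIn_of_RQ (isPGroup_coreIn 2 K)
          (commutator_mem_of_mem_normalizer (le_normalizer_coreIn 2 K (hRvK hm)) (hDK hy.1)).2
          (commutator_mem_of_mem_normalizer
            (le_normalizer_RQ' 2 _ (hDm.2.2.2 v hv hv1 hy)) (RS_le_RQ 2 _ hm)).1
      have hDY : D ≤ Yq p 2 A θ := le_iInf fun L =>
        (S.le_iSup_points hDm L.2).trans (iSup_le fun v =>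
          (hDcore v (L.2.1 v.2.1) v.2.2).trans
            (le_Tinv (S.coreIn_mem (S.mem_theta (L.2.1 v.2.1) v.2.2)) (isPGroup_coreIn 2 _)
              ((S.lineTheta_le v.2.1 v.2.2).trans (le_normalizer_coreIn 2 _))))
      have hPcN : P ≤ centralizer (N : Set G) := by
        rw [← commutator_eq_bot_iff_le_centralizer, commutator_comm]
        exact le_bot_iff.mp (hDY.trans H.Y_two_eq_bot.le)
      have hPfit : P ≤ coreIn r M := fun x hx => mem_coreIn (mem_fitIn_of_solvable hM.1.1
        ((hPS.trans hS₀M) hx) fun q hq => by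
          by_cases hq2 : q = 2
          · subst hq2; exact hPcN hx
          · exact commutator_le_centralizer_of
              (mem_centralizer_of_le_centralizer_singleton (hodd q hq hq2))
              (hS₀M.trans (le_normalizer_coreIn q M)) hx) ((hS₀r.to_le hPS).to_le (zpowers_le.2 hx))
      exact hPne (le_bot_iff.mp (hPP.trans
        (S.commutator_eq_bot_of_le_centralizer (hPfit.trans (hodd r hr hr2))).le))
    have hRN : RS 2 r M ≤ normalizer (N : Set G) := (RS_le 2 r M).trans (le_normalizer_coreIn 2 M)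
    have haM : a ∈ normalizer (M : Set G) := member_le_normalizer hM.1 ha
    have heq : RS 2 r M ≤ N ⊔ S₀ := by
      refine relIndex_eq_one.mp ?_
      obtain ⟨i, hi⟩ := exists_relIndex_RS 2 r M
      obtain ⟨j, -, hj⟩ := (Nat.dvd_prime_pow hr).mp
        (hi ▸ relIndex_dvd_of_le_left (RS 2 r M) (le_sup_left : N ≤ N ⊔ S₀))
      rcases Nat.eq_zero_or_pos j with rfl | hj0
      · simpa using hj
      · exact absurd ((hj ▸ dvd_pow_self r hj0.ne').trans
          (relIndex_dvd_of_le_left (RS 2 r M) (le_sup_right : S₀ ≤ N ⊔ S₀)))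
          (hS₀.2.2 r hr rfl)
    refine ⟨le_normalizer_RS haM, mem_normalizer_coreIn haM, fun k hk => ?_⟩
    obtain ⟨n, hn, x, hx, rfl⟩ := (Coprime.mem_sup_of_le_normalizer
      (hS₀M.trans (le_normalizer_coreIn 2 M))).mp (heq hk)
    rw [show ⁅a, n * x⁆ = ⁅a, n⁆ * (n * ⁅a, x⁆ * n⁻¹) by simp only [commutatorElement_def]; group,
      commutatorElement_eq_one_iff_mul_comm.2 (mem_centralizer_singleton_iff.1 (hS₀a hx)).symm,
      mul_one, mul_inv_cancel, mul_one]
    exact (commutator_mem_of_mem_normalizer (mem_normalizer_coreIn haM) hn).1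
  -- hence `⁅M, a⁆ ≤ N`
  have hD1 : ⁅M, zpowers a⁆ ≤ N := by
    have hle := S.commutator_le_self hM.1 ha
    have hcent := RQ_le_centMod (member_le_normalizer hM.1 ha) key
    refine (S.commutator_commutator hM.1 ha).ge.trans (commutator_zpowers_le_of_forall
      (mem_normalizer_coreIn (member_le_normalizer hM.1 ha)) fun x hx => ?_)
    have hxR : x ∈ RQ 2 M := mem_RQ_of_commutator hM.1.1 (hle hx) fun k hk =>
      (RQ_le_centMod (Subgroup.le_normalizer (hle hx)) (fun r hr hr2 => commutator_le_trivMod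
        (key r hr hr2) (le_normalizer_RS' 2 r M) (le_normalizer_coreIn 2 M) hx) hk).2 x (mem_zpowers x)
    rw [← commutatorElement_inv]
    exact inv_mem ((hcent hxR).2 a (mem_zpowers a))
  -- so `a` owns a maximal `s`-member
  obtain ⟨R, hOR, hR, hRs, hRmax⟩ := exists_maximal_member hO (isPGroup_coreIn s _)
  refine H.false_of_centralised ha ha1 hR hRs (fun h0 => hOne (le_bot_iff.mp (hOR.trans h0.le))) hRmax
    (S.le_centralizer_of_growth hRs fun x hx => ?_)
  have haR : a ∈ normalizer (R : Set G) := member_le_normalizer hR ha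
  have hxa : ⁅x, a⁆ ∈ R := (commutator_mem_of_mem_normalizer haR hx.1).2
  have hOS : O ≤ R ⊓ centralizer {a} :=
    le_inf hOR ((coreIn_le s _).trans (S.theta_le_centralizer ha ha1))
  have hV : Mem p A θ (R ⊓ normalizer (O : Set G)) := member_of_le hR inf_le_left
    ((le_inf (member_le_normalizer hR) ((member_le_normalizer hO).trans Subgroup.le_normalizer)).trans
      inf_normalizer_le_normalizer_inf)
  have hxaM : ⁅x, a⁆ ∈ M := hMle _ hV inf_le_right ⟨hxa, centralizer_le_normalizer _
    (centralizer_le hOS (S.commutator_mem_centralizer hx.2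
      (mem_centralizer_iff.2 fun w hw => mem_centralizer_singleton_iff.1 hw.2)))⟩
  refine mem_centralizer_of_commute_commutator S hR ha hx.1 ?_
  have hcN : ⁅⁅x, a⁆, a⁆ ∈ N := hD1 (commutator_mem_commutator hxaM (mem_zpowers a))
  have hcR : ⁅⁅x, a⁆, a⁆ ∈ R := (commutator_mem_of_mem_normalizer haR hxa).2
  have h1 : ⁅⁅x, a⁆, a⁆ = 1 := by
    refine orderOf_eq_one_iff.mp (Nat.eq_one_of_dvd_coprimes ?_
      (Subgroup.orderOf_dvd_natCard _ hcN) (Subgroup.orderOf_dvd_natCard _ hcR))
    obtain ⟨i, hi⟩ := (isPGroup_coreIn 2 M).exists_card_eq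
    obtain ⟨j, hj⟩ := hRs.exists_card_eq
    rw [hi, hj]
    exact Nat.Coprime.pow _ _ ((Nat.coprime_primes Nat.prime_two hs.out).2 hs2.symm)
  exact (commutatorElement_eq_one_iff_mul_comm.1 h1).symm

end Minimal

end CfsgLib.Components.SFT
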