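import Cfsg.Agent.Lib.Components.SFT.RouteFour

/-!
Three primes: a point central on `Y t` with cyclic central set owns a maximal `t`-member.
-/

set_option autoImplicit false
set_option linter.style.haveILetI false
set_option linter.unusedSectionVars false
set_option maxHeartbeats 400000

namespace CfsgLib.Components.SFT

open Subgroup CfsgLib.Solvable CfsgLib.Components.Signalizer CfsgLib.Components.Bender
open scoped commutatorElement

variable {G : Type*} [Group G] [Finite G]
variable {p : ℕ} [hp : Fact p.Prime] {A : Subgroup G} {θ : G → Subgroup G}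

namespace Setting

variable (S : Setting p A θ)
include S

/-- On a member centralised by `B`, commutators with `e ∈ B⟨c⟩` lie in those with `c`. -/
theorem commutator_le_of_sup {U B : Subgroup G} {c e : G} (hU : Mem p A θ U) (hB : B ≤ A)
    (hUB : U ≤ centralizer (B : Set G)) (hc : c ∈ A) (he : e ∈ B ⊔ zpowers c) :
    ⁅U, zpowers e⁆ ≤ ⁅U, zpowers c⁆ := by
  have heA : e ∈ A := sup_le hB (zpowers_le.2 hc) he
  have hW := S.mem_commutator hU hc
  refine commutator_zpowers_le_of_forall (member_le_normalizer hW heA) fun x hx => ?_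
  obtain ⟨b, hb, z, hz, rfl⟩ := (Coprime.mem_sup_of_le_normalizer
    (S.le_normalizer_of_le hB (zpowers_le.2 hc))).mp he
  rw [show ⁅x, b * z⁆ = ⁅x, b⁆ * (b * ⁅x, z⁆ * b⁻¹) by simp only [commutatorElement_def]; group,
    commutatorElement_eq_one_iff_mul_comm.2 (mem_centralizer_iff.1 (hUB hx) b hb).symm, one_mul]
  exact conj_mem_of_mem_normalizer (member_le_normalizer hW (hB hb))
    (commutator_mem_commutator hx hz)

end Setting

namespace Minimal

variable (H : Minimal p A θ)
include H

/-- Three primes with `C_A(Y t)` cyclic is impossible. -/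
theorem routeThree {t s : ℕ} [ht : Fact t.Prime] [hs : Fact s.Prime] {g : G} (hg : g ∈ A)
    (hg1 : g ≠ 1) (hYt : Yq p t A θ ≠ ⊥) (hYs : Yq p s A θ ≠ ⊥)
    (hgt : Yq p t A θ ≤ centralizer {g}) (hgs : Yq p s A θ ⊓ centralizer {g} = ⊥)
    (hZ : ∀ v ∈ A, Yq p t A θ ≤ centralizer {v} → v ∈ zpowers g)
    (hdiv : ∀ r : ℕ, r.Prime → Divides A θ r → r = 2 ∨ r = t ∨ r = s) : False := by
  haveI : Fact (Nat.Prime 2) := ⟨Nat.prime_two⟩
  have S := H.toSetting
  have ht2 : t ≠ 2 := by rintro rfl; exact hYt H.Y_two_eq_bot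
  have hts : t ≠ s := by
    rintro rfl
    exact hYs (le_bot_iff.mp ((le_inf le_rfl hgt).trans hgs.le))
  have hgoodA : ∀ {m : Subgroup G}, Line p A m → g ∉ m →
      Cfsg.signalizerInf m θ ≤ normalizer (Yq p t A θ : Set G) := fun {m} hm hgm => by
    by_contra hbad
    obtain ⟨g', hg'm, hg'1, hg'c, -⟩ := H.bad_line hYt hm hbad
    exact hgm (zpowers_le.2 hg'm (S.mem_zpowers_symm hg hg'1 (hZ g' (hm.1 hg'm) hg'c)))
  have hgoodB : ∀ {m : Subgroup G}, Line p A m → ∀ v ∈ m, v ∉ zpowers g →
      TH p t A θ v ≠ ⊥ → Cfsg.signalizerInf m θ ≤ normalizer (Yq p t A θ : Set G) :=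
    fun {m} hm v hvm hvg hne => by
    by_contra hbad
    obtain ⟨g', hg'm, hg'1, hg'c, huniq⟩ := H.bad_line hYt hm hbad
    by_cases hv' : v ∈ zpowers g'
    · exact hvg (zpowers_le.2 (hZ g' (hm.1 hg'm) hg'c) hv')
    · exact hne (huniq v hvm hv')
  have hsecond : ∀ v ∈ A, v ≠ 1 → ∀ B, Line p A B → v ∈ B →
      ∃ m c, Line p A m ∧ v ∈ m ∧ c ∈ m ∧ c ∈ A ∧ c ∉ B ∧
        Cfsg.signalizerInf m θ ≤ normalizer (Yq p t A θ : Set G) := by
    intro v hv hv1 B hB hvB
    by_cases hvg : v ∈ zpowers g
    · have hgv : g ∈ zpowers v := S.mem_zpowers_symm hg hv1 hvg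
      have hgB : g ∈ B := zpowers_le.2 hvB hgv
      obtain ⟨M, hM, hgM⟩ := S.exists_line_not_mem hg hg1
      obtain ⟨x, hx, hx1, hxM, hxB⟩ := S.exists_mem_inter hM hB
      obtain ⟨w, hwM, hwB, hwne⟩ : ∃ w ∈ M, w ∉ B ∧ Yq p t A θ ⊓ centralizer {w} ≠ ⊥ := by
        by_contra hno
        push Not at hno
        refine hgM (zpowers_le.2 hxM (S.mem_zpowers_symm hg hx1 (hZ x hx ?_)))
        refine (S.le_iSup_points S.mem_Y hM).trans (iSup_le fun w => ?_)
        by_cases hwB : (w : G) ∈ B
        · have hxw : x ∈ zpowers (w : G) := by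
            by_contra hxw
            have e1 := S.line_eq_span hM w.2.1 hxM w.2.2 hxw
            rw [S.line_eq_span hB hwB hxB w.2.2 hxw] at e1
            exact hgM (e1 ▸ hgB)
          intro y hy
          have hy' : y ∈ centralizer ((zpowers (w : G) : Subgroup G) : Set G) :=
            le_centralizer_zpowers_of_singleton (inf_le_right : _ ⊓ centralizer {(w : G)} ≤ _) hy
          exact mem_centralizer_singleton_iff.2 (mem_centralizer_iff.1 hy' x hxw).symm
        · exact (hno w w.2.1 hwB).le.trans bot_le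
      have hwA := hM.1 hwM
      have hw1 : w ≠ 1 := fun h => hwB (h ▸ one_mem B)
      have hwv : w ∉ zpowers v := fun h => hwB (zpowers_le.2 hvB h)
      have hwg : w ∉ zpowers g := fun h => hwB (zpowers_le.2 hgB h)
      refine ⟨_, w, S.isLine_span hv hwA hv1 hwv, mem_sup_left (mem_zpowers v),
        mem_sup_right (mem_zpowers w), hwA, hwB, hgoodB (S.isLine_span hv hwA hv1 hwv) w
          (mem_sup_right (mem_zpowers w)) hwg fun h0 => hwne (S.Y_inf_centralizer_eq_bot hwA hw1 h0)⟩
    · have hgv : g ∉ zpowers v := fun h => hvg (S.mem_zpowers_symm hv hg1 h)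
      have hB' := S.isLine_span hv hg hv1 hgv
      obtain ⟨w, hw, hwB, hwB'⟩ := S.exists_not_mem_two hB hB'
      have hwv : w ∉ zpowers v := fun h => hwB (zpowers_le.2 hvB h)
      have hm := S.isLine_span hv hw hv1 hwv
      refine ⟨_, w, hm, mem_sup_left (mem_zpowers v), mem_sup_right (mem_zpowers w), hw, hwB,
        hgoodA hm fun h => hwB' ?_⟩
      rw [S.line_eq_span hm (mem_sup_left (mem_zpowers v)) h hv1 hgv]
      exact mem_sup_right (mem_zpowers w)
  obtain ⟨K, hK, hKle⟩ := H.exists_overgroup S.mem_Y hYt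
  have hCK : Cfsg.signalizerInf A θ ≤ K := hKle _ S.mem_C S.C_le_normalizer_Y
  have hYtK : Yq p t A θ ≤ K := hKle _ S.mem_Y Subgroup.le_normalizer
  have hYsK : Yq p s A θ ≤ K :=
    hKle _ S.mem_Y ((S.Y_le_centralizer hts.symm).trans (centralizer_le_normalizer _))
  have hYtcore : Yq p t A θ ≤ coreIn t K := S.le_core_of_le_Y hK.1 le_rfl hYtK
  have hYscore : Yq p s A θ ≤ coreIn s K := S.le_core_of_le_Y hK.1 le_rfl hYsK
  have hU : Cfsg.signalizerInf A θ ⊓ coreIn 2 K = ⊥ := by
    refine H.theoremU hK hCK ht2 (fun h0 => hYt (le_bot_iff.mp (hYtcore.trans h0.le)))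
      fun r hr hr2 hY h0 => ?_
    haveI := Fact.mk hr
    rcases hdiv r hr (divides_of_dvd S S.mem_Y hY S.isPGroup_Y) with rfl | rfl | rfl
    · exact hr2 rfl
    · exact hY (le_bot_iff.mp (hYtcore.trans h0.le))
    · exact hY (le_bot_iff.mp (hYscore.trans h0.le))
  -- the commutators of the cores of `K` with `A`
  have hglob : ∀ r : ℕ, r.Prime → ∀ e ∈ A, ⁅coreIn r K, zpowers e⁆ ≤ Yq p r A θ := by
    intro r hr e he
    haveI := Fact.mk hr
    have hJ : Mem p A θ (coreIn r K) := S.coreIn_mem hK.1
    refine S.le_of_commutator he (S.mem_commutator hJ he) (S.commutator_commutator hJ he).ge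
      (member_le_normalizer S.mem_Y he)
      (fun B : {B : Subgroup G // Line p A B} => ((B : Subgroup G) : Set G))
      (fun D hD _ => S.le_iSup_lines hD) fun B x hx => ?_
    set X₀ := coreIn r K ⊓ centralizer ((B : Subgroup G) : Set G) with hX₀def
    have hX₀ : Mem p A θ X₀ := member_of_le hJ inf_le_left
      (le_normalizer_inf_centralizer S.elem (member_le_normalizer hJ) B.2.1)
    have hxX : x ∈ X₀ := ⟨S.commutator_le_self hJ he hx.1, hx.2⟩
    by_cases heB : e ∈ (B : Subgroup G)
    · rw [commutatorElement_eq_one_iff_mul_comm.2 (mem_centralizer_iff.1 hx.2 e heB).symm]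
      exact one_mem _
    refine (le_iInf fun L => ?_ : ⁅X₀, zpowers e⁆ ≤ Yq p r A θ)
      (commutator_mem_commutator hxX (mem_zpowers e))
    obtain ⟨v, hv, hv1, hvB, hvL⟩ := S.exists_mem_inter B.2 L.2
    obtain ⟨m, c, hm, hvm, hcm, hc, hcB, hgood⟩ := hsecond v hv hv1 B B.2 hvB
    have hec : e ∈ (B : Subgroup G) ⊔ zpowers c := by rw [S.line_sup_eq B.2 hc hcB]; exact he
    have hle := S.commutator_le_self hX₀ hc
    have hX₀v : X₀ ≤ θ v :=
      (S.inf_centralizer_le_lineTheta hJ B.2).trans (S.lineTheta_le hvB hv1)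
    have hm' : zpowers v ⊔ zpowers c = m :=
      S.line_eq_span hm hvm hcm hv1 fun h => hcB (zpowers_le.2 hvB h)
    have hcore : ⁅X₀, zpowers c⁆ ≤ coreIn r (θ v) := by
      refine S.piece_le_core (T := coreIn r K) hv hv1 hc (S.mem_commutator hX₀ hc)
        ((isPGroup_coreIn r K).to_le (hle.trans inf_le_left)) (hle.trans hX₀v)
        (S.commutator_commutator hX₀ hc).ge (isPGroup_coreIn r K) (hle.trans inf_le_left) ?_ ?_
      · refine le_trans ?_ ((hKle _ (S.mem_lineTheta hm) hgood).trans (le_normalizer_coreIn r K))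
        refine le_trans (le_inf inf_le_left ?_) (S.inf_centralizer_le_lineTheta (S.mem_theta hv hv1) hm)
        rw [← hm']
        exact le_centralizer_iff.mpr (sup_le
          (le_centralizer_iff.mpr (le_centralizer_zpowers_of_singleton
            (inf_le_left.trans (S.theta_le_centralizer hv hv1))))
          (le_centralizer_iff.mpr (le_centralizer_zpowers_of_singleton inf_le_right)))
      · by_cases hr2 : r = 2
        · subst hr2
          refine Or.inr (le_bot_iff.mp (le_trans ?_ hU.le))
          have hA : ⁅X₀, zpowers c⁆ ⊓ centralizer {c} ≤ centralizer (A : Set G) := by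
            rw [← S.line_sup_eq B.2 hc hcB]
            exact le_centralizer_iff.mpr (sup_le
              (le_centralizer_iff.mpr ((inf_le_left.trans hle).trans inf_le_right))
              (le_centralizer_iff.mpr (le_centralizer_zpowers_of_singleton inf_le_right)))
          exact le_inf ((le_inf (inf_le_left.trans (hle.trans inf_le_left)) hA).trans
            (S.inf_centralizer_A_le hJ)) (inf_le_left.trans (hle.trans inf_le_left))
        · exact Or.inl hr2
    exact (S.commutator_le_of_sup hX₀ B.2.1 inf_le_right hc hec).trans (hcore.trans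
      (le_Tinv (S.coreIn_mem (S.mem_theta hv hv1)) (isPGroup_coreIn r _)
        ((S.lineTheta_le hvL hv1).trans (le_normalizer_coreIn r _))))
  have h2g : coreIn 2 K ≤ centralizer {g} := S.le_centralizer_of_commutator_eq_bot
    (le_bot_iff.mp ((hglob 2 Nat.prime_two g hg).trans H.Y_two_eq_bot.le))
  have htg : coreIn t K ≤ centralizer {g} := S.le_centralizer_of_commutator_eq_bot (le_bot_iff.mp
    ((S.commutator_commutator (S.coreIn_mem hK.1) hg).ge.trans
      ((commutator_mono (hglob t ht.out g hg) le_rfl).trans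
        (S.commutator_eq_bot_of_le_centralizer hgt).le)))
  -- `g` owns a maximal `t`-member
  obtain ⟨R, hR, hRt, hRmax⟩ := S.exists_maximal t
  have hYR : Yq p t A θ ≤ R := S.Y_le_maximal hR hRt hRmax
  refine H.false_of_centralised hg hg1 hR hRt (fun h0 => hYt (le_bot_iff.mp (hYR.trans h0.le)))
    hRmax (S.le_centralizer_of_growth hRt fun x hx => ?_)
  set S₀ := R ⊓ centralizer {g} with hS₀def
  set V := R ⊓ normalizer (S₀ : Set G) with hVdef
  have hS₀A : A ≤ normalizer (S₀ : Set G) :=
    le_normalizer_inf_centralizer_singleton S.elem (member_le_normalizer hR) hg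
  have hV : Mem p A θ V := member_of_le hR inf_le_left
    ((le_inf (member_le_normalizer hR) (hS₀A.trans Subgroup.le_normalizer)).trans
      inf_normalizer_le_normalizer_inf)
  set P := ⁅V, zpowers g⁆ with hPdef
  have hPV : P ≤ V := S.commutator_le_self hV hg
  have hPm : Mem p A θ P := S.mem_commutator hV hg
  have hPP : P ≤ ⁅P, zpowers g⁆ := (S.commutator_commutator hV hg).ge
  have hgS₀ : g ∈ centralizer (S₀ : Set G) :=
    mem_centralizer_iff.2 fun w hw => mem_centralizer_singleton_iff.1 hw.2
  have hPc : P ≤ centralizer (S₀ : Set G) := commutator_zpowers_le_of_forall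
    (Subgroup.le_normalizer hgS₀) fun y hy => S.commutator_mem_centralizer hy.2 hgS₀
  have hPK : P ≤ K := hKle _ hPm ((hPc.trans (centralizer_le (le_inf hYR hgt : Yq p t A θ ≤ S₀))).trans
    (centralizer_le_normalizer _))
  have hPt : IsPGroup t P := hRt.to_le (hPV.trans inf_le_left)
  have hJs : Mem p A θ (coreIn s K) := S.coreIn_mem hK.1
  -- `P` normalises `Y s`
  have hPs : P ≤ normalizer (Yq p s A θ : Set G) := S.le_of_lines hPm fun B hB => by
    by_cases hBs : Cfsg.signalizerInf B θ ≤ normalizer (Yq p s A θ : Set G)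
    · exact (S.inf_centralizer_le_lineTheta hPm hB).trans hBs
    obtain ⟨e, heB, he1, hTHe⟩ : ∃ e ∈ B, e ≠ 1 ∧ TH p s A θ e = ⊥ := by
      by_contra hno
      push Not at hno
      exact hBs (H.lineTheta_le_normalizer_Y hB hno)
    have heA := hB.1 heB
    have heq : ⁅coreIn s K, zpowers e⁆ = Yq p s A θ :=
      le_antisymm (hglob s hs.out e heA) ((S.eq_commutator_of_fpf S.mem_Y heA
        (S.Y_inf_centralizer_eq_bot heA he1 hTHe)).ge.trans (commutator_mono hYscore le_rfl))
    intro y hy
    have hye : y ∈ centralizer ((zpowers e : Subgroup G) : Set G) :=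
      centralizer_le (zpowers_le.2 heB) hy.2
    rw [← heq, mem_normalizer_iff_map_conj_eq, map_commutator,
      mem_normalizer_iff_map_conj_eq.mp (le_normalizer_coreIn s K (hPK hy.1)),
      mem_normalizer_iff_map_conj_eq.mp (centralizer_le_normalizer _ hye)]
  -- `P` centralises `O_s(K)`
  have hcop : (Nat.card P).Coprime (Nat.card (Yq p s A θ)) := by
    obtain ⟨i, hi⟩ := hPt.exists_card_eq
    obtain ⟨j, hj⟩ := (S.isPGroup_Y (q := s)).exists_card_eq
    rw [hi, hj]
    exact Nat.Coprime.pow _ _ ((Nat.coprime_primes ht.out hs.out).2 hts)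
  have hPYs : P ≤ centralizer (Yq p s A θ : Set G) := by
    intro y hy
    by_cases hPne : P = ⊥
    · rw [hPne, mem_bot] at hy
      rw [hy]
      exact one_mem _
    have hbot : ∀ z : G, z ∈ normalizer ((⊥ : Subgroup G) : Set G) := fun z =>
      mem_normalizer_iff.2 fun h => by simp
    have h1 := pGroup_centralises (p := p) (q := t) hp.out (S.ne_p hPm hPt hPne) (N₀ := ⊥)
      (M₀ := Yq p s A θ) (P := P) (y := g) bot_le (fun z _ => hbot z) S.mem_Y.1 S.mem_Y.2.1
      (by rw [relIndex_bot_left]; exact hcop) (S.pow_eq_one hg) (hbot g)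
      (member_le_normalizer S.mem_Y hg) (member_le_normalizer hPm hg) (fun z _ => hbot z) hPs hPt hPP
      (Or.inl ht2) (fun m hm hgm z _ => by
        have h2 : m ∈ Yq p s A θ ⊓ centralizer {g} :=
          ⟨hm, mem_centralizer_singleton_iff.2 hgm.symm⟩
        rw [hgs, mem_bot] at h2
        rw [h2, commutatorElement_one_right]
        exact one_mem _) y hy
    exact mem_centralizer_iff.2 fun m hm =>
      (commutatorElement_eq_one_iff_mul_comm.1 (mem_bot.1 (h1 m hm))).symm
  have hgtriv : g ∈ trivMod (coreIn s K) (Yq p s A θ) :=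
    ⟨member_le_normalizer hJs hg, member_le_normalizer S.mem_Y hg, fun k hk => by
      rw [← commutatorElement_inv]
      exact inv_mem (hglob s hs.out g hg (commutator_mem_commutator hk (mem_zpowers g)))⟩
  have hPJ : P ≤ centralizer (coreIn s K : Set G) := by
    refine Coprime.le_centralizer_of_stabilizes hcop hPYs fun y hy k hk => ?_
    exact (commutator_le_trivMod hgtriv (hPK.trans (le_normalizer_coreIn s K)) hPs (hPP hy)).2.2 k hk
  have hPfit : P ≤ coreIn t K := fun y hy => mem_coreIn (mem_fitIn_of_solvable hK.1.1 (hPK hy)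
    fun q hq => by
      haveI := Fact.mk hq
      have hq' : ∀ {q : ℕ}, coreIn q K ≤ centralizer {g} → y ∈ centralizer (coreIn q K : Set G) :=
        fun {q} hc => commutator_le_centralizer_of (mem_centralizer_of_le_centralizer_singleton hc)
          (hPK.trans (le_normalizer_coreIn q K)) (hPP hy)
      by_cases hb : coreIn q K = ⊥
      · exact hq' (hb.le.trans bot_le)
      rcases hdiv q hq (divides_of_dvd S (S.coreIn_mem hK.1) hb (isPGroup_coreIn q K)) with
        rfl | rfl | rfl
      · exact hq' h2g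
      · exact hq' htg
      · exact hPJ hy) (hPt.to_le (zpowers_le.2 hy))
  exact S.le_centralizer_of_commutator_eq_bot
    (le_bot_iff.mp (hPP.trans (S.commutator_eq_bot_of_le_centralizer (hPfit.trans htg)).le)) hx

end Minimal

end CfsgLib.Components.SFT
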