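import Cfsg.Agent.Lib.Components.Signalizer.Transitivity
import Cfsg.Agent.Lib.Components.SFT.Criterion

/-!
The setting of the solvable signalizer functor theorem: `A` elementary of order `p ^ 3`; a line is
a subgroup of `A` of order `p ^ 2`.
-/

set_option autoImplicit false
set_option linter.style.haveILetI false
set_option linter.unusedSectionVars false

namespace CfsgLib.Components.SFT

open Subgroup CfsgLib.Components.Signalizer CfsgLib.Components.Bender
open scoped commutatorElement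

variable {G : Type*} [Group G] [Finite G]

/-- The hypotheses: a solvable signalizer functor on an elementary group of order `p ^ 3`. -/
structure Setting (p : ℕ) (A : Subgroup G) (θ : G → Subgroup G) : Prop where
  elem : Cfsg.IsElementaryAbelian p A
  card_eq : Nat.card A = p ^ 3
  funct : Cfsg.IsSolvableSignalizerFunctor p A θ

/-- `U` is a `θ`-subgroup. -/
abbrev Mem (p : ℕ) (A : Subgroup G) (θ : G → Subgroup G) (U : Subgroup G) : Prop :=
  U ∈ Cfsg.signalizerFamily p A θ

/-- A line: a subgroup of order `p ^ 2` of `A`. -/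
def Line (p : ℕ) (A L : Subgroup G) : Prop := L ≤ A ∧ Nat.card L = p ^ 2

variable {p : ℕ} [hp : Fact p.Prime] {A : Subgroup G} {θ : G → Subgroup G}

namespace Setting

variable (S : Setting p A θ)
include S

theorem card_ge : p ^ 3 ≤ Nat.card A := S.card_eq.ge

theorem comm {a b : G} (ha : a ∈ A) (hb : b ∈ A) : a * b = b * a := commute_of_mem S.elem ha hb

theorem pow_eq_one {a : G} (ha : a ∈ A) : a ^ p = 1 := S.elem.2 a ha

theorem orderOf_eq {a : G} (ha : a ∈ A) (ha1 : a ≠ 1) : orderOf a = p :=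
  orderOf_eq_prime (S.pow_eq_one ha) ha1

theorem line_ne_bot {L : Subgroup G} (hL : Line p A L) : L ≠ ⊥ :=
  exists_ne_one_of_card hL.2.ge (by norm_num)

theorem line_relIndex {L : Subgroup G} (hL : Line p A L) : L.relIndex A = p := by
  have h := Coprime.card_mul_relIndex' hL.1
  rw [hL.2, S.card_eq] at h
  exact Nat.eq_of_mul_eq_mul_left (pow_pos hp.out.pos 2) (h.trans (by ring))

theorem isLine_of_relIndex {L : Subgroup G} (hL : L ≤ A) (h : L.relIndex A = p) : Line p A L := by
  have h1 := Coprime.card_mul_relIndex' hL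
  rw [h, S.card_eq] at h1
  exact ⟨hL, Nat.eq_of_mul_eq_mul_right hp.out.pos (h1.trans (by ring))⟩

theorem exists_mem_inter {L M : Subgroup G} (hL : Line p A L) (hM : Line p A M) :
    ∃ a ∈ A, a ≠ 1 ∧ a ∈ L ∧ a ∈ M :=
  exists_nontrivial_inf S.elem S.card_ge hL.1 hM.1 (S.line_relIndex hL).le (S.line_relIndex hM).le

theorem le_normalizer_of_le {B C : Subgroup G} (hB : B ≤ A) (hC : C ≤ A) :
    C ≤ normalizer (B : Set G) := fun _ hc => centralizer_le_normalizer _
  (mem_centralizer_iff.mpr fun _ hb => S.comm (hB hb) (hC hc))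

theorem card_sup_zpowers {B : Subgroup G} (hB : B ≤ A) {v : G} (hv : v ∈ A) (hvB : v ∉ B) :
    Nat.card ↥(B ⊔ zpowers v) = Nat.card B * p := by
  have hd : Disjoint B (zpowers v) := by
    rw [disjoint_iff_inf_le]
    intro x hx
    by_contra hx1
    rw [mem_bot] at hx1
    refine hvB ?_
    have hv1 : v ≠ 1 := fun h => hvB (h ▸ one_mem B)
    have hvv : zpowers x = zpowers v := by
      refine eq_of_le_of_card_ge (zpowers_le.mpr hx.2) ?_
      rw [Nat.card_zpowers, Nat.card_zpowers, S.orderOf_eq hv hv1, S.orderOf_eq (hB hx.1) hx1]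
    exact zpowers_le.mpr hx.1 (hvv.symm ▸ mem_zpowers v)
  rw [Coprime.card_sup_of_le_normalizer (S.le_normalizer_of_le hB (zpowers_le.mpr hv)) hd,
    Nat.card_zpowers, S.orderOf_eq hv (fun h => hvB (h ▸ one_mem B))]

theorem line_sup_eq {L : Subgroup G} (hL : Line p A L) {v : G} (hv : v ∈ A) (hvL : v ∉ L) :
    L ⊔ zpowers v = A :=
  eq_of_le_of_card_ge (sup_le hL.1 (zpowers_le.mpr hv)) (by
    rw [S.card_sup_zpowers hL.1 hv hvL, hL.2, S.card_eq, pow_succ])

theorem isLine_span {v w : G} (hv : v ∈ A) (hw : w ∈ A) (hv1 : v ≠ 1) (hwv : w ∉ zpowers v) :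
    Line p A (zpowers v ⊔ zpowers w) :=
  ⟨sup_le (zpowers_le.mpr hv) (zpowers_le.mpr hw), by
    rw [S.card_sup_zpowers (zpowers_le.mpr hv) hw hwv, Nat.card_zpowers, S.orderOf_eq hv hv1,
      pow_two]⟩

theorem mem_zpowers_symm {v w : G} (hv : v ∈ A) (hw1 : w ≠ 1) (h : w ∈ zpowers v) :
    v ∈ zpowers w := by
  have hw : w ∈ A := zpowers_le.mpr hv h
  have e : zpowers w = zpowers v := by
    refine eq_of_le_of_card_ge (zpowers_le.mpr h) ?_
    rw [Nat.card_zpowers, Nat.card_zpowers, S.orderOf_eq hw hw1]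
    by_cases hv1 : v = 1
    · subst hv1; simp [hp.out.one_le]
    · rw [S.orderOf_eq hv hv1]
  exact e ▸ mem_zpowers v

theorem line_eq_span {L : Subgroup G} (hL : Line p A L) {v w : G} (hv : v ∈ L) (hw : w ∈ L)
    (hv1 : v ≠ 1) (hwv : w ∉ zpowers v) : zpowers v ⊔ zpowers w = L :=
  eq_of_le_of_card_ge (sup_le (zpowers_le.mpr hv) (zpowers_le.mpr hw))
    (by rw [(S.isLine_span (hL.1 hv) (hL.1 hw) hv1 hwv).2, hL.2])

theorem exists_mem_not_mem_zpowers {L : Subgroup G} (hL : Line p A L) (v : G) (hv : v ∈ A) :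
    ∃ w ∈ L, w ∉ zpowers v := by
  by_contra hc
  push Not at hc
  have h := card_le_of_le (show L ≤ zpowers v from hc)
  rw [hL.2, Nat.card_zpowers] at h
  have h2 : orderOf v ≤ p := Nat.le_of_dvd hp.out.pos (orderOf_dvd_of_pow_eq_one (S.pow_eq_one hv))
  have h3 : p ^ 1 < p ^ 2 := Nat.pow_lt_pow_right hp.out.one_lt (by norm_num)
  rw [pow_one] at h3
  omega

theorem exists_line_mem {v : G} (hv : v ∈ A) : ∃ L, Line p A L ∧ v ∈ L := by
  obtain ⟨D, hD, hDi⟩ := exists_relIndex_eq S.elem le_rfl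
    (exists_ne_one_of_card S.card_ge (by norm_num))
  have hL := S.isLine_of_relIndex hD hDi
  by_cases hv1 : v = 1
  · exact ⟨D, hL, hv1 ▸ one_mem D⟩
  · obtain ⟨w, hw, hwv⟩ := S.exists_mem_not_mem_zpowers hL v hv
    exact ⟨_, S.isLine_span hv (hD hw) hv1 hwv, mem_sup_left (mem_zpowers v)⟩

theorem exists_line_not_mem {v : G} (hv : v ∈ A) (hv1 : v ≠ 1) : ∃ M, Line p A M ∧ v ∉ M := by
  obtain ⟨L, hL, hvL⟩ := S.exists_line_mem hv
  have hne : ¬ A ≤ L := fun h => by
    have := card_le_of_le h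
    rw [hL.2, S.card_eq] at this
    exact absurd this (not_le.mpr (Nat.pow_lt_pow_right hp.out.one_lt (by norm_num)))
  obtain ⟨u, hu, huL⟩ := SetLike.not_le_iff_exists.mp hne
  obtain ⟨w, hw, hwv⟩ := S.exists_mem_not_mem_zpowers hL v hv
  have hwA := hL.1 hw
  have hw1 : w ≠ 1 := fun h => hwv (h ▸ one_mem _)
  have huw : u ∉ zpowers w := fun h => huL (zpowers_le.mpr hw h)
  refine ⟨zpowers w ⊔ zpowers u, S.isLine_span hwA hu hw1 huw, fun hvm => huL ?_⟩
  have hM := S.isLine_span hwA hu hw1 huw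
  have hvw : v ∉ zpowers w := fun h => hwv (S.mem_zpowers_symm hwA hv1 h)
  have e1 := S.line_eq_span hM (mem_sup_left (mem_zpowers w)) hvm hw1 hvw
  have e2 := S.line_eq_span hL hw hvL hw1 hvw
  rw [← e2, e1]
  exact mem_sup_right (mem_zpowers u)

end Setting

end CfsgLib.Components.SFT
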