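import Cfsg.Agent.Lib.Components.SFT.Tinv
import Cfsg.Agent.Lib.Components.SFT.Operators
import Cfsg.Agent.Lib.Coprime.Hall

/-!
The minimal counterexample to the solvable signalizer functor theorem, and the largest `C`-invariant
`π`-subgroups.
-/

set_option autoImplicit false
set_option linter.style.haveILetI false
set_option linter.unusedSectionVars false
set_option maxHeartbeats 400000

namespace CfsgLib.Components.SFT

open Subgroup CfsgLib.Components.Signalizer CfsgLib.Components.Bender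
open scoped commutatorElement

variable {G : Type*} [Group G] [Finite G]
variable {p : ℕ} [hp : Fact p.Prime] {A : Subgroup G} {θ : G → Subgroup G}

/-- All prime divisors of the order of `P` lie in `π`. -/
def PiGroup (π : Set ℕ) (P : Subgroup G) : Prop := ∀ q : ℕ, q.Prime → q ∣ Nat.card P → q ∈ π

theorem PiGroup.of_le {π : Set ℕ} {P Q : Subgroup G} (h : PiGroup π Q) (hle : P ≤ Q) : PiGroup π P :=
  fun q hq hd => h q hq (hd.trans (card_dvd_of_le hle))

theorem piGroup_of_isPGroup {π : Set ℕ} {q : ℕ} [hq : Fact q.Prime] (hqπ : q ∈ π) {P : Subgroup G}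
    (hP : IsPGroup q P) : PiGroup π P := fun r hr hd => by
  obtain ⟨k, hk⟩ := IsPGroup.iff_card.mp hP
  rw [hk] at hd
  rwa [(Nat.prime_dvd_prime_iff_eq hr hq.out).mp (hr.dvd_of_dvd_pow hd)]

/-- The `π`-subgroups of `θ a` invariant under `A` and `θ(A)`, joined. -/
def piSub (π : Set ℕ) (A : Subgroup G) (θ : G → Subgroup G) (a : G) : Subgroup G :=
  sSup {P | P ≤ θ a ∧ A ≤ normalizer (P : Set G) ∧
    Cfsg.signalizerInf A θ ≤ normalizer (P : Set G) ∧ PiGroup π P}

theorem piSub_le (π : Set ℕ) (a : G) : piSub π A θ a ≤ θ a := sSup_le fun _ h => h.1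

theorem le_piSub {π : Set ℕ} {a : G} {P : Subgroup G} (h1 : P ≤ θ a)
    (h2 : A ≤ normalizer (P : Set G)) (h3 : Cfsg.signalizerInf A θ ≤ normalizer (P : Set G))
    (h4 : PiGroup π P) : P ≤ piSub π A θ a :=
  le_sSup ⟨h1, h2, h3, h4⟩

/-- The closure is a member containing all `θ a`. -/
def Complete (p : ℕ) (A : Subgroup G) (θ : G → Subgroup G) : Prop :=
  ∃ W, Mem p A θ W ∧ ∀ a ∈ A, a ≠ 1 → θ a ≤ W

/-- A maximal `θ`-subgroup. -/
def IsMax (p : ℕ) (A : Subgroup G) (θ : G → Subgroup G) (M : Subgroup G) : Prop :=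
  Mem p A θ M ∧ ∀ M', Mem p A θ M' → M ≤ M' → M' = M

/-- `q` divides the order of some `θ a`. -/
def Divides (A : Subgroup G) (θ : G → Subgroup G) (q : ℕ) : Prop :=
  ∃ a ∈ A, a ≠ 1 ∧ q ∣ Nat.card (θ a)

namespace Setting

variable (S : Setting p A θ)
include S

theorem C_le_theta {a : G} (ha : a ∈ A) (ha1 : a ≠ 1) : Cfsg.signalizerInf A θ ≤ θ a :=
  signalizerInf_le ha ha1

theorem C_le_centralizer : Cfsg.signalizerInf A θ ≤ centralizer (A : Set G) :=
  signalizerInf_le_centralizer S.funct.1 le_rfl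

theorem C_le_centralizer_singleton {a : G} (ha : a ∈ A) :
    Cfsg.signalizerInf A θ ≤ centralizer {a} :=
  S.C_le_centralizer.trans (centralizer_le (Set.singleton_subset_iff.2 ha))

theorem lineTheta_le {L : Subgroup G} {a : G} (ha : a ∈ L) (ha1 : a ≠ 1) :
    Cfsg.signalizerInf L θ ≤ θ a :=
  signalizerInf_le ha ha1

theorem C_le_lineTheta {L : Subgroup G} (hL : Line p A L) :
    Cfsg.signalizerInf A θ ≤ Cfsg.signalizerInf L θ :=
  signalizerInf_anti hL.1

theorem inf_centralizer_A_le {U : Subgroup G} (hU : Mem p A θ U) :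
    U ⊓ centralizer (A : Set G) ≤ Cfsg.signalizerInf A θ :=
  member_inf_centralizer_le hU le_rfl

theorem exists_line : ∃ L, Line p A L := (S.exists_line_mem A.one_mem).imp fun _ h => h.1

theorem exists_point_ne_one : ∃ a ∈ A, a ≠ 1 :=
  A.bot_or_exists_ne_one.resolve_left (exists_ne_one_of_card S.card_ge (by norm_num))

/-- A member lies in a subgroup containing all its point centralisers. -/
theorem le_of_points {U W : Subgroup G} (hU : Mem p A θ U)
    (h : ∀ a ∈ A, a ≠ 1 → U ⊓ centralizer {a} ≤ W) : U ≤ W := by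
  obtain ⟨L, hL⟩ := S.exists_line
  exact (S.le_iSup_points hU hL).trans (iSup_le fun x => h x (hL.1 x.2.1) x.2.2)

theorem le_of_lines {U W : Subgroup G} (hU : Mem p A θ U)
    (h : ∀ L, Line p A L → U ⊓ centralizer (L : Set G) ≤ W) : U ≤ W :=
  (S.le_iSup_lines hU).trans (iSup_le fun L => h L L.2)

theorem theta_le_of_lines {a : G} (ha : a ∈ A) (ha1 : a ≠ 1) {W : Subgroup G}
    (h : ∀ L, Line p A L → a ∈ L → Cfsg.signalizerInf L θ ≤ W) : θ a ≤ W :=
  (S.le_iSup_lines_through (S.mem_theta ha ha1) ha ha1 (S.theta_le_centralizer ha ha1)).trans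
    (iSup_le fun L => (S.inf_centralizer_le_lineTheta (S.mem_theta ha ha1) L.2.1).trans (h L L.2.1 L.2.2))

theorem exists_isMax {U : Subgroup G} (hU : Mem p A θ U) : ∃ M, IsMax p A θ M ∧ U ≤ M := by
  obtain ⟨M, hUM, hM, hmax⟩ := Finite.exists_le_maximal (p := fun V : Subgroup G => Mem p A θ V) hU
  exact ⟨M, ⟨hM, fun M' hM' hle => le_antisymm (hmax hM' hle) hle⟩, hUM⟩

theorem piGroup_piSub (π : Set ℕ) {a : G} (ha : a ∈ A) (ha1 : a ≠ 1) :
    PiGroup π (piSub π A θ a) := by
  have hA := le_normalizer_theta S.funct.1 ha ha1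
  have hcop := coprime_card S.elem (S.funct.1.2.1 a ha ha1)
  obtain ⟨H, hH, hAH⟩ := Coprime.exists_invariant_hall π hA hcop (S.funct.2 a ha ha1)
  refine PiGroup.of_le hH.2.1 (sSup_le fun P hP => ?_)
  obtain ⟨H₀, hH₀, hAH₀, hPH₀⟩ :=
    Coprime.exists_invariant_hall_ge π hA hcop (S.funct.2 a ha ha1) hP.1 hP.2.1 hP.2.2.2
  obtain ⟨c, hc, rfl⟩ :=
    Coprime.exists_centralizer_conj_hall hA hcop (S.funct.2 a ha ha1) hH₀ hAH₀ hH hAH
  have hcC : c ∈ Cfsg.signalizerInf A θ := S.inf_centralizer_A_le (S.mem_theta ha ha1) hc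
  rw [← mem_normalizer_iff_map_conj_eq.mp (hP.2.2.1 hcC)]
  exact Subgroup.map_mono hPH₀

theorem le_normalizer_piSub (π : Set ℕ) (a : G) : A ≤ normalizer (piSub π A θ a : Set G) :=
  fun _ hb => le_normalizer_sSup fun _ hP => hP.2.1 hb

theorem C_le_normalizer_piSub (π : Set ℕ) (a : G) :
    Cfsg.signalizerInf A θ ≤ normalizer (piSub π A θ a : Set G) :=
  fun _ hb => le_normalizer_sSup fun _ hP => hP.2.2.1 hb

theorem piSetting (π : Set ℕ) : Setting p A (piSub π A θ) := by
  refine ⟨S.elem, S.card_eq, ⟨fun a ha ha1 => (piSub_le π a).trans (S.theta_le_centralizer ha ha1),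
    fun a ha ha1 => not_dvd_of_le (piSub_le π a) (S.funct.1.2.1 a ha ha1),
    fun a ha ha1 b hb x hx => le_normalizer_iff.mp (S.le_normalizer_piSub π a) b hb x hx,
    fun a ha ha1 b hb hb1 => ?_⟩, fun a ha ha1 => Coprime.isSolvable_of_le (piSub_le π a)
      (S.funct.2 a ha ha1)⟩
  refine le_piSub ((inf_le_inf_right _ (piSub_le π a)).trans (S.funct.1.2.2.2 a ha ha1 b hb hb1))
    ?_ ?_ ((S.piGroup_piSub π ha ha1).of_le inf_le_left)
  · exact (le_inf (S.le_normalizer_piSub π a)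
      ((le_centralizer_singleton S.elem hb).trans Subgroup.le_normalizer)).trans
        inf_normalizer_le_normalizer_inf
  · refine le_trans ?_ inf_normalizer_le_normalizer_inf
    have h1 : Cfsg.signalizerInf A (piSub π A θ) ≤ Cfsg.signalizerInf A θ :=
      le_iInf fun c => (signalizerInf_le c.2.1 c.2.2).trans (piSub_le π (c : G))
    exact le_inf (S.C_le_normalizer_piSub π a)
      ((S.C_le_centralizer_singleton hb).trans Subgroup.le_normalizer)

end Setting

theorem Mem.of_piSub {π : Set ℕ} {U : Subgroup G} (h : Mem p A (piSub π A θ) U) : Mem p A θ U :=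
  ⟨h.1, h.2.1, h.2.2.1, fun a ha ha1 => (h.2.2.2 a ha ha1).trans (piSub_le π a)⟩

/-- A counterexample all of whose proper subfunctors and local functors are complete. -/
structure Minimal (p : ℕ) (A : Subgroup G) (θ : G → Subgroup G) : Prop extends Setting p A θ where
  proper : ∀ θ' : G → Subgroup G, Setting p A θ' → (∀ a ∈ A, a ≠ 1 → θ' a ≤ θ a) →
    (∃ a ∈ A, a ≠ 1 ∧ θ' a ≠ θ a) → Complete p A θ'
  localW : ∀ N, Mem p A θ N → N ≠ ⊥ →
    ∃ W, Mem p A θ W ∧ ∀ a ∈ A, a ≠ 1 → θ a ⊓ normalizer (N : Set G) ≤ W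
  not_complete : ¬ Complete p A θ

namespace Minimal

variable (H : Minimal p A θ)
include H

/-- Members normalising a nontrivial member lie in one maximal member. -/
theorem exists_overgroup {N : Subgroup G} (hN : Mem p A θ N) (hne : N ≠ ⊥) :
    ∃ M, IsMax p A θ M ∧ ∀ U, Mem p A θ U → U ≤ normalizer (N : Set G) → U ≤ M := by
  obtain ⟨W, hW, hWle⟩ := H.localW N hN hne
  obtain ⟨M, hM, hWM⟩ := H.toSetting.exists_isMax hW
  refine ⟨M, hM, fun U hU hUN => (H.toSetting.le_of_points hU fun a ha ha1 => ?_).trans hWM⟩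
  exact (le_inf (hU.2.2.2 a ha ha1) (inf_le_left.trans hUN)).trans (hWle a ha ha1)

/-- Members normalising a nontrivial member normalised by a maximal member lie in it. -/
theorem le_of_isMax {M N U : Subgroup G} (hM : IsMax p A θ M) (hN : Mem p A θ N) (hne : N ≠ ⊥)
    (hMN : M ≤ normalizer (N : Set G)) (hU : Mem p A θ U) (hUN : U ≤ normalizer (N : Set G)) :
    U ≤ M := by
  obtain ⟨M', hM', h⟩ := H.exists_overgroup hN hne
  exact (hM.2 M' hM'.1 (h M hM.1 hMN)) ▸ h U hU hUN

theorem exists_normalized_bot {N : Subgroup G} (hN : Mem p A θ N)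
    (h : ∀ L, Line p A L → Cfsg.signalizerInf L θ ≤ normalizer (N : Set G)) : N = ⊥ := by
  by_contra hne
  obtain ⟨M, hM, hle⟩ := H.exists_overgroup hN hne
  exact H.not_complete ⟨M, hM.1, fun a ha ha1 => H.toSetting.theta_le_of_lines ha ha1 fun L hL _ =>
    hle _ (H.toSetting.mem_lineTheta hL) (h L hL)⟩

/-- The largest `C`-invariant `π`-member. -/
theorem exists_piMember (π : Set ℕ) {q : ℕ} (hq : q.Prime) (hqπ : q ∉ π) (hdiv : Divides A θ q) :
    ∃ K, Mem p A θ K ∧ Cfsg.signalizerInf A θ ≤ normalizer (K : Set G) ∧ PiGroup π K ∧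
      ∀ U, Mem p A θ U → Cfsg.signalizerInf A θ ≤ normalizer (U : Set G) → PiGroup π U → U ≤ K := by
  have S := H.toSetting
  have S' := S.piSetting π
  obtain ⟨W, hW, hWle⟩ := H.proper _ S' (fun a _ _ => piSub_le π a) (by
    obtain ⟨a, ha, ha1, hd⟩ := hdiv
    exact ⟨a, ha, ha1, fun he => hqπ (S.piGroup_piSub π ha ha1 q hq (he.symm ▸ hd))⟩)
  set K := ⨆ a : {a : G // a ∈ A ∧ a ≠ 1}, piSub π A θ (a : G) with hK
  have hKW : K = W := le_antisymm (iSup_le fun a => hWle a a.2.1 a.2.2)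
    (S'.le_of_points hW fun a ha ha1 => (hW.2.2.2 a ha ha1).trans
      (le_iSup (fun b : {a : G // a ∈ A ∧ a ≠ 1} => piSub π A θ (b : G)) ⟨a, ha, ha1⟩))
  refine ⟨K, hKW ▸ hW.of_piSub, fun c hc => ?_, fun r hr hd => ?_, fun U hU hUC hUπ => ?_⟩
  · rw [mem_normalizer_iff_map_conj_eq, hK, Subgroup.map_iSup]
    exact iSup_congr fun a => mem_normalizer_iff_map_conj_eq.mp (S.C_le_normalizer_piSub π a hc)
  · by_contra hrπ
    rw [hKW] at hd
    haveI := Fact.mk hr
    obtain ⟨R, hR, hAR⟩ := Coprime.exists_invariant_hall {r} (member_le_normalizer hW)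
      (coprime_card S.elem hW.2.1) hW.1
    have hRb : R = ⊥ := by
      refine le_bot_iff.mp (S'.le_of_points (member_of_le hW hR.1 hAR) fun a ha ha1 => ?_)
      refine le_of_eq (Subgroup.eq_bot_of_card_eq _ ?_)
      by_contra hne
      obtain ⟨s, hs, hsd⟩ := Nat.exists_prime_and_dvd hne
      have h1 := hR.2.1 s hs (hsd.trans (card_dvd_of_le inf_le_left))
      have h2 := S.piGroup_piSub π ha ha1 s hs (hsd.trans (card_dvd_of_le
        ((inf_le_inf_right _ hR.1).trans (hW.2.2.2 a ha ha1))))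
      exact hrπ (h1 ▸ h2)
    have := hR.2.2 r hr rfl
    rw [hRb, relIndex_bot_left] at this
    exact this hd
  · refine S.le_of_points hU fun a ha ha1 => le_trans ?_
      (le_iSup (fun b : {a : G // a ∈ A ∧ a ≠ 1} => piSub π A θ (b : G)) ⟨a, ha, ha1⟩)
    exact le_piSub (hU.2.2.2 a ha ha1) (le_normalizer_inf_centralizer_singleton S.elem
      (member_le_normalizer hU) ha) ((le_inf hUC ((S.C_le_centralizer_singleton ha).trans
        Subgroup.le_normalizer)).trans inf_normalizer_le_normalizer_inf) (hUπ.of_le inf_le_left)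

end Minimal

end CfsgLib.Components.SFT
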