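import Cfsg.Agent.Lib.Components.SFT.Bender

/-!
Theorem U: a maximal member with a nontrivial odd core has no central involutory fixed points.
-/

set_option autoImplicit false
set_option linter.style.haveILetI false
set_option linter.unusedSectionVars false
set_option maxHeartbeats 400000

namespace CfsgLib.Components.SFT

open Subgroup CfsgLib.Solvable CfsgLib.Components.Signalizer CfsgLib.Components.Bender
open scoped commutatorElement

variable {G : Type*} [Group G] [Finite G]

/-- An element of order prime to `t` lies in a normal subgroup of `t`-power index. -/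
theorem mem_of_relIndex_pow {t k : ℕ} (ht : t.Prime) {M₀ N₀ : Subgroup G} (hle : N₀ ≤ M₀)
    (hn : M₀ ≤ normalizer (N₀ : Set G)) (hidx : N₀.relIndex M₀ = t ^ k) {x : G} (hx : x ∈ M₀)
    (hord : ¬ t ∣ orderOf x) : x ∈ N₀ := by
  haveI : (N₀.subgroupOf M₀).Normal := (normal_subgroupOf_iff_le_normalizer hle).2 hn
  have h1 : x ^ t ^ k ∈ N₀ := by
    have h := (N₀.subgroupOf M₀).pow_index_mem ⟨x, hx⟩
    rw [show (N₀.subgroupOf M₀).index = t ^ k from hidx] at h
    exact h
  obtain ⟨m, hm⟩ := exists_pow_eq_self_of_coprime (x := x)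
    ((ht.coprime_iff_not_dvd.2 hord).pow_left k)
  rw [← hm]
  exact pow_mem h1 m

/-- An element of a solvable `U` centralising all its cores lies in `F(U)`. -/
theorem mem_fitIn_of_solvable {U : Subgroup G} (hU : Group.IsSolvable U) {x : G} (hxU : x ∈ U)
    (h : ∀ s : ℕ, s.Prime → x ∈ centralizer (coreIn s U : Set G)) : x ∈ fitIn U := by
  haveI := hU
  refine ⟨⟨x, hxU⟩, Cores.centralizer_fittingSubgroup_le ?_, rfl⟩
  have hle : Cfsg.fittingSubgroup ↥U ≤ centralizer {(⟨x, hxU⟩ : U)} := by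
    rw [Cores.fittingSubgroup_eq_iSup_pCore]
    refine iSup_le fun s y hy => mem_centralizer_singleton_iff.2 (Subtype.ext ?_)
    exact mem_centralizer_iff.1 (h s s.2) y ⟨y, hy, rfl⟩
  exact mem_centralizer_iff.2 fun y hy => mem_centralizer_singleton_iff.1 (hle hy)

variable {p : ℕ} [hp : Fact p.Prime] {A : Subgroup G} {θ : G → Subgroup G}

theorem exists_fixed_line_ne_bot (S : Setting p A θ) {U : Subgroup G} (hU : Mem p A θ U)
    (hne : U ≠ ⊥) : ∃ B, Line p A B ∧ U ⊓ centralizer (B : Set G) ≠ ⊥ := by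
  by_contra hno
  push Not at hno
  exact hne (le_bot_iff.mp (S.le_of_lines hU fun B hB => (hno B hB).le))

theorem divides_of_dvd (S : Setting p A θ) {t : ℕ} [ht : Fact t.Prime] {U : Subgroup G}
    (hU : Mem p A θ U) (hne : U ≠ ⊥) (hUt : IsPGroup t U) : Divides A θ t := by
  obtain ⟨B, hB, hBne⟩ := exists_fixed_line_ne_bot S hU hne
  obtain ⟨a, haB, ha1⟩ := B.bot_or_exists_ne_one.resolve_left (S.line_ne_bot hB)
  refine ⟨a, hB.1 haB, ha1, ?_⟩
  obtain ⟨k, hk⟩ := IsPGroup.iff_card.mp (hUt.to_le (inf_le_left : U ⊓ centralizer (B : Set G) ≤ U))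
  rcases Nat.eq_zero_or_pos k with rfl | hk0
  · exact absurd (card_eq_one.mp (by simpa using hk)) hBne
  · exact ((dvd_pow_self t hk0.ne').trans (hk ▸ dvd_rfl)).trans (card_dvd_of_le
      ((S.inf_centralizer_le_lineTheta hU hB).trans (S.lineTheta_le haB ha1)))

theorem C_inf_le_centralizer_line {B : Subgroup G} (S : Setting p A θ) (hB : Line p A B) :
    Cfsg.signalizerInf A θ ≤ centralizer (B : Set G) :=
  S.C_le_centralizer.trans (centralizer_le hB.1)

namespace Minimal

variable (H : Minimal p A θ)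
include H

/-- An element of `C ⊓ O_2(M)` has `t'`-commutators with all line centralisers. -/
theorem not_dvd_commutator_line {t : ℕ} [ht : Fact t.Prime] (ht2 : t ≠ 2) {M : Subgroup G}
    (hM : IsMax p A θ M) (hne : coreIn t M ≠ ⊥) {u : G}
    (hu : u ∈ Cfsg.signalizerInf A θ ⊓ coreIn 2 M) {B : Subgroup G} (hB : Line p A B) {x : G}
    (hx : x ∈ Cfsg.signalizerInf B θ) : ¬ t ∣ orderOf ⁅u, x⁆ := by
  haveI : Fact (Nat.Prime 2) := ⟨Nat.prime_two⟩
  have S := H.toSetting
  obtain ⟨B₀, hB₀, hB₀ne⟩ := exists_fixed_line_ne_bot S (S.coreIn_mem hM.1) hne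
  obtain ⟨v, hv, hv1, hvB₀, hvB⟩ := S.exists_mem_inter hB₀ hB
  have hne' : coreIn t M ⊓ centralizer {v} ≠ ⊥ := fun h0 => hB₀ne (le_bot_iff.mp
    ((inf_le_inf_left _ (centralizer_le (Set.singleton_subset_iff.2 hvB₀))).trans h0.le))
  have huc : u ∈ primeCoreIn t (θ v) := H.bender ht2 hM hv hv1 hne'
    ⟨hu.2, S.C_le_centralizer_singleton hv hu.1⟩
  have hxv : x ∈ θ v := S.lineTheta_le hvB hv1 hx
  have h := (commutator_mem_of_mem_normalizer
    (le_normalizer_primeCoreIn (t := t) (Subgroup.le_normalizer hxv)) huc).2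
  exact fun hd => not_dvd_card_primeCoreIn ht.out _ (hd.trans (Subgroup.orderOf_dvd_natCard _ h))

/-- An element with `t'`-commutators with all line centralisers centralises `t`-sections. -/
theorem mem_trivMod_of_lines {t : ℕ} [ht : Fact t.Prime] {u : G}
    (hu : ∀ B, Line p A B → ∀ x ∈ Cfsg.signalizerInf B θ, ¬ t ∣ orderOf ⁅u, x⁆)
    {M₀ N₀ : Subgroup G} (hM₀ : Mem p A θ M₀) (hle : N₀ ≤ M₀) (hn : M₀ ≤ normalizer (N₀ : Set G))
    {k : ℕ} (hidx : N₀.relIndex M₀ = t ^ k) (huM : u ∈ normalizer (M₀ : Set G))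
    (huN : u ∈ normalizer (N₀ : Set G)) : u ∈ trivMod M₀ N₀ := by
  let T : Subgroup G :=
    { carrier := {m | m ∈ M₀ ∧ ⁅u, m⁆ ∈ N₀}
      one_mem' := ⟨one_mem _, by simp [one_mem]⟩
      mul_mem' := fun {a b} ha hb => ⟨mul_mem ha.1 hb.1, by
        rw [show ⁅u, a * b⁆ = ⁅u, a⁆ * (a * ⁅u, b⁆ * a⁻¹) by
          simp only [commutatorElement_def]; group]
        exact mul_mem ha.2 (conj_mem_of_mem_normalizer (hn ha.1) hb.2)⟩
      inv_mem' := fun {a} ha => ⟨inv_mem ha.1, by
        rw [show ⁅u, a⁻¹⁆ = a⁻¹ * ⁅u, a⁆⁻¹ * a by simp only [commutatorElement_def]; group]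
        exact conj_inv_mem_of_mem_normalizer (hn ha.1) (inv_mem ha.2)⟩ }
  refine ⟨huM, huN, fun m hm => ?_⟩
  have hle' : M₀ ≤ T := H.toSetting.le_of_lines hM₀ fun B hB x hx => ⟨hx.1,
    mem_of_relIndex_pow ht.out hle hn hidx (commutator_mem_of_mem_normalizer huM hx.1).1
      (hu B hB x (H.toSetting.inf_centralizer_le_lineTheta hM₀ hB hx))⟩
  exact (hle' hm).2

/-- Theorem U. -/
theorem theoremU {M : Subgroup G} (hM : IsMax p A θ M) (hCM : Cfsg.signalizerInf A θ ≤ M) {t : ℕ}
    [ht : Fact t.Prime] (ht2 : t ≠ 2) (hne : coreIn t M ≠ ⊥)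
    (hY : ∀ r : ℕ, r.Prime → r ≠ 2 → Yq p r A θ ≠ ⊥ → coreIn r M ≠ ⊥) :
    Cfsg.signalizerInf A θ ⊓ coreIn 2 M = ⊥ := by
  haveI : Fact (Nat.Prime 2) := ⟨Nat.prime_two⟩
  have S := H.toSetting
  refine le_bot_iff.mp fun u hu => ?_
  have huC := hu.1
  have hut := fun B (hB : Line p A B) x hx => H.not_dvd_commutator_line ht2 hM hne hu hB (x := x) hx
  obtain ⟨L, hL, hLC, hLπ, hLmax⟩ := H.exists_piMember {q | q ≠ t} ht.out (fun h => h rfl)
    (divides_of_dvd S (S.coreIn_mem hM.1) hne (isPGroup_coreIn t M))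
  have huL : u ∈ L := hLmax _ (S.coreIn_mem hM.1) (hCM.trans (le_normalizer_coreIn 2 M))
    (piGroup_of_isPGroup (show (2 : ℕ) ∈ {q | q ≠ t} from fun h => ht2 h.symm) (isPGroup_coreIn 2 M))
    hu.2
  have huA : u ∈ centralizer (A : Set G) := S.C_le_centralizer huC
  -- the `RS`-parts of point centralisers away from `t`
  have hRSL : ∀ {v : G}, v ∈ A → v ≠ 1 → ∀ r s : ℕ, r.Prime → s.Prime → r ≠ t → s ≠ t →
      RS r s (θ v) ≤ L := fun {v} hv hv1 r s hr hs hrt hst => by
    haveI := Fact.mk hr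
    haveI := Fact.mk hs
    refine hLmax _ (member_of_le (S.mem_theta hv hv1) (RS_le r s _) fun a ha =>
      le_normalizer_RS (member_le_normalizer (S.mem_theta hv hv1) ha))
      ((S.C_le_theta hv hv1).trans (le_normalizer_RS' r s _)) fun q hq hd => ?_
    rcases piGroup_RS r s (θ v) q hq hd with rfl | rfl
    · exact hrt
    · exact hst
  have hut' : ∀ {v : G}, v ∈ A → v ≠ 1 → ∀ (r : ℕ) [Fact r.Prime],
      u ∈ trivMod (RS r t (θ v)) (coreIn r (θ v)) := fun {v} hv hv1 r _ => by
    obtain ⟨k, hk⟩ := exists_relIndex_RS r t (θ v)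
    have huv := S.C_le_theta hv hv1 huC
    exact H.mem_trivMod_of_lines hut
      (member_of_le (S.mem_theta hv hv1) (RS_le r t _) fun a ha =>
        le_normalizer_RS (member_le_normalizer (S.mem_theta hv hv1) ha))
      (coreIn_le_RS r t _) ((RS_le r t _).trans (le_normalizer_coreIn r _)) hk
      (le_normalizer_RS' r t _ huv) (le_normalizer_coreIn r _ huv)
  -- `u` centralises every core of `L`
  have hcores : ∀ r : ℕ, r.Prime → u ∈ centralizer (coreIn r L : Set G) := by
    intro r hr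
    haveI := Fact.mk hr
    have hJ : Mem p A θ (coreIn r L) := S.coreIn_mem hL
    have huJ : u ∈ normalizer (coreIn r L : Set G) := le_normalizer_coreIn r L huL
    by_cases hrt : r = t
    · subst hrt
      have hb : coreIn r L = ⊥ := by
        obtain ⟨k, hk⟩ := (isPGroup_coreIn r L).exists_card_eq
        rcases Nat.eq_zero_or_pos k with rfl | hk0
        · exact card_eq_one.mp (by simpa using hk)
        · exact absurd rfl (hLπ r hr ((hk ▸ dvd_pow_self r hk0.ne').trans
            (card_dvd_of_le (coreIn_le r L))))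
      rw [hb]
      exact mem_centralizer_iff.2 fun y hy => by simp [(mem_bot (G := G)).1 hy]
    by_cases hYr : Yq p r A θ = ⊥
    · refine mem_centralizer_of_le_centralizer_singleton (S.le_of_lines hJ fun B hB => ?_)
      set X₀ := coreIn r L ⊓ centralizer (B : Set G) with hX₀def
      have hX₀ : Mem p A θ X₀ := member_of_le hJ inf_le_left
        (le_normalizer_inf_centralizer S.elem (member_le_normalizer hJ) hB.1)
      have huX : u ∈ normalizer (X₀ : Set G) := inf_normalizer_le_normalizer_inf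
        ⟨huJ, ((centralizer_le hB.1).trans Subgroup.le_normalizer) huA⟩
      refine S.le_centralizer_of_commutator_eq_bot (le_bot_iff.mp ?_)
      rw [← hYr]
      have hXle : ⁅X₀, zpowers u⁆ ≤ X₀ :=
        le_normalizer_iff_commutator_le_left.1 (zpowers_le.2 huX)
      refine le_iInf fun L' => ?_
      obtain ⟨v, hv, hv1, hvB, hvL⟩ := S.exists_mem_inter hB L'.2
      have hX₀v : X₀ ≤ θ v :=
        (S.inf_centralizer_le_lineTheta hJ hB).trans (S.lineTheta_le hvB hv1)
      refine le_trans (le_coreIn_of_parts (r := r) (S.mem_theta hv hv1).1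
        ((isPGroup_coreIn r L).to_le (hXle.trans inf_le_left)) (hXle.trans hX₀v)
        fun s hs hsr x hx m hm => ?_)
        (le_Tinv (S.coreIn_mem (S.mem_theta hv hv1)) (isPGroup_coreIn r _)
          ((S.lineTheta_le hvL hv1).trans (le_normalizer_coreIn r _)))
      haveI := Fact.mk hs
      by_cases hst : s = t
      · subst hst
        exact (commutator_le_trivMod (hut' hv hv1 r) (hX₀v.trans (le_normalizer_RS' r s _))
          (hX₀v.trans (le_normalizer_coreIn r _)) hx).2.2 m hm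
      · have hmRQ : m ∈ RQ r (θ v) := RS_le_RQ r _ hm
        refine mem_coreIn_of_RQ (isPGroup_coreIn r L) ?_ ?_
        · exact (commutator_mem_of_mem_normalizer
            (le_normalizer_coreIn r L (hRSL hv hv1 r s hr hs hrt hst hm)) (hXle hx).1).2
        · exact (commutator_mem_of_mem_normalizer
            (le_normalizer_RQ' r _ (hX₀v (hXle hx))) hmRQ).1
    · have hr2 : r ≠ 2 := by
        rintro rfl
        exact hYr H.Y_two_eq_bot
      obtain ⟨k, hk⟩ := (isPGroup_coreIn r L).exists_card_eq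
      exact trivMod_bot_le _ (H.mem_trivMod_of_lines (t := r)
        (fun B hB x hx => H.not_dvd_commutator_line hr2 hM (hY r hr hr2 hYr) hu hB hx) hJ bot_le
        (fun _ _ => mem_normalizer_iff.2 fun h => by simp) (k := k)
        (by rw [relIndex_bot_left, hk]) huJ (mem_normalizer_iff.2 fun h => by simp))
  have hu2 : IsPGroup 2 (zpowers u) := (isPGroup_coreIn 2 M).to_le (zpowers_le.2 hu.2)
  have huL2 : u ∈ coreIn 2 L := mem_coreIn (mem_fitIn_of_solvable hL.1 huL hcores) hu2
  -- `u ∈ Y 2 = ⊥`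
  have huY : zpowers u ≤ Yq p 2 A θ := by
    refine le_iInf fun L' => ?_
    obtain ⟨v, hvL, hv1⟩ := (L' : Subgroup G).bot_or_exists_ne_one.resolve_left (S.line_ne_bot L'.2)
    have hv : v ∈ A := L'.2.1 hvL
    have huv := S.C_le_theta hv hv1 huC
    refine le_trans (le_coreIn_of_parts (r := 2) (S.mem_theta hv hv1).1 hu2 (zpowers_le.2 huv)
      fun s hs hs2 x hx m hm => ?_)
      (le_Tinv (S.coreIn_mem (S.mem_theta hv hv1)) (isPGroup_coreIn 2 _)
        ((S.lineTheta_le hvL hv1).trans (le_normalizer_coreIn 2 _)))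
    haveI := Fact.mk hs
    by_cases hst : s = t
    · subst hst
      exact zpowers_triv (hut' hv hv1 2) x hx m hm
    · refine mem_coreIn_of_RQ (isPGroup_coreIn 2 L) ?_ ?_
      · exact (commutator_mem_of_mem_normalizer (le_normalizer_coreIn 2 L
          (hRSL hv hv1 2 s Nat.prime_two hs (fun h => ht2 h.symm) hst hm))
          ((zpowers_le.2 huL2) hx)).2
      · exact (commutator_mem_of_mem_normalizer
          (le_normalizer_RQ' 2 _ ((zpowers_le.2 huv) hx)) (RS_le_RQ 2 _ hm)).1
  have := huY (mem_zpowers u)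
  rw [H.Y_two_eq_bot] at this
  exact this

end Minimal

end CfsgLib.Components.SFT
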