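import Cfsg.Agent.Lib.Components.SFT.Setting

/-!
Generation by fixed points, and the largest `K`-invariant `q`-`θ`-subgroup.
-/

set_option autoImplicit false
set_option linter.style.haveILetI false
set_option linter.unusedSectionVars false

namespace CfsgLib.Components.SFT

open Subgroup CfsgLib.Components.Signalizer CfsgLib.Components.Bender
open scoped commutatorElement

variable {G : Type*} [Group G] [Finite G]
variable {p : ℕ} [hp : Fact p.Prime] {A : Subgroup G} {θ : G → Subgroup G}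

namespace Setting

variable (S : Setting p A θ)
include S

theorem isSignalizer : Cfsg.IsSignalizerFunctor p A θ := S.funct.1

theorem theta_le_centralizer {a : G} (ha : a ∈ A) (ha1 : a ≠ 1) : θ a ≤ centralizer {a} :=
  S.funct.1.1 a ha ha1

theorem theta_le_of_mem_zpowers {a b : G} (ha : a ∈ A) (ha1 : a ≠ 1) (hb : b ∈ zpowers a)
    (hb1 : b ≠ 1) : θ a ≤ θ b := by
  refine le_trans (le_inf le_rfl ?_) (S.funct.1.2.2.2 a ha ha1 b (zpowers_le.mpr ha hb) hb1)
  intro x hx
  obtain ⟨n, rfl⟩ := mem_zpowers_iff.mp hb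
  exact mem_centralizer_singleton_iff.mpr
    ((show Commute x a from mem_centralizer_singleton_iff.mp (S.theta_le_centralizer ha ha1 hx)).zpow_right n)

theorem mem_theta {a : G} (ha : a ∈ A) (ha1 : a ≠ 1) : Mem p A θ (θ a) :=
  theta_member S.funct ha ha1

theorem mem_lineTheta {L : Subgroup G} (hL : Line p A L) : Mem p A θ (Cfsg.signalizerInf L θ) :=
  signalizerInf_member S.funct hL.1 (S.line_ne_bot hL)

theorem mem_C : Mem p A θ (Cfsg.signalizerInf A θ) :=
  signalizerInf_member S.funct le_rfl (exists_ne_one_of_card S.card_ge (by norm_num))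

/-- A member is generated by the fixed points of lines. -/
theorem le_iSup_lines {U : Subgroup G} (hU : Mem p A θ U) :
    U ≤ ⨆ L : {L : Subgroup G // Line p A L}, U ⊓ centralizer ((L : Subgroup G) : Set G) := by
  refine (le_iSup_centralizer_relIndex S.elem le_rfl
    (exists_ne_one_of_card S.card_ge (by norm_num)) hU.2.1 (member_le_normalizer hU)).trans
    (iSup_le fun D => ?_)
  exact le_iSup (fun L : {L : Subgroup G // Line p A L} =>
    U ⊓ centralizer ((L : Subgroup G) : Set G)) ⟨D, S.isLine_of_relIndex D.2.1 D.2.2⟩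

theorem exists_point {L D : Subgroup G} (hL : Line p A L) (hD : D ≤ L) (hDi : D.relIndex L = p) :
    ∃ x ∈ D, x ≠ 1 ∧ D = zpowers x := by
  have hDc : Nat.card D = p := by
    have h1 := Coprime.card_mul_relIndex' hD
    rw [hDi, hL.2, pow_two] at h1
    exact Nat.eq_of_mul_eq_mul_right hp.out.pos h1
  obtain ⟨x, hxD, hx1⟩ := D.bot_or_exists_ne_one.resolve_left (fun e => by
    rw [e, Subgroup.card_bot] at hDc; exact hp.out.ne_one hDc.symm)
  refine ⟨x, hxD, hx1, (eq_of_le_of_card_ge (zpowers_le.mpr hxD) ?_).symm⟩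
  rw [hDc, Nat.card_zpowers, S.orderOf_eq (hL.1 (hD hxD)) hx1]

/-- A member is generated by the fixed points of the points of a line. -/
theorem le_iSup_points {U L : Subgroup G} (hU : Mem p A θ U) (hL : Line p A L) :
    U ≤ ⨆ x : {x : G // x ∈ L ∧ x ≠ 1}, U ⊓ centralizer {(x : G)} := by
  refine (le_iSup_centralizer_relIndex S.elem hL.1 (S.line_ne_bot hL) hU.2.1
    (member_le_normalizer hU)).trans (iSup_le fun D => ?_)
  obtain ⟨x, hxD, hx1, -⟩ := S.exists_point hL D.2.1 D.2.2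
  refine le_trans ?_ (le_iSup (fun x : {x : G // x ∈ L ∧ x ≠ 1} => U ⊓ centralizer {(x : G)})
    ⟨x, D.2.1 hxD, hx1⟩)
  exact inf_le_inf_left _ (centralizer_le (Set.singleton_subset_iff.2 hxD))

/-- Inside `C(v)` a member is generated by the fixed points of the lines through `v`. -/
theorem le_iSup_lines_through {U : Subgroup G} (hU : Mem p A θ U) {v : G} (hv : v ∈ A)
    (hv1 : v ≠ 1) (hUv : U ≤ centralizer {v}) :
    U ≤ ⨆ L : {L : Subgroup G // Line p A L ∧ v ∈ L},
      U ⊓ centralizer ((L : Subgroup G) : Set G) := by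
  obtain ⟨M, hM, hvM⟩ := S.exists_line_not_mem hv hv1
  refine (le_iSup_centralizer_relIndex S.elem hM.1 (S.line_ne_bot hM) hU.2.1
    (member_le_normalizer hU)).trans (iSup_le fun D => ?_)
  obtain ⟨x, hxD, hx1, hDx⟩ := S.exists_point hM D.2.1 D.2.2
  have hxA : x ∈ A := hM.1 (D.2.1 hxD)
  have hvx : v ∉ zpowers x := fun h => hvM (zpowers_le.mpr (D.2.1 hxD) h)
  refine le_trans ?_ (le_iSup (fun L : {L : Subgroup G // Line p A L ∧ v ∈ L} =>
    U ⊓ centralizer ((L : Subgroup G) : Set G))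
    ⟨_, S.isLine_span hxA hv hx1 hvx, mem_sup_right (mem_zpowers v)⟩)
  refine le_inf inf_le_left (le_centralizer_iff.mpr (sup_le ?_ ?_))
  · rw [hDx]; exact le_centralizer_iff.mpr inf_le_right
  · exact zpowers_le.mpr (mem_centralizer_iff.mpr fun u hu =>
      mem_centralizer_singleton_iff.mp (hUv hu.1))

theorem inf_centralizer_le_lineTheta {U L : Subgroup G} (hU : Mem p A θ U) (hL : Line p A L) :
    U ⊓ centralizer (L : Set G) ≤ Cfsg.signalizerInf L θ :=
  member_inf_centralizer_le hU hL.1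

end Setting

/-- The join of the `K`-invariant `q`-`θ`-subgroups. -/
def Tinv (p q : ℕ) (A : Subgroup G) (θ : G → Subgroup G) (K : Subgroup G) : Subgroup G :=
  sSup {P | Mem p A θ P ∧ IsPGroup q P ∧ K ≤ normalizer (P : Set G)}

theorem le_Tinv {q : ℕ} {K P : Subgroup G} (hP : Mem p A θ P) (hPq : IsPGroup q P)
    (hK : K ≤ normalizer (P : Set G)) : P ≤ Tinv p q A θ K :=
  le_sSup ⟨hP, hPq, hK⟩

theorem le_normalizer_sSup {S : Set (Subgroup G)} {g : G}
    (h : ∀ P ∈ S, g ∈ normalizer (P : Set G)) : g ∈ normalizer ((sSup S : Subgroup G) : Set G) := by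
  rw [mem_normalizer_iff_map_conj_eq, sSup_eq_iSup', Subgroup.map_iSup]
  exact iSup_congr fun P => mem_normalizer_iff_map_conj_eq.mp (h P P.2)

theorem le_normalizer_Tinv (q : ℕ) (K : Subgroup G) :
    K ≤ normalizer (Tinv p q A θ K : Set G) :=
  fun _ hg => le_normalizer_sSup fun _ hP => hP.2.2 hg

namespace Setting

variable (S : Setting p A θ)
include S

theorem mem_bot' : Mem p A θ (⊥ : Subgroup G) :=
  member_of_le S.mem_C bot_le fun x _ => mem_normalizer_iff.mpr fun h => by simp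

/-- A `C`-invariant `q`-`θ`-subgroup lies in every maximal `q`-`θ`-subgroup. -/
theorem le_of_maximal {q : ℕ} [Fact q.Prime] {P Q : Subgroup G} (hP : Mem p A θ P)
    (hPq : IsPGroup q P) (hC : Cfsg.signalizerInf A θ ≤ normalizer (P : Set G))
    (hQ : Mem p A θ Q) (hQq : IsPGroup q Q)
    (hQmax : ∀ R ∈ Cfsg.signalizerFamily p A θ, IsPGroup q R → Q ≤ R → R = Q) : P ≤ Q := by
  obtain ⟨M, hPM, hM, hMq, hMmax⟩ := exists_maximal_member hP hPq
  obtain ⟨c, hc, e⟩ := exists_conj_maximal S.elem S.card_ge S.funct hM hMq hMmax hQ hQq hQmax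
  rw [← e, ← mem_normalizer_iff_map_conj_eq.mp (hC hc)]
  exact Subgroup.map_mono hPM

theorem Tinv_le_maximal {q : ℕ} [Fact q.Prime] {K Q : Subgroup G}
    (hK : Cfsg.signalizerInf A θ ≤ K) (hQ : Mem p A θ Q) (hQq : IsPGroup q Q)
    (hQmax : ∀ R ∈ Cfsg.signalizerFamily p A θ, IsPGroup q R → Q ≤ R → R = Q) :
    Tinv p q A θ K ≤ Q :=
  sSup_le fun _ hP => S.le_of_maximal hP.1 hP.2.1 (hK.trans hP.2.2) hQ hQq hQmax

theorem exists_maximal (q : ℕ) [Fact q.Prime] : ∃ Q, Mem p A θ Q ∧ IsPGroup q Q ∧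
    ∀ R ∈ Cfsg.signalizerFamily p A θ, IsPGroup q R → Q ≤ R → R = Q := by
  obtain ⟨Q, -, h⟩ := exists_maximal_member (q := q) S.mem_bot' IsPGroup.of_bot
  exact ⟨Q, h⟩

theorem isPGroup_Tinv {q : ℕ} [Fact q.Prime] {K : Subgroup G}
    (hK : Cfsg.signalizerInf A θ ≤ K) : IsPGroup q ↥(Tinv p q A θ K) := by
  obtain ⟨Q, hQ, hQq, hQmax⟩ := S.exists_maximal q
  exact hQq.to_le (S.Tinv_le_maximal hK hQ hQq hQmax)

theorem mem_Tinv {q : ℕ} [Fact q.Prime] {K : Subgroup G} (hK : Cfsg.signalizerInf A θ ≤ K) :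
    Mem p A θ (Tinv p q A θ K) := by
  obtain ⟨Q, hQ, hQq, hQmax⟩ := S.exists_maximal q
  exact member_of_le hQ (S.Tinv_le_maximal hK hQ hQq hQmax)
    fun _ ha => le_normalizer_sSup fun P hP => member_le_normalizer hP.1 ha

end Setting

end CfsgLib.Components.SFT
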