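import Cfsg.Agent.Lib.Components.SFT.HallHigman
import Cfsg.Agent.Lib.Components.SFT.Block
import Cfsg.Agent.Lib.OddOrder.NarrowAction

/-!
A `2`-group `R` and an odd group `P = [P, s]` normalising it, `s` of prime order, on a coprime module:
if `R` centralises the fixed points of `s` then `R` and `P` commute there.
-/

set_option autoImplicit false
set_option linter.style.haveILetI false

universe u v w

namespace CfsgLib.Components.SFT

open Subgroup CfsgLib.Solvable.FPFOperators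
open scoped commutatorElement TensorProduct

/-- Scalar extension, keeping the dimension. -/
theorem exists_baseChange {Γ : Type u} [Group Γ] {t : ℕ} [Fact t.Prime] {U : Type w} [CommGroup U]
    [Finite U] (hU : ∀ v : U, v ^ t = 1) (φ : Γ →* MulAut U) :
    ∃ (d : ℕ) (ρ : Γ →* Module.End (AlgebraicClosure (ZMod t)) (Fin d → AlgebraicClosure (ZMod t))),
      (∀ g, ρ g = 1 ↔ ∀ v, φ g v = v) ∧ Nat.card U = t ^ d := by
  classical
  obtain ⟨mod, ρ₀, hρ₀⟩ := exists_linear hU φ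
  letI := mod
  haveI : Module.Finite (ZMod t) (Additive U) := Module.Finite.of_finite
  let L := AlgebraicClosure (ZMod t)
  haveI : CharP L t := charP_of_injective_algebraMap (algebraMap (ZMod t) L).injective t
  let b := Module.finBasis (ZMod t) (Additive U)
  let Φ : Module.End (ZMod t) (Additive U) →+*
      Module.End L (Fin (Module.finrank (ZMod t) (Additive U)) → L) :=
    ((Matrix.toLinAlgEquiv' (R := L)).toRingEquiv.toRingHom.comp
      (ZMod.castHom dvd_rfl L).mapMatrix).comp (LinearMap.toMatrixAlgEquiv b).toRingEquiv.toRingHom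
  have hΦ : Function.Injective Φ := by
    intro x y h
    refine (LinearMap.toMatrixAlgEquiv b).injective ?_
    have h1 := (Matrix.toLinAlgEquiv' (R := L)).injective h
    refine Matrix.ext fun i j => ?_
    exact (ZMod.castHom dvd_rfl L).injective (congrFun (congrFun h1 i) j)
  refine ⟨_, Φ.toMonoidHom.comp ρ₀, fun g => ?_, ?_⟩
  · show Φ (ρ₀ g) = 1 ↔ _
    rw [← map_one Φ, hΦ.eq_iff]
    constructor
    · intro h v
      have h1 := LinearMap.congr_fun h (Additive.ofMul v)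
      rw [hρ₀] at h1
      exact Additive.ofMul.injective h1
    · intro h
      refine LinearMap.ext fun v => ?_
      obtain ⟨v, rfl⟩ := Additive.ofMul.surjective v
      rw [hρ₀, h]; rfl
  · have h := Module.natCard_eq_pow_finrank (K := ZMod t) (V := Additive U)
    rw [Nat.card_zmod] at h
    exact h

theorem two_mul_le_pow : ∀ m : ℕ, 2 * m ≤ 2 ^ m
  | 0 => by norm_num
  | m + 1 => by
    have h := two_mul_le_pow m
    have h2 : 1 ≤ 2 ^ m := Nat.one_le_two_pow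
    rw [pow_succ]
    rcases Nat.eq_zero_or_pos m with rfl | hm
    · norm_num
    · omega

/-- The action on the layer of the `2`-group cannot exist. -/
theorem two_layer_absurd {Γ : Type u} [Group Γ] [Finite Γ] {U : Type w} [CommGroup U] [Finite U]
    {p r m : ℕ} [hr : Fact r.Prime] (hp : p.Prime) (hr2 : r ≠ 2) (hrp : r ≠ p) (hm : 1 ≤ m)
    (hpm : p - 1 = 2 ^ m) (hU : ∀ v : U, v ^ 2 = 1) (φ : Γ →* MulAut U)
    (hφ : Function.Injective φ) (P : Subgroup Γ) [hPn : P.Normal] (hPr : IsPGroup r P) {s : Γ}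
    (hs : s ^ p = 1) (hPs : P ≤ ⁅P, zpowers s⁆)
    (hprop : ∀ P₀ : Subgroup Γ, P₀ ≤ P → P₀ ≠ P → (∀ x ∈ P₀, s * x * s⁻¹ ∈ P₀) →
      ∀ x ∈ P₀, s * x = x * s)
    (hP0 : ∀ v : U, (∀ g ∈ P, φ g v = v) → v = 1)
    {n : ℕ} (hn : Nat.card U = n ^ 2) (hn1 : n ≠ 1) (C : Subgroup U)
    (hC : ∀ v, v ∈ C ↔ φ s v = v) (hcard : Nat.card U ≤ Nat.card C * 2 ^ (2 * m)) : False := by
  classical
  obtain ⟨u, hu⟩ := IsPGroup.iff_card.mp (show IsPGroup 2 U from fun v => ⟨1, by rw [pow_one]; exact hU v⟩)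
  obtain ⟨c, hc⟩ := IsPGroup.iff_card.mp
    (show IsPGroup 2 C from fun v => ⟨1, Subtype.ext (by simpa using hU (v : U))⟩)
  have hp2 : 2 ≤ 2 ^ m := Nat.le_self_pow (by omega) 2
  have hpeq : p = 2 ^ m + 1 := by omega
  have hp2' : p ≠ 2 := by omega
  have hle : u ≤ c + 2 * m := by
    rw [hu, hc, ← pow_add] at hcard
    exact (Nat.pow_le_pow_iff_right (by norm_num : 1 < 2)).mp hcard
  have hPne : P ≠ ⊥ := by
    intro h
    refine hn1 ?_
    haveI : Subsingleton U := ⟨fun a b => by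
      rw [hP0 a fun g hg => ?_, hP0 b fun g hg => ?_] <;>
      · rw [h, mem_bot] at hg; rw [hg, map_one, MulAut.one_apply]⟩
    have h1 : n ^ 2 = 1 := hn ▸ Nat.card_of_subsingleton (1 : U)
    exact (Nat.pow_eq_one.mp h1).resolve_right two_ne_zero
  have hnotcomm : ¬ ∀ x ∈ P, s * x = x * s := fun h => hPne (eq_bot_of_commute hPs h)
  have hPs' : s ∈ normalizer (P : Set Γ) := by rw [normalizer_eq_top]; trivial
  rcases special_dichotomy P hPr {s} {s} (by
      rintro o rfl k rfl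
      rw [inv_mul_cancel, one_mul]
      exact subset_closure rfl) (by
      rintro k rfl
      exact ((Nat.coprime_primes hp hr.out).2 hrp.symm).coprime_dvd_left
        (orderOf_dvd_of_pow_eq_one hs)) (by
      rintro P₀ h1 h2 hinv k rfl
      exact hprop P₀ h1 h2 (hinv k rfl)) with h | h | ⟨hcD, -, hDc, hZD⟩
  · exact hnotcomm (h s rfl)
  · -- abelian
    have hSt : (Nat.card P).Coprime 2 := by
      obtain ⟨j, hj⟩ := IsPGroup.iff_card.mp hPr
      rw [hj]
      exact ((Nat.coprime_primes hr.out Nat.prime_two).2 hr2).pow_left j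
    have hbound : Nat.card C ^ p ≤ Nat.card U :=
      haveI : Fact (Nat.Prime 2) := ⟨Nat.prime_two⟩
      fixed_card_pow_le (t := 2) hp hU φ hs hSt (fun x hx y hy => by rw [h x hx y hy]) hP0 hPs C
        fun v hv => (hC v).1 hv
    have hc0 : c ≠ 0 := by
      rintro rfl
      rw [pow_zero] at hc
      haveI : Fact (Nat.Prime 2) := ⟨Nat.prime_two⟩
      let K := AlgebraicClosure (ZMod 2)
      haveI : CharP K 2 := charP_of_injective_algebraMap (algebraMap (ZMod 2) K).injective 2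
      obtain ⟨d, ρ, e1, -, e3⟩ := exists_extend_mulAut K hU φ
      have hsum := e3 s p hs fun v hv => by
        have := (Subgroup.card_eq_one.mp hc).le ((hC v).2 hv)
        exact mem_bot.mp this
      refine hnotcomm fun x hx => ?_
      have h1 := commute_of_abelian ρ hp (n := 0) (s := s) (Q := P)
        (by rw [zero_add, pow_one]; exact hs) (by rw [zero_add, pow_one]; exact hsum)
        (natCard_cast_ne_zero hPr fun h0 => hr2 ((Nat.prime_dvd_prime_iff_eq Nat.prime_two hr.out).mp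
          ((CharP.cast_eq_zero_iff K 2 r).mp h0)).symm)
        (fun a ha b hb => by rw [h a ha b hb]) hx
      rw [pow_zero, pow_one] at h1
      have h2 : ρ ((x * s)⁻¹ * (s * x)) = 1 := by
        rw [map_mul, h1, ← map_mul, inv_mul_cancel, map_one]
      have h3 : φ ((x * s)⁻¹ * (s * x)) = 1 := MulEquiv.ext fun v => (e1 _).1 h2 v
      rw [← map_one φ] at h3
      exact (inv_mul_eq_one.mp (hφ h3)).symm
    rw [hc, hu, ← pow_mul] at hbound
    have hb := (Nat.pow_le_pow_iff_right (by norm_num : 1 < 2)).mp hbound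
    have h2m := two_mul_le_pow m
    have hc1 : c = 1 := by
      have : c * 2 ^ m ≤ 2 * m := by
        rw [hpeq, mul_add, mul_one] at hb; omega
      by_contra hne
      have : 2 * 2 ^ m ≤ c * 2 ^ m := Nat.mul_le_mul_right _ (by omega)
      omega
    subst hc1
    have hu' : u = p := by rw [hpeq] at hb ⊢; omega
    obtain ⟨j, -, hj⟩ := (Nat.dvd_prime_pow Nat.prime_two).mp (show n ∣ 2 ^ u from
      hu ▸ hn ▸ Dvd.intro n (sq n).symm)
    rw [hu, hj, ← pow_mul] at hn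
    have := Nat.pow_right_injective le_rfl hn
    rcases hp.eq_two_or_odd with h' | h' <;> omega
  -- nonabelian
  set D := P ⊓ centralizer ({s} : Set Γ) with hD
  have hsD : ∀ x ∈ D, s * x = x * s := fun x hx => (mem_centralizer_singleton_iff.1 hx.2).symm
  -- a conjugate of the fixed points meets them trivially
  obtain ⟨π, hπ, hπD⟩ : ∃ π ∈ P, ⁅π, s⁆ ∉ D := by
    by_contra hno
    push Not at hno
    refine hnotcomm fun x hx => ?_
    have h2 := eq_one_of_commute_commutator (p := p) (g := x) hs (hsD _ (by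
      rw [← commutatorElement_inv]; exact inv_mem (hno x hx))) (by
      obtain ⟨k, hk⟩ := hPr ⟨⁅s, x⁆, by
        rw [commutatorElement_def]; exact mul_mem (hPn.conj_mem x hx s) (inv_mem hx)⟩
      exact (((Nat.coprime_primes hr.out hp).2 hrp).pow_left k).coprime_dvd_left
        (orderOf_dvd_of_pow_eq_one (congrArg Subtype.val hk)))
    exact commutatorElement_eq_one_iff_mul_comm.1 h2
  have hdisj : C ⊓ C.map (φ π).toMonoidHom = ⊥ := by
    rw [eq_bot_iff]
    rintro v ⟨hv, w, hw, rfl⟩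
    rw [mem_bot]
    set v := (φ π).toMonoidHom w with hvdef
    let S₀ : Subgroup Γ := P ⊓ (MulAction.stabilizer (MulAut U) v).comap φ
    have hsv : φ s v = v := (hC v).1 hv
    have hsv' : φ s⁻¹ v = v := by
      conv_lhs => rw [← hsv]
      rw [← MulAut.mul_apply, ← map_mul, inv_mul_cancel, map_one, MulAut.one_apply]
    have hmem : ⁅π, s⁆ ∈ S₀ := by
      refine ⟨by
        rw [commutatorElement_def, mul_assoc π, mul_assoc π]
        exact mul_mem hπ (hPn.conj_mem _ (inv_mem hπ) s), ?_⟩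
      show φ ⁅π, s⁆ v = v
      rw [commutatorElement_def, map_mul, MulAut.mul_apply, hsv', map_mul, map_mul,
        MulAut.mul_apply, MulAut.mul_apply, map_inv]
      show φ π (φ s (((φ π)⁻¹ : MulAut U) (φ π w))) = φ π w
      rw [MulAut.inv_apply_self, (hC w).1 hw]
    by_cases hS : S₀ = P
    · exact hP0 v fun g hg => (hS.ge hg).2
    exfalso
    refine hπD ⟨hmem.1, mem_centralizer_singleton_iff.2 (hprop S₀ inf_le_left hS ?_ _ hmem).symm⟩
    rintro x ⟨hx, hxv⟩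
    refine ⟨hPn.conj_mem x hx s, ?_⟩
    show φ (s * x * s⁻¹) v = v
    rw [map_mul, map_mul, MulAut.mul_apply, MulAut.mul_apply, hsv', show φ x v = v from hxv, hsv]
  have hCC : c + c ≤ u := by
    have hinj : Function.Injective fun z : C × C.map (φ π).toMonoidHom => (z.1 : U) * (z.2 : U) := by
      rintro ⟨a, b⟩ ⟨a', b'⟩ hab
      have h1 : (a' : U)⁻¹ * a = b' * (b : U)⁻¹ := by
        rw [eq_mul_inv_iff_mul_eq, mul_assoc, inv_mul_eq_iff_eq_mul]; exact hab
      have h2 : (a' : U)⁻¹ * a ∈ C ⊓ C.map (φ π).toMonoidHom :=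
        ⟨C.mul_mem (C.inv_mem a'.2) a.2, h1 ▸ (C.map (φ π).toMonoidHom).mul_mem b'.2 ((C.map (φ π).toMonoidHom).inv_mem b.2)⟩
      rw [hdisj, mem_bot] at h2
      rw [h2] at h1
      exact Prod.ext (Subtype.ext (inv_mul_eq_one.mp h2).symm)
        (Subtype.ext (mul_inv_eq_one.mp h1.symm).symm)
    have h1 := Nat.card_le_card_of_injective _ hinj
    rw [Nat.card_prod, card_map_of_injective (φ π).injective, hc, hu, ← pow_add] at h1
    exact (Nat.pow_le_pow_iff_right (by norm_num : 1 < 2)).mp h1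
  -- the dimension of a faithful block
  haveI : Fact (Nat.Prime 2) := ⟨Nat.prime_two⟩
  obtain ⟨d, ρ, e1, hd⟩ := exists_baseChange hU φ
  set K := AlgebraicClosure (ZMod 2) with hK
  haveI : CharP K 2 := charP_of_injective_algebraMap (algebraMap (ZMod 2) K).injective 2
  have hdu : d = u := Nat.pow_right_injective le_rfl (hd.symm.trans hu)
  have hrK : (r : K) ≠ 0 := fun h0 => hr2 ((Nat.prime_dvd_prime_iff_eq Nat.prime_two hr.out).mp
    ((CharP.cast_eq_zero_iff K 2 r).mp h0)).symm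
  set Γ₁ := centralizer (D : Set Γ) with hΓ₁
  have hPΓ : P ≤ Γ₁ := fun y hy => mem_centralizer_iff.2 fun x hx => (hDc x hx y hy).symm
  have hsΓ : s ∈ Γ₁ := mem_centralizer_iff.2 fun x hx => (hsD x hx).symm
  haveI : (P.subgroupOf Γ₁).Normal := hPn.subgroupOf Γ₁
  obtain ⟨k, hk, hk1, hkd⟩ := exists_square_block (ρ.comp Γ₁.subtype) (P.subgroupOf Γ₁)
    (D.subgroupOf Γ₁) (hPr.of_equiv (subgroupOfEquivOfLe hPΓ).symm) hrK
    (fun g _ hg1 => Subtype.ext (hφ (by
      rw [OneMemClass.coe_one, map_one]; exact MulEquiv.ext fun v => (e1 _).1 hg1 v)))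
    (fun x hx => hx.1) (fun a ha b hb => show ⁅(a : Γ), (b : Γ)⁆ ∈ D from hcD _ ha _ hb)
    (fun x hx g => Subtype.ext (mem_centralizer_iff.1 g.2 (x : Γ) hx).symm)
    (O := ({⟨s, hsΓ⟩} : Set Γ₁))
    (fun R₀ h1 h2 hinv x hx => ⟨h1 hx, mem_centralizer_singleton_iff.2 (by
      refine (hprop (R₀.map Γ₁.subtype) (by rintro _ ⟨z, hz, rfl⟩; exact h1 hz) (fun he => h2 ?_) ?_
        (x : Γ) ⟨x, hx, rfl⟩).symm
      · refine Subgroup.map_injective Γ₁.subtype_injective ?_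
        rw [he, map_subgroupOf_eq_of_le hPΓ]
      · rintro _ ⟨z, hz, rfl⟩
        exact ⟨_, hinv _ rfl z hz, rfl⟩)⟩)
    (fun hab => hnotcomm fun x hx => hsD x (hZD x hx fun y hy =>
      (congrArg Subtype.val (hab ⟨x, hPΓ hx⟩ hx ⟨y, hPΓ hy⟩ hy)).symm))
  have hkd' : k ≤ d := by simpa using hkd
  have hidx : D.relIndex P = k ^ 2 := by rw [← hk, Subgroup.relIndex_subgroupOf hPΓ]
  haveI : Fact p.Prime := ⟨hp⟩
  have hmod := CfsgLib.OddOrder.NarrowAction.card_modEq_fixed (q := p) (T := P) hPs' hs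
  have hmul : Nat.card D * k ^ 2 = Nat.card P := by
    rw [← hidx]
    rw [Subgroup.relIndex, ← Nat.card_congr (subgroupOfEquivOfLe (inf_le_left : D ≤ P)).toEquiv]
    exact card_mul_index _
  rw [← hmul] at hmod
  have hcop : (Nat.card D).Coprime p := by
    obtain ⟨j, hj⟩ := IsPGroup.iff_card.mp (hPr.to_le (inf_le_left : D ≤ P))
    rw [hj]
    exact ((Nat.coprime_primes hr.out hp).2 hrp).pow_left j
  have hk2 : k ^ 2 ≡ 1 [MOD p] :=
    Nat.ModEq.cancel_left_of_coprime hcop.symm (hmod.trans (by rw [mul_one]))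
  obtain ⟨j, hj⟩ := IsPGroup.iff_card.mp hPr
  obtain ⟨i, -, hi⟩ := (Nat.dvd_prime_pow hr.out).mp (show k ∣ r ^ j from
    hj ▸ hmul ▸ Dvd.dvd.mul_left (dvd_pow_self k two_ne_zero) _)
  have hkodd : Odd k := hi ▸ (hr.out.odd_of_ne_two hr2).pow
  have hk0 : 1 ≤ k := hi ▸ Nat.one_le_pow _ _ hr.out.pos
  have hdvd : p ∣ (k - 1) * (k + 1) := by
    rw [mul_comm, ← Nat.sq_sub_sq, one_pow]
    exact (Nat.modEq_iff_dvd' (Nat.one_le_pow _ _ hk0)).mp hk2.symm
  obtain ⟨b, hb⟩ := hkodd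
  have h2p : Nat.Coprime 2 p := (Nat.coprime_primes Nat.prime_two hp).2 hp2'.symm
  have hbig : 2 * p ≤ k + 1 := by
    rcases hp.dvd_mul.mp hdvd with h' | h'
    · have := Nat.le_of_dvd (by omega) (h2p.mul_dvd_of_dvd_of_dvd ⟨b, by omega⟩ h')
      omega
    · exact Nat.le_of_dvd (by omega) (h2p.mul_dvd_of_dvd_of_dvd ⟨b + 1, by omega⟩ h')
  have := two_mul_le_pow m
  omega

variable {K : Type v} [Field K] [IsAlgClosed K]

theorem twoGroup_aux (n : ℕ) : ∀ {Γ : Type u} [Group Γ] [Finite Γ] {W : Type w} [AddCommGroup W]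
    [Module K W] [FiniteDimensional K W] (ρ : Γ →* Module.End K W) {p r : ℕ} [Fact r.Prime]
    (R : Subgroup Γ) [R.Normal] (P : Subgroup Γ) (s : Γ), p.Prime → p ≠ 2 → r ≠ 2 → r ≠ p →
    (2 : K) ≠ 0 → (p : K) ≠ 0 → s ^ p = 1 → IsPGroup 2 R → IsPGroup r P →
    s ∈ normalizer (P : Set Γ) → P ≤ ⁅P, zpowers s⁆ →
    ∑ i ∈ Finset.range p, ρ (s ^ i) = 0 → Nat.card R + Nat.card P = n →
    ∀ x ∈ R, ∀ g ∈ P, ρ (g * x) = ρ (x * g) := by
  induction n using Nat.strong_induction_on with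
  | _ n ih =>
  intro Γ _ _ W _ _ _ ρ p r _ R hRn P s hp hp2 hr2 hrp h2K hpK hs hR hPr hsP hPs hsum hn
  classical
  haveI h2 : Fact (Nat.Prime 2) := ⟨Nat.prime_two⟩
  by_cases hker : R ⊓ ρ.ker = ⊥
  swap
  · intro x hx g hg
    set mk := QuotientGroup.mk' (R ⊓ ρ.ker) with hmk
    set ρ' : Γ ⧸ (R ⊓ ρ.ker) →* Module.End K W := QuotientGroup.lift _ ρ inf_le_right with hρ'
    haveI : (R.map mk).Normal := hRn.map mk (QuotientGroup.mk'_surjective _)
    have hlt : Nat.card (R.map mk) + Nat.card (P.map mk) < n := hn ▸ add_lt_add_of_lt_of_le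
      (card_map_mk_lt (by rwa [inf_assoc, inf_comm ρ.ker R, ← inf_assoc, inf_idem]))
      (Nat.le_of_dvd Nat.card_pos (P.card_map_dvd mk))
    have h := ih _ hlt ρ' (R.map mk) (P.map mk) (mk s) hp hp2 hr2 hrp h2K hpK
      (by rw [← map_pow, hs, map_one]) (hR.map mk) (hPr.map mk)
      (le_normalizer_map mk ⟨s, hsP, rfl⟩)
      (by rw [← MonoidHom.map_zpowers, ← map_commutator]; exact Subgroup.map_mono hPs)
      (by simp only [← map_pow]; exact hsum) rfl (mk x) (mem_map_of_mem _ hx) (mk g)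
      (mem_map_of_mem _ hg)
    rw [← map_mul, ← map_mul] at h
    exact h
  have hinj : ∀ c x : Γ, x ∈ R → ρ (c * x) = ρ (x * c) → c * x = x * c := fun c x hx h => by
    have h1 : (x * c)⁻¹ * (c * x) ∈ R ⊓ ρ.ker := by
      refine ⟨?_, MonoidHom.mem_ker.mpr ?_⟩
      · rw [show (x * c)⁻¹ * (c * x) = c⁻¹ * x⁻¹ * c * x by group]
        exact mul_mem (hRn.conj_mem' _ (inv_mem hx) c) hx
      · rw [map_mul, h, ← map_mul, inv_mul_cancel, map_one]
    rw [hker, mem_bot, inv_mul_eq_one] at h1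
    exact h1.symm
  have hR2K : (Nat.card R : K) ≠ 0 := natCard_cast_ne_zero hR (by exact_mod_cast h2K)
  suffices hcomm : ∀ x ∈ R, ∀ g ∈ P, g * x = x * g by
    intro x hx g hg; rw [hcomm x hx g hg]
  -- it suffices that `s` centralises `R`
  have hsuff : (∀ x ∈ R, s * x = x * s) → ∀ x ∈ R, ∀ g ∈ P, g * x = x * g := by
    intro h x hx g hg
    have hle : ⁅P, zpowers s⁆ ≤ centralizer (R : Set Γ) := commutator_le.2 fun a _ b hb => by
      have hb' : b ∈ centralizer (R : Set Γ) := zpowers_le.2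
        (mem_centralizer_iff.2 fun y hy => (h y hy).symm) hb
      rw [commutatorElement_def]
      exact mul_mem ((inferInstance : (centralizer (R : Set Γ)).Normal).conj_mem b hb' a) (inv_mem hb')
    exact (mem_centralizer_iff.1 (hle (hPs hg)) x hx).symm
  -- invariant proper subgroups
  have hpropR : ∀ R₀ : Subgroup Γ, R₀ ≤ R → R₀ ≠ R →
      (∀ o ∈ insert s (P : Set Γ), ∀ x ∈ R₀, o * x * o⁻¹ ∈ R₀) →
      ∀ c ∈ (P : Set Γ), ∀ x ∈ R₀, c * x = x * c := by
    intro R₀ hR₀ hne hinv c hc x hx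
    set X := normalizer (R₀ : Set Γ) with hX
    have hsX : s ∈ X := mem_normalizer_of_forall (hinv s (Set.mem_insert _ _))
    have hPX : P ≤ X := fun a ha => mem_normalizer_of_forall (hinv a (Set.mem_insert_of_mem _ ha))
    haveI : (R₀.subgroupOf X).Normal :=
      (normal_subgroupOf_iff_le_normalizer le_normalizer).2 le_rfl
    have hcard : Nat.card (R₀.subgroupOf X) + Nat.card (P.subgroupOf X) < n := by
      rw [Nat.card_congr (subgroupOfEquivOfLe le_normalizer).toEquiv,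
        Nat.card_congr (subgroupOfEquivOfLe hPX).toEquiv, ← hn]
      exact Nat.add_lt_add_right (lt_of_le_of_ne (card_le_of_le hR₀)
        fun he => hne (eq_of_le_of_card_ge hR₀ he.ge)) _
    exact hinj c x (hR₀ hx) (ih _ hcard (ρ.comp X.subtype) (R₀.subgroupOf X) (P.subgroupOf X) ⟨s, hsX⟩
      hp hp2 hr2 hrp h2K hpK (Subtype.ext hs)
      ((hR.to_le hR₀).of_equiv (subgroupOfEquivOfLe le_normalizer).symm)
      (hPr.of_equiv (subgroupOfEquivOfLe hPX).symm)
      (mem_normalizer_iff.2 fun a => mem_normalizer_iff.1 hsP (a : Γ))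
      (commutator_subgroupOf_ge hPX hPs) (by simpa using hsum) rfl
      ⟨x, le_normalizer hx⟩ hx ⟨c, hPX hc⟩ hc)
  have hpropP : ∀ P₀ : Subgroup Γ, P₀ ≤ P → P₀ ≠ P → (∀ x ∈ P₀, s * x * s⁻¹ ∈ P₀) →
      ∀ a ∈ P₀, ∀ x ∈ R, ⁅a, s⁆ * x = x * ⁅a, s⁆ := by
    intro P₀ hP₀ hne hinv a ha x hx
    have hsP₀ : s ∈ normalizer (P₀ : Set Γ) := mem_normalizer_of_forall hinv
    have hle : ⁅P₀, zpowers s⁆ ≤ P₀ := commutator_zpowers_le hsP₀
    have hcard : Nat.card R + Nat.card ↥⁅P₀, zpowers s⁆ < n := hn ▸ Nat.add_lt_add_left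
      (lt_of_le_of_lt (card_le_of_le hle) (lt_of_le_of_ne (card_le_of_le hP₀)
        fun he => hne (eq_of_le_of_card_ge hP₀ he.ge))) _
    exact hinj _ x hx (ih _ hcard ρ R ⁅P₀, zpowers s⁆ s hp hp2 hr2 hrp h2K hpK hs hR
      (hPr.to_le (hle.trans hP₀)) (normalizer_commutator_ge_right P₀ (zpowers s) (mem_zpowers s))
      (commutator_zpowers_self hp hrp hs (hPr.to_le hP₀) hsP₀).ge hsum rfl x hx _
      (commutator_mem_commutator ha (mem_zpowers s)))
  have hord : ∀ c ∈ (P : Set Γ), (orderOf c).Coprime 2 := fun c hc => by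
    obtain ⟨k, hk⟩ := hPr ⟨c, hc⟩
    exact (((Nat.coprime_primes Fact.out Nat.prime_two).2 hr2).pow_left k).coprime_dvd_left
      (orderOf_dvd_of_pow_eq_one (congrArg Subtype.val hk))
  rcases special_dichotomy R hR (P : Set Γ) (insert s (P : Set Γ)) (by
      intro o ho c hc
      refine subset_closure ?_
      rcases Set.mem_insert_iff.1 ho with rfl | ho
      · have := (mem_normalizer_iff.1 (inv_mem hsP) c).1 hc
        rwa [inv_inv] at this
      · exact mul_mem (mul_mem (inv_mem (show o ∈ P from ho)) hc) ho) hord hpropR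
    with h | h | ⟨hcD, hsqD, hDc, hZD⟩
  · exact fun x hx g hg => h g hg x hx
  · refine hsuff fun x hx => hinj s x hx ?_
    have := commute_of_abelian ρ hp (n := 0) (s := s) (Q := R) (by rw [zero_add, pow_one]; exact hs)
      (by rw [zero_add, pow_one]; exact hsum) hR2K (fun a ha b hb => by rw [h a ha b hb]) hx
    simpa using this
  by_cases hab : ∀ x ∈ R, ∀ y ∈ R, x * y = y * x
  · refine hsuff fun x hx => hinj s x hx ?_
    have := commute_of_abelian ρ hp (n := 0) (s := s) (Q := R) (by rw [zero_add, pow_one]; exact hs)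
      (by rw [zero_add, pow_one]; exact hsum) hR2K (fun a ha b hb => by rw [hab a ha b hb]) hx
    simpa using this
  set D := R ⊓ centralizer (P : Set Γ) with hD
  have hDP : ∀ x ∈ D, ∀ g ∈ P, g * x = x * g := fun x hx g hg => mem_centralizer_iff.1 hx.2 g hg
  have hsD : ∀ x ∈ D, s * x = x * s := by
    intro x hx
    have hsX : s ∈ normalizer (D : Set Γ) := mem_normalizer_of_forall fun y hy =>
      ⟨hRn.conj_mem y hy.1 s, mem_centralizer_iff.2 fun c hc => by
        have h1 : s⁻¹ * c * s ∈ P := by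
          have := (mem_normalizer_iff.1 (inv_mem hsP) c).1 hc
          rwa [inv_inv] at this
        have h2 := hDP y hy _ h1
        calc c * (s * y * s⁻¹) = s * ((s⁻¹ * c * s) * y) * s⁻¹ := by group
          _ = s * (y * (s⁻¹ * c * s)) * s⁻¹ := by rw [h2]
          _ = s * y * s⁻¹ * c := by group⟩
    set X := normalizer (D : Set Γ) with hX
    haveI : (D.subgroupOf X).Normal := (normal_subgroupOf_iff_le_normalizer le_normalizer).2 le_rfl
    refine hinj s x hx.1 ?_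
    have := commute_of_abelian (ρ.comp X.subtype) hp (n := 0) (s := (⟨s, hsX⟩ : X))
      (Q := D.subgroupOf X) (by rw [zero_add, pow_one]; exact Subtype.ext hs)
      (by rw [zero_add, pow_one]; simpa using hsum) (by
        rw [Nat.card_congr (subgroupOfEquivOfLe le_normalizer).toEquiv]
        exact natCard_cast_ne_zero (hR.to_le inf_le_left) (by exact_mod_cast h2K))
      (fun a ha b hb => congrArg ρ (hDc _ hb _ ha.1)) (y := (⟨x, le_normalizer hx⟩ : X)) hx
    simpa using this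
  set Γ₁ := centralizer (D : Set Γ) with hΓ₁
  have hRΓ : R ≤ Γ₁ := fun y hy => mem_centralizer_iff.2 fun x hx => (hDc x hx y hy).symm
  have hPΓ : P ≤ Γ₁ := fun g hg => mem_centralizer_iff.2 fun x hx => (hDP x hx g hg).symm
  have hsΓ : s ∈ Γ₁ := mem_centralizer_iff.2 fun x hx => (hsD x hx).symm
  set R₁ := R.subgroupOf Γ₁ with hR₁
  haveI : R₁.Normal := hRn.subgroupOf Γ₁
  have hR₁2 : IsPGroup 2 R₁ := hR.of_equiv (subgroupOfEquivOfLe hRΓ).symm
  set Z := D.subgroupOf Γ₁ with hZ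
  have hZc : ∀ z ∈ Z, ∀ g : Γ₁, g * z = z * g := fun z hz g =>
    Subtype.ext (mem_centralizer_iff.1 g.2 (z : Γ) hz).symm
  haveI hZn : Z.Normal := ⟨fun z hz g => by rw [hZc z hz g, mul_inv_cancel_right]; exact hz⟩
  haveI : Fintype Z := Fintype.ofFinite Z
  have hZR : Z ≤ R₁ := fun z hz => show (z : Γ) ∈ R from hz.1
  have hZK : (Fintype.card Z : K) ≠ 0 := by
    rw [← Nat.card_eq_fintype_card]
    exact natCard_cast_ne_zero (hR₁2.to_le hZR) (by exact_mod_cast h2K)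
  have hZcomm : IsMulCommutative Z := isMulCommutative_iff.2 fun a b => Subtype.ext (hZc b b.2 a)
  set ρ₁ := ρ.comp Γ₁.subtype with hρ₁
  set s₁ : Γ₁ := ⟨s, hsΓ⟩ with hs₁
  set O₁ : Set Γ₁ := (Subtype.val : Γ₁ → Γ) ⁻¹' insert s (P : Set Γ) with hO₁
  have hmax : ∀ R₀ : Subgroup Γ₁, R₀ ≤ R₁ → R₀ ≠ R₁ →
      (∀ o ∈ O₁, ∀ x ∈ R₀, o * x * o⁻¹ ∈ R₀) → R₀ ≤ Z := fun R₀ h1 h2 hinv x hx =>
    ⟨h1 hx, mem_centralizer_iff.2 fun c hc => hpropR (R₀.map Γ₁.subtype)
      (by rintro _ ⟨z, hz, rfl⟩; exact h1 hz)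
      (fun he => h2 (Subgroup.map_injective Γ₁.subtype_injective
        (by rw [he, map_subgroupOf_eq_of_le hRΓ])))
      (by
        rintro o ho _ ⟨z, hz, rfl⟩
        have hoΓ : o ∈ Γ₁ := (Set.mem_insert_iff.1 ho).elim (fun e => e ▸ hsΓ) fun h => hPΓ h
        exact ⟨_, hinv ⟨o, hoΓ⟩ ho z hz, rfl⟩) c hc (x : Γ) ⟨x, hx, rfl⟩⟩
  have hcomm₁ : ∀ a ∈ R₁, ∀ b ∈ R₁, ⁅a, b⁆ ∈ Z := fun a ha b hb =>
    show ⁅(a : Γ), (b : Γ)⁆ ∈ D from hcD _ ha _ hb
  refine hsuff fun x hx => hinj s x hx ?_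
  show ρ₁ (s₁ * ⟨x, hRΓ hx⟩) = ρ₁ (⟨x, hRΓ hx⟩ * s₁)
  refine eq_of_forall_mul_weightIdem ρ₁ hZcomm hZK fun l hl => ?_
  obtain ⟨θ, hnt, hθeq, hθscal, hθsum⟩ := exists_block hZc ρ₁ hl
  haveI := hnt
  suffices hblock : ∀ y ∈ R₁, θ (s₁ * y) = θ (y * s₁) from (hθeq _ _).1 (hblock _ hx)
  have hsum₁ : ∑ i ∈ Finset.range p, θ (s₁ ^ i) = 0 := hθsum s₁ p (by simpa [hρ₁, hs₁] using hsum)
  have hs₁p : s₁ ^ p = 1 := Subtype.ext hs
  by_cases hnc : ∀ a ∈ R₁, ∀ b ∈ R₁, θ (a * b) = θ (b * a)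
  · intro y hy
    have := commute_of_abelian θ hp (n := 0) (s := s₁) (Q := R₁) (by rw [zero_add, pow_one]; exact hs₁p)
      (by rw [zero_add, pow_one]; exact hsum₁)
      (natCard_cast_ne_zero hR₁2 (by exact_mod_cast h2K)) hnc hy
    simpa using this
  rcases commute_or_exceptional θ R₁ hp hp2.symm hR₁2 (by exact_mod_cast h2K) hpK hs₁p hsum₁
    (fun a ha b hb => ⟨_, hθscal ⟨_, hcomm₁ a ha b hb⟩⟩) with h | ⟨m, hm, hpm, T, T₀, hT₀T, hTR, hT, hT₀, hidx⟩
  · exact h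
  exfalso
  have hT₀Z : T₀ ≤ Z := fun a ha => blockCentral_le θ R₁ Z hmax hnc (mem_blockCentral.2
    ⟨hTR (hT₀T ha), fun b _ => by
      obtain ⟨c, hc⟩ := hT₀ a ha
      rw [map_mul, map_mul, hc, smul_mul_assoc, mul_smul_comm, one_mul, mul_one]⟩)
  obtain ⟨k, hk, hk1, -⟩ := exists_square_block ρ₁ R₁ Z hR₁2 (by exact_mod_cast h2K)
    (fun g hg hg1 => Subtype.ext (by
      have h1 : (g : Γ) ∈ R ⊓ ρ.ker := ⟨hg, MonoidHom.mem_ker.2 hg1⟩
      rwa [hker, mem_bot] at h1))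
    hZR hcomm₁ hZc hmax fun h => hab fun a ha b hb =>
      congrArg Subtype.val (h ⟨a, hRΓ ha⟩ ha ⟨b, hRΓ hb⟩ hb)
  -- the action of `P ⊔ ⟨s⟩` on `R / Z`
  set Γ₂ := normalizer ((P.subgroupOf Γ₁ : Subgroup Γ₁) : Set Γ₁) with hΓ₂
  set mk := QuotientGroup.mk' Z with hmk
  haveI hUn : (R₁.map mk).Normal := (inferInstance : R₁.Normal).map mk (QuotientGroup.mk'_surjective _)
  haveI : IsMulCommutative (R₁.map mk) := Solvable.Basic.isMulCommutative_subgroup_iff.mpr (by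
    rintro _ ⟨a, ha, rfl⟩ _ ⟨b, hb, rfl⟩
    rw [← commutatorElement_eq_one_iff_mul_comm, ← map_commutatorElement]
    exact (QuotientGroup.eq_one_iff _).mpr (hcomm₁ a ha b hb))
  letI : CommGroup (R₁.map mk) := { (inferInstance : Group (R₁.map mk)) with mul_comm := mul_comm' }
  set φ : Γ₂ →* MulAut (R₁.map mk) := MulAut.conjNormal.comp (mk.comp Γ₂.subtype) with hφdef
  have hφ : ∀ (g : Γ₂) (y : Γ₁) (hy : y ∈ R₁),
      φ g ⟨mk y, mem_map_of_mem mk hy⟩ = ⟨mk y, mem_map_of_mem mk hy⟩ ↔ ⁅(g : Γ₁), y⁆ ∈ Z := by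
    intro g y hy
    rw [← Subtype.val_inj]
    show ((MulAut.conjNormal (mk g) (⟨mk y, _⟩ : R₁.map mk) : R₁.map mk) : Γ₁ ⧸ Z) = mk y ↔ _
    rw [MulAut.conjNormal_apply, ← QuotientGroup.eq_one_iff]
    show mk g * mk y * (mk g)⁻¹ = mk y ↔ mk ⁅(g : Γ₁), y⁆ = 1
    rw [map_commutatorElement, commutatorElement_def, mul_inv_eq_one]
  have hs₂ : s₁ ∈ Γ₂ := mem_normalizer_iff.2 fun a => mem_normalizer_iff.1 hsP (a : Γ)
  set s₂ : Γ₂ := ⟨s₁, hs₂⟩ with hs₂def
  set P₁ := P.subgroupOf Γ₁ with hP₁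
  set P₂ := P₁.subgroupOf Γ₂ with hP₂
  haveI hP₂n : P₂.Normal := (normal_subgroupOf_iff_le_normalizer le_normalizer).2 le_rfl
  set H := φ.range with hH
  set π := φ.rangeRestrict with hπ
  have hπs : Function.Surjective π := φ.rangeRestrict_surjective
  haveI : (P₂.map π).Normal := hP₂n.map π hπs
  have hU : ∀ v : R₁.map mk, v ^ 2 = 1 := by
    rintro ⟨_, a, ha, rfl⟩
    refine Subtype.ext ?_
    rw [SubmonoidClass.coe_pow, ← map_pow, OneMemClass.coe_one]
    exact (QuotientGroup.eq_one_iff _).mpr (show ((a ^ 2 : Γ₁) : Γ) ∈ D from hsqD _ ha)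
  have hPs₂ : P₂ ≤ ⁅P₂, zpowers s₂⁆ :=
    commutator_subgroupOf_ge le_normalizer (commutator_subgroupOf_ge hPΓ hPs)
  refine two_layer_absurd (U := R₁.map mk) (Γ := H) (p := p) (r := r) (m := m) hp hr2 hrp hm hpm hU
    H.subtype H.subtype_injective (P₂.map π)
    (((hPr.of_equiv (subgroupOfEquivOfLe hPΓ).symm).of_equiv
      (subgroupOfEquivOfLe le_normalizer).symm).map π) (s := π s₂)
    (by rw [← map_pow, show s₂ ^ p = 1 from Subtype.ext hs₁p, map_one])
    (by rw [← MonoidHom.map_zpowers, ← map_commutator]; exact Subgroup.map_mono hPs₂)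
    ?_ ?_ (n := k) ?_ hk1 ((φ s₂).toMonoidHom.eqLocus (MonoidHom.id _)) (fun v => Iff.rfl) ?_
  · -- proper subgroups commute with `s`
    intro P₀ hP₀ hne hinv x hx
    obtain ⟨g, hg, rfl⟩ := hP₀ hx
    set Q₀ : Subgroup Γ₂ := P₂ ⊓ P₀.comap π with hQ₀
    let Q : Subgroup Γ := Q₀.map (Γ₁.subtype.comp Γ₂.subtype)
    have hQP : Q ≤ P := by rintro _ ⟨z, hz, rfl⟩; exact hz.1
    have hQne : Q ≠ P := by
      intro he
      refine hne (le_antisymm hP₀ ?_)
      rintro _ ⟨z, hz, rfl⟩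
      obtain ⟨z', hz', hzz⟩ := he.ge (show ((z : Γ₁) : Γ) ∈ P from hz)
      rw [show z = z' from Subtype.ext (Subtype.ext hzz.symm)]
      exact hz'.2
    have hQinv : ∀ y ∈ Q, s * y * s⁻¹ ∈ Q := by
      rintro _ ⟨z, hz, rfl⟩
      refine ⟨s₂ * z * s₂⁻¹, ⟨hP₂n.conj_mem z hz.1 s₂, ?_⟩, rfl⟩
      show π (s₂ * z * s₂⁻¹) ∈ P₀
      rw [map_mul, map_mul, map_inv]
      exact hinv _ hz.2
    have hc := hpropP Q hQP hQne hQinv _ ⟨g, ⟨hg, hx⟩, rfl⟩
    have h1 : φ ⁅g, s₂⁆ = 1 := by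
      refine MulEquiv.ext fun v => ?_
      obtain ⟨_, y, hy, rfl⟩ := v
      refine (hφ ⁅g, s₂⁆ y hy).2 ?_
      rw [show ⁅((⁅g, s₂⁆ : Γ₂) : Γ₁), y⁆ = 1 from Subtype.ext
        (commutatorElement_eq_one_iff_mul_comm.2 (hc _ hy))]
      exact one_mem Z
    rw [map_commutatorElement, commutatorElement_eq_one_iff_mul_comm] at h1
    exact Subtype.ext h1.symm
  · -- no fixed points
    rintro ⟨_, y, hy, rfl⟩ hfix
    refine Subtype.ext ((QuotientGroup.eq_one_iff y).mpr ⟨hy, mem_centralizer_iff.2 fun g hg => ?_⟩)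
    set gΓ : Γ₁ := ⟨g, hPΓ hg⟩
    set g₂ : Γ₂ := ⟨gΓ, le_normalizer (show gΓ ∈ P₁ from hg)⟩
    have hgy : ⁅gΓ, y⁆ ∈ Z := (hφ g₂ y hy).1 (hfix (π g₂) (mem_map_of_mem π (show g₂ ∈ P₂ from hg)))
    refine commutatorElement_eq_one_iff_mul_comm.1 (eq_one_of_commute_commutator (p := orderOf g)
      (pow_orderOf_eq_one g) (mem_centralizer_iff.1 hgy.2 g hg) ?_)
    obtain ⟨j, hj⟩ := hR ⟨⁅g, (y : Γ)⁆, hgy.1⟩
    exact (((hord g hg).symm).pow_left j).coprime_dvd_left
      (orderOf_dvd_of_pow_eq_one (congrArg Subtype.val hj))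
  · rw [← hk, ← relIndex_ker, QuotientGroup.ker_mk']
  · -- the moved part is small
    set ψ : R₁.map mk →* R₁.map mk := (φ s₂).toMonoidHom / MonoidHom.id _ with hψ
    have hker : ψ.ker = (φ s₂).toMonoidHom.eqLocus (MonoidHom.id _) := by
      ext v; rw [MonoidHom.mem_ker, hψ, MonoidHom.div_apply, div_eq_one]; rfl
    have hrange : ψ.range.map (R₁.map mk).subtype ≤ T.map mk := by
      rintro _ ⟨_, ⟨⟨_, y, hy, rfl⟩, rfl⟩, rfl⟩
      refine ⟨⁅s₁, y⁆, hT y hy, ?_⟩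
      rw [map_commutatorElement, commutatorElement_def, hψ, MonoidHom.div_apply, div_eq_mul_inv]
      rfl
    have hcard : Nat.card ψ.range ≤ 2 ^ (2 * m) := by
      rw [Nat.card_congr (Subgroup.equivMapOfInjective ψ.range _ (R₁.map mk).subtype_injective).toEquiv]
      refine (card_le_of_le hrange).trans ?_
      rw [← relIndex_ker, QuotientGroup.ker_mk', two_mul, pow_add, ← hpm, ← hidx]
      refine Nat.le_of_dvd (Nat.pos_of_ne_zero ?_) (relIndex_dvd_of_le_left T hT₀Z)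
      rw [hidx, hpm]; positivity
    rw [← card_mul_index ψ.ker, index_ker, hker]
    exact Nat.mul_le_mul_left _ hcard

/-- `R` and `P = [P, s]` commute on a module where `R` fixes the fixed vectors of `s`. -/
theorem twoGroup_commute {Γ : Type u} [Group Γ] [Finite Γ] {W : Type w} [AddCommGroup W] [Module K W]
    [FiniteDimensional K W] (ρ : Γ →* Module.End K W) {p r : ℕ} [Fact r.Prime] (hp : p.Prime)
    (hp2 : p ≠ 2) (hr2 : r ≠ 2) (hrp : r ≠ p) (h2K : (2 : K) ≠ 0) (hpK : (p : K) ≠ 0)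
    {R P : Subgroup Γ} {s : Γ} (hs : s ^ p = 1) (hR : IsPGroup 2 R) (hPr : IsPGroup r P)
    (hPR : P ≤ normalizer (R : Set Γ)) (hsR : s ∈ normalizer (R : Set Γ))
    (hsP : s ∈ normalizer (P : Set Γ)) (hPs : P ≤ ⁅P, zpowers s⁆)
    (hfix : ∀ u ∈ R, (ρ u - 1) * ∑ i ∈ Finset.range p, ρ (s ^ i) = 0) :
    ∀ x ∈ R, ∀ g ∈ P, ρ (g * x) = ρ (x * g) := by
  classical
  haveI : Fact (Nat.Prime 2) := ⟨Nat.prime_two⟩
  set X := normalizer (R : Set Γ) with hX
  set Q := R.subgroupOf X with hQ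
  haveI : Q.Normal := (normal_subgroupOf_iff_le_normalizer le_normalizer).2 le_rfl
  haveI : Fintype Q := Fintype.ofFinite Q
  have hQq : IsPGroup 2 Q := hR.of_equiv (subgroupOfEquivOfLe le_normalizer).symm
  set ρ₁ := ρ.comp X.subtype with hρ₁
  have hQK : (Fintype.card Q : K) ≠ 0 := by
    rw [← Nat.card_eq_fintype_card]; exact natCard_cast_ne_zero hQq (by exact_mod_cast h2K)
  set e := weightIdem Q ρ₁ (1 : Q →* Kˣ) with he
  have hcm : ∀ g : X, ρ₁ g * e = e * ρ₁ g := fun g => by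
    rw [he, map_mul_weightIdem_smul, dual_smul_one]
  set T := ∑ i ∈ Finset.range p, ρ₁ ((⟨s, hsR⟩ : X) ^ i) with hT
  have heT : e * T = T := by
    rw [he, weightIdem, smul_mul_assoc, Finset.sum_mul]
    have hz : ∀ z : Q, ((1 : Q →* Kˣ) z⁻¹ : K) • ρ₁ (z : X) * T = T := fun z => by
      have h := hfix ((z : X) : Γ) z.2
      rw [sub_mul, one_mul, sub_eq_zero] at h
      rw [MonoidHom.one_apply, Units.val_one, one_smul]
      simpa [hT, hρ₁] using h
    rw [Finset.sum_congr rfl fun z _ => hz z, Finset.sum_const, Finset.card_univ,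
      ← Nat.cast_smul_eq_nsmul K, smul_smul, inv_mul_cancel₀ hQK, one_smul]
  set E := 1 - e with hE
  have hcE : ∀ g : X, ρ₁ g * E = E * ρ₁ g := fun g => by
    rw [hE, mul_sub, sub_mul, one_mul, mul_one, hcm g]
  have hTE : T * E = 0 := by
    have : T * e = e * T := by
      rw [hT, Finset.sum_mul, Finset.mul_sum]
      exact Finset.sum_congr rfl fun i _ => hcm _
    rw [hE, mul_sub, mul_one, this, heT, sub_self]
  obtain ⟨θ, -, hθeq, -, hθsum⟩ := exists_range_rep ρ₁ E ⊤ fun g _ => hcE g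
  set θ' := θ.comp (topEquiv (G := X)).symm.toMonoidHom with hθ'
  have htriv := twoGroup_aux (K := K) _ θ' Q (P.subgroupOf X) ⟨s, hsR⟩ hp hp2 hr2 hrp h2K hpK
    (Subtype.ext hs) hQq (hPr.of_equiv (subgroupOfEquivOfLe hPR).symm)
    (mem_normalizer_iff.2 fun a => mem_normalizer_iff.1 hsP (a : Γ))
    (commutator_subgroupOf_ge hPR hPs) (by
      have h := (hθsum (Finset.range p) (fun _ => 1)
        (fun i => ⟨(⟨s, hsR⟩ : X) ^ i, mem_top _⟩)).2 (by simp only [one_smul]; exact hTE)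
      simp only [one_smul] at h
      exact h) rfl
  intro x hx g hg
  have h1 : ρ₁ (⟨g, hPR hg⟩ * ⟨x, le_normalizer hx⟩) * E = ρ₁ (⟨x, le_normalizer hx⟩ * ⟨g, hPR hg⟩) * E :=
    (hθeq _ _).1 (htriv ⟨x, le_normalizer hx⟩ hx ⟨g, hPR hg⟩ hg)
  have h2 : ∀ z : X, z ∈ Q → ρ₁ z * e = e := fun z hz => by
    refine (map_mem_mul_weightIdem ρ₁ (1 : Q →* Kˣ) ⟨z, hz⟩).trans ?_
    rw [MonoidHom.one_apply, Units.val_one, one_smul]
  set xX : X := ⟨x, le_normalizer hx⟩
  set gX : X := ⟨g, hPR hg⟩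
  have h3 : ρ₁ (gX * xX) * e = ρ₁ (xX * gX) * e := by
    rw [map_mul, map_mul, mul_assoc, h2 _ hx, mul_assoc, hcm gX, ← mul_assoc, h2 _ hx]
  have h4 : ρ₁ (gX * xX) * (E + e) = ρ₁ (xX * gX) * (E + e) := by rw [mul_add, mul_add, h1, h3]
  rw [hE, sub_add_cancel, mul_one, mul_one] at h4
  exact h4

end CfsgLib.Components.SFT
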