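import Cfsg.Agent.Lib.Components.SFT.Basics
import Cfsg.Agent.Lib.ThompsonWielandt.Basic

/-!
The largest `θ h`-invariant `q`-member against the universal group `Yq q`.
-/

set_option autoImplicit false
set_option linter.style.haveILetI false
set_option linter.unusedSectionVars false
set_option maxHeartbeats 400000

namespace CfsgLib.Components.SFT

open Subgroup CfsgLib.Solvable CfsgLib.Components.Signalizer CfsgLib.Components.Bender
open scoped commutatorElement

variable {G : Type*} [Group G] [Finite G]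
variable {p : ℕ} [hp : Fact p.Prime] {A : Subgroup G} {θ : G → Subgroup G}

/-- The largest `θ h`-invariant `q`-member. -/
abbrev TH (p q : ℕ) (A : Subgroup G) (θ : G → Subgroup G) (h : G) : Subgroup G :=
  Tinv p q A θ (θ h)

/-- The largest `θ(L)`-invariant `q`-member. -/
abbrev TLn (p q : ℕ) (A : Subgroup G) (θ : G → Subgroup G) (L : Subgroup G) : Subgroup G :=
  Tinv p q A θ (Cfsg.signalizerInf L θ)

theorem le_centralizer_singleton_of_zpowers {h : G} :
    centralizer ((zpowers h : Subgroup G) : Set G) ≤ centralizer {h} :=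
  centralizer_le (Set.singleton_subset_iff.2 (mem_zpowers h))

theorem le_centralizer_zpowers_of_singleton {K : Subgroup G} {h : G} (hK : K ≤ centralizer {h}) :
    K ≤ centralizer ((zpowers h : Subgroup G) : Set G) :=
  le_centralizer_iff.mpr (zpowers_le.2 (mem_centralizer_of_le_centralizer_singleton hK))

namespace Setting

variable (S : Setting p A θ)
include S

variable {q : ℕ} [hq : Fact q.Prime]

theorem coreIn_mem {U : Subgroup G} (hU : Mem p A θ U) : Mem p A θ (coreIn q U) :=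
  member_of_le hU (coreIn_le q U) fun _ ha =>
    map_subtype_normal_of_characteristic (member_le_normalizer hU ha)

theorem isPGroup_TH {h : G} (hh : h ∈ A) (hh1 : h ≠ 1) : IsPGroup q ↥(TH p q A θ h) :=
  S.isPGroup_Tinv (S.C_le_theta hh hh1)

theorem mem_TH {h : G} (hh : h ∈ A) (hh1 : h ≠ 1) : Mem p A θ (TH p q A θ h) :=
  S.mem_Tinv (S.C_le_theta hh hh1)

theorem TH_le_TL {L : Subgroup G} {h : G} (hh : h ∈ A) (hh1 : h ≠ 1) (hhL : h ∈ L) :
    TH p q A θ h ≤ TLn p q A θ L :=
  le_Tinv (S.mem_TH hh hh1) (S.isPGroup_TH hh hh1)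
    ((S.lineTheta_le hhL hh1).trans (le_normalizer_Tinv q _))

theorem coreIn_le_TH {h : G} {U : Subgroup G} (hU : Mem p A θ U) (hUh : θ h ≤ U) :
    coreIn q U ≤ TH p q A θ h :=
  le_Tinv (S.coreIn_mem hU) (isPGroup_coreIn q U) (hUh.trans (le_normalizer_coreIn q U))

end Setting

namespace Minimal

variable (H : Minimal p A θ)
include H

variable {q : ℕ} [hq : Fact q.Prime]

/-- Growth: what lies in every `TL`, `L ∋ h`, lies in `TH h`, when that is nontrivial. -/
theorem le_TH_of_le_TL {h : G} (hh : h ∈ A) (hh1 : h ≠ 1) (hne : TH p q A θ h ≠ ⊥) {X : Subgroup G}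
    (hX : ∀ L, Line p A L → h ∈ L → X ≤ TLn p q A θ L) : X ≤ TH p q A θ h := by
  have S := H.toSetting
  set T := TH p q A θ h with hT
  set P : Subgroup G :=
    ⨅ L : {L : Subgroup G // Line p A L ∧ h ∈ L}, TLn p q A θ (L : Subgroup G) with hP
  obtain ⟨L₀, hL₀, hhL₀⟩ := S.exists_line_mem hh
  have hPL : ∀ L, Line p A L → h ∈ L → P ≤ TLn p q A θ L := fun L hL hhL =>
    iInf_le (fun L : {L : Subgroup G // Line p A L ∧ h ∈ L} => TLn p q A θ (L : Subgroup G))
      ⟨L, hL, hhL⟩
  have hPm : Mem p A θ P := by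
    refine member_of_le (S.mem_TL (q := q) hL₀) (hPL L₀ hL₀ hhL₀) fun a ha => ?_
    rw [hP, iInf, mem_normalizer_iff]
    intro x
    simp only [Subgroup.mem_sInf, Set.forall_mem_range]
    exact forall_congr' fun L =>
      mem_normalizer_iff.1 (member_le_normalizer (S.mem_TL (q := q) L.2.1) ha) x
  have hPq : IsPGroup q P := (S.isPGroup_TL hL₀).to_le (hPL L₀ hL₀ hhL₀)
  have hTP : T ≤ P := le_iInf fun L => S.TH_le_TL hh hh1 L.2.2
  have hXP : X ≤ P := le_iInf fun L => hX L L.2.1 L.2.2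
  refine hXP.trans ?_
  by_contra hno
  have hlt : T < P := lt_of_le_not_ge hTP hno
  have hgrow := Coprime.lt_normalizer_inf_of_lt hPq hlt
  have hTm := S.mem_TH (q := q) hh hh1
  have hθ := S.mem_theta hh hh1
  obtain ⟨M, hM, hMle⟩ := H.exists_overgroup hTm hne
  set U := M ⊓ normalizer (T : Set G) with hUdef
  have hAn : ∀ {K : Subgroup G}, Mem p A θ K →
      A ≤ normalizer ((K ⊓ normalizer (T : Set G) : Subgroup G) : Set G) := fun hK =>
    (le_inf (member_le_normalizer hK) ((member_le_normalizer hTm).trans Subgroup.le_normalizer)).trans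
      inf_normalizer_le_normalizer_inf
  have hU : Mem p A θ U := member_of_le hM.1 inf_le_left (hAn hM.1)
  set P1 := P ⊓ normalizer (T : Set G) with hP1def
  have hP1 : Mem p A θ P1 := member_of_le hPm inf_le_left (hAn hPm)
  have hθU : θ h ≤ U := le_inf (hMle _ hθ (le_normalizer_Tinv q _)) (le_normalizer_Tinv q _)
  have hP1U : P1 ≤ U := le_inf (hMle _ hP1 inf_le_right) inf_le_right
  have hP1q : IsPGroup q P1 := hPq.to_le inf_le_left
  have hTU : T ≤ coreIn q U := ThompsonWielandt.le_coreIn (S.isPGroup_TH hh hh1)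
    ((le_inf hTP Subgroup.le_normalizer : T ≤ P1).trans hP1U) inf_le_right
  have hfix : P ⊓ centralizer {h} ≤ T := by
    refine le_trans (S.le_core_of_covered (q := q) hθ hh hh1 (S.theta_le_centralizer hh hh1)
      (hPq.to_le inf_le_left) (hPm.2.2.2 h hh hh1) fun L hL hhL x hx r hr hrL => ?_)
      (S.coreIn_le_TH hθ le_rfl)
    exact commutator_mem_of_normalized (S.isPGroup_TL hL) (hPL L hL hhL hx.1)
      (hPm.2.2.2 h hh hh1 hx) hr
      (le_normalizer_Tinv q _ (S.inf_centralizer_le_lineTheta hθ hL ⟨RQ_le q _ hr, hrL⟩))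
  have hhU : h ∈ normalizer (U : Set G) := member_le_normalizer hU hh
  have hcov : RQ q U ⊓ centralizer {h} ≤ centMod q U P1 := by
    have hm : Mem p A θ (RQ q U ⊓ centralizer {h}) := member_of_le (S.mem_RQ' hU) inf_le_left
      (le_normalizer_inf_centralizer_singleton S.elem (member_le_normalizer (S.mem_RQ' hU)) hh)
    refine (S.le_iSup_lines_through hm hh hh1 inf_le_right).trans (iSup_le fun L r hr => ?_)
    refine ⟨RQ_le q U hr.1.1, fun x hx => ?_⟩
    exact commutator_mem_of_normalized (S.isPGroup_TL L.2.1) (hPL L L.2.1 L.2.2 hx.1) (hP1U hx) hr.1.1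
      (le_normalizer_Tinv q _ (S.inf_centralizer_le_lineTheta hU L.2.1 ⟨RQ_le q U hr.1.1, hr.2⟩))
  have hqp : q ≠ p := S.ne_p hTm (S.isPGroup_TH hh hh1) hne
  set P2 := ⁅P1, zpowers h⁆ with hP2
  have hP2le : P2 ≤ P1 := S.commutator_le_self hP1 hh
  have hcop : (Nat.card P2).Coprime ((coreIn q U).relIndex (RQ q U)) := by
    obtain ⟨k, hk⟩ := IsPGroup.iff_card.mp (hP1q.to_le hP2le)
    rw [hk]
    exact (coprime_relIndex_RQ q U).symm.pow_left k
  have hP2cent := pGroup_centralises (p := p) (q := q) hp.out hqp (N₀ := coreIn q U) (M₀ := RQ q U)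
    (P := P2) (y := h) (coreIn_le_RQ q U) ((RQ_le q U).trans (le_normalizer_coreIn q U))
    (Coprime.isSolvable_of_le (RQ_le q U) hU.1)
    (fun hd => hU.2.1 (hd.trans (card_dvd_of_le (RQ_le q U)))) hcop (S.pow_eq_one hh)
    (mem_normalizer_coreIn hhU) (le_normalizer_RQ hhU)
    (member_le_normalizer (S.mem_commutator hP1 hh) hh)
    ((hP2le.trans hP1U).trans (le_normalizer_coreIn q U))
    ((hP2le.trans hP1U).trans (le_normalizer_RQ' q U)) (hP1q.to_le hP2le)
    (S.commutator_commutator hP1 hh).ge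
    (Or.inr fun x hx hxh m hm => (commutator_mem_of_mem_normalizer
      (le_normalizer_coreIn q U (RQ_le q U hm))
      (hTU (hfix ⟨(hP2le hx).1, mem_centralizer_singleton_iff.2 hxh.symm⟩))).2)
    (fun m hm hhm g hg => (hcov ⟨hm, mem_centralizer_singleton_iff.2 hhm.symm⟩).2 g (hP2le hg))
  have hP2core : P2 ≤ coreIn q U :=
    le_coreIn_of_commutator hU.1 (hP1q.to_le hP2le) (hP2le.trans hP1U) hP2cent
  have hP1core : P1 ≤ coreIn q U := by
    conv_lhs => rw [← Coprime.commutator_sup_centralizer (S.zpowers_le_normalizer hP1 hh)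
      (coprime_zpowers S.elem hh hP1.2.1) (Or.inl (Coprime.isSolvable_zpowers h))]
    exact sup_le hP2core (le_trans (le_inf (inf_le_left.trans inf_le_left)
      (inf_le_right.trans le_centralizer_singleton_of_zpowers)) (hfix.trans hTU))
  exact hgrow.not_ge (hP1core.trans (S.coreIn_le_TH hU hθU))

theorem Y_le_TH {h : G} (hh : h ∈ A) (hh1 : h ≠ 1) (hne : TH p q A θ h ≠ ⊥) :
    Yq p q A θ ≤ TH p q A θ h :=
  H.le_TH_of_le_TL hh hh1 hne fun _ hL _ => H.toSetting.Y_le hL

/-- A line of nonexceptional points normalises `Y`. -/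
theorem lineTheta_le_normalizer_Y {B : Subgroup G} (hB : Line p A B)
    (h : ∀ v ∈ B, v ≠ 1 → TH p q A θ v ≠ ⊥) :
    Cfsg.signalizerInf B θ ≤ normalizer (Yq p q A θ : Set G) := by
  have S := H.toSetting
  have e : Yq p q A θ = ⨅ v : {v : G // v ∈ B ∧ v ≠ 1}, TH p q A θ (v : G) := by
    refine le_antisymm (le_iInf fun v => H.Y_le_TH (hB.1 v.2.1) v.2.2 (h v v.2.1 v.2.2))
      (le_iInf fun L => ?_)
    obtain ⟨v, hv, hv1, hvB, hvL⟩ := S.exists_mem_inter hB L.2
    exact le_trans (iInf_le _ (⟨v, hvB, hv1⟩ : {v : G // v ∈ B ∧ v ≠ 1})) (S.TH_le_TL hv hv1 hvL)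
  intro x hx
  rw [e, iInf, mem_normalizer_iff]
  intro y
  simp only [Subgroup.mem_sInf, Set.forall_mem_range]
  exact forall_congr' fun v =>
    mem_normalizer_iff.1 (le_normalizer_Tinv q _ (S.lineTheta_le v.2.1 v.2.2 hx)) y

/-- `Y ≠ ⊥` forces an exceptional point. -/
theorem exists_exceptional (hY : Yq p q A θ ≠ ⊥) :
    ∃ e ∈ A, e ≠ 1 ∧ TH p q A θ e = ⊥ := by
  by_contra hno
  push Not at hno
  exact hY (H.exists_normalized_bot H.toSetting.mem_Y fun L hL =>
    H.lineTheta_le_normalizer_Y hL fun v hv hv1 => hno v (hL.1 hv) hv1)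

/-- `⁅TH, h⁆ = ⁅Y, h⁆` for odd `q` and nonexceptional `h`. -/
theorem commutator_TH_eq (hq2 : q ≠ 2) {h : G} (hh : h ∈ A) (hh1 : h ≠ 1)
    (hne : TH p q A θ h ≠ ⊥) :
    ⁅TH p q A θ h, zpowers h⁆ = ⁅Yq p q A θ, zpowers h⁆ := by
  have S := H.toSetting
  have hTm := S.mem_TH (q := q) hh hh1
  have hle : ⁅TH p q A θ h, zpowers h⁆ ≤ Yq p q A θ :=
    S.le_Y_of_moved hh hh1 (S.isPGroup_TH hh hh1) (le_normalizer_Tinv q _) (S.mem_commutator hTm hh)
      (S.commutator_le_self hTm hh) (S.commutator_commutator hTm hh).ge (Or.inl hq2)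
  refine le_antisymm ?_ (commutator_mono (H.Y_le_TH hh hh1 hne) le_rfl)
  exact (S.commutator_commutator hTm hh).ge.trans (commutator_mono hle le_rfl)

/-- NORM: `θ h` normalises `⁅Y, h⁆`. -/
theorem theta_le_normalizer_commutator_Y (hq2 : q ≠ 2) {h : G} (hh : h ∈ A) (hh1 : h ≠ 1)
    (hne : TH p q A θ h ≠ ⊥) :
    θ h ≤ normalizer ((⁅Yq p q A θ, zpowers h⁆ : Subgroup G) : Set G) := by
  rw [← H.commutator_TH_eq hq2 hh hh1 hne]
  intro x hx
  rw [mem_normalizer_iff_map_conj_eq, map_commutator,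
    mem_normalizer_iff_map_conj_eq.mp (le_normalizer_Tinv q _ hx),
    mem_normalizer_iff_map_conj_eq.mp (centralizer_le_normalizer _
      (le_centralizer_zpowers_of_singleton (H.toSetting.theta_le_centralizer hh hh1) hx))]

omit hq

/-- There is no universal `2`-member. -/
theorem Y_two_eq_bot : Yq p 2 A θ = ⊥ := by
  haveI : Fact (Nat.Prime 2) := ⟨Nat.prime_two⟩
  have S := H.toSetting
  by_contra hne
  obtain ⟨h, hh, hh1, hbot⟩ := H.exists_exceptional hne
  have hθ := S.mem_theta hh hh1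
  obtain ⟨M, hM, hle⟩ := S.exists_isMax hθ
  have hM2 : coreIn 2 M = ⊥ := le_bot_iff.mp ((S.coreIn_le_TH hM.1 hle).trans hbot.le)
  obtain ⟨r, hr, hmov⟩ := H.exists_moved_core hh hh1 hM hle
  haveI := Fact.mk hr
  have hr2 : r ≠ 2 := by
    rintro rfl
    exact hmov (hM2 ▸ bot_le)
  have hcm : Mem p A θ (coreIn r M) := S.coreIn_mem hM.1
  set P := ⁅coreIn r M, zpowers h⁆ with hP
  have hPm : Mem p A θ P := S.mem_commutator hcm hh
  have hPY : P ≤ Yq p r A θ := S.le_Y_of_moved hh hh1 (isPGroup_coreIn r M)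
    (hle.trans (le_normalizer_coreIn r M)) hPm (S.commutator_le_self hcm hh)
    (S.commutator_commutator hcm hh).ge (Or.inl hr2)
  have hPne : P ≠ ⊥ := fun h0 => hmov (S.le_centralizer_of_commutator_eq_bot h0)
  obtain ⟨M', hM', hM'le⟩ := H.exists_overgroup hPm hPne
  have hθM' : θ h ≤ M' := hM'le _ hθ fun x hx => by
    rw [mem_normalizer_iff_map_conj_eq, map_commutator,
      mem_normalizer_iff_map_conj_eq.mp ((hle.trans (le_normalizer_coreIn r M)) hx),
      mem_normalizer_iff_map_conj_eq.mp (centralizer_le_normalizer _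
        (le_centralizer_zpowers_of_singleton (S.theta_le_centralizer hh hh1) hx))]
  have hYM' : Yq p 2 A θ ≤ M' := hM'le _ S.mem_Y
    ((S.Y_le_centralizer (fun h2 => hr2 h2.symm)).trans
      ((centralizer_le hPY).trans (centralizer_le_normalizer _)))
  exact hne (le_bot_iff.mp ((S.le_core_of_le_Y hM'.1 le_rfl hYM').trans
    ((S.coreIn_le_TH hM'.1 hθM').trans hbot.le)))

end Minimal

end CfsgLib.Components.SFT
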